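import Mathlib.LinearAlgebra.Matrix.SpecialLinearGroup
import Mathlib.GroupTheory.Abelianization.Defs
import Mathlib.Algebra.GroupWithZero.Action.Defs
import Mathlib.Tactic.LinearCombination
import Mathlib.Tactic.Ring

/-!
# A natural module split off by a central involution

The abstract situation behind the centraliser of the commutator module of an exceptional block:
a group `X` acts on a module `V` of exponent three carrying an alternating form, `E ≤ X` acts on
`V` through `SL₂(F)'` as natural plus trivial, and `C` is a normal subgroup whose elements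
commuting with the central involution `t` of `E` do not act on the natural summand as
non-central elements of `E` do.
-/

set_option autoImplicit false
set_option linter.all false

namespace CfsgLib.LocalEven.BlockCent

open Matrix

variable {F : Type*} [Field F]

/-- The determinant of two vectors of the plane. -/
def det2 (a b : Fin 2 → F) : F := a 0 * b 1 - a 1 * b 0

theorem det2_mulVec (M : Matrix (Fin 2) (Fin 2) F) (a b : Fin 2 → F) :
    det2 (M *ᵥ a) (M *ᵥ b) = M.det * det2 a b := by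
  simp [det2, mulVec, dotProduct, Fin.sum_univ_two, det_fin_two]
  ring

theorem det2_nondeg {b : Fin 2 → F} (h : ∀ a, det2 a b = 0) : b = 0 := by
  have h1 := h ![1, 0]
  have h2 := h ![0, 1]
  simp [det2] at h1 h2
  funext i
  fin_cases i <;> assumption

theorem det2_matrix_ext {A B : Matrix (Fin 2) (Fin 2) F}
    (h : ∀ a b, det2 a (A *ᵥ b) = det2 a (B *ᵥ b)) : A = B := by
  refine Matrix.ext_iff_mulVec.2 fun b => ?_
  rw [← sub_eq_zero]
  refine det2_nondeg fun a => ?_
  have := h a b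
  simp [det2] at this ⊢
  linear_combination this

universe u v w

/-- The abstract data. -/
structure Data (X : Type u) (V : Type v) (A : Type w) [Group X] [AddCommGroup V] [DistribMulAction X V]
    [AddCommGroup A] (F : Type*) [Field F] where
  C : Subgroup X
  E : Subgroup X
  t : X
  hCn : C.Normal
  htE : t ∈ E
  h3 : ∀ v : V, v + v + v = 0
  hA2 : ∀ a : A, a + a = 0 → a = 0
  φ : (Fin 2 → F) →+ V
  hφ : Function.Injective φ
  ρ : ↥E →* Matrix.SpecialLinearGroup (Fin 2) F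
  hρ : ρ.range = commutator (Matrix.SpecialLinearGroup (Fin 2) F)
  hact : ∀ (e : ↥E) (a : Fin 2 → F), (e : X) • φ a = φ ((ρ e : Matrix (Fin 2) (Fin 2) F) *ᵥ a)
  ht : ∀ a, t • φ a = -φ a
  hsub : ∀ (e : ↥E) (v : V), ∃ a, (e : X) • v - v = φ a
  hcomm : ∀ (e : ↥E) (v : V), (e : X) • t • v = t • (e : X) • v
  hgen : AddSubgroup.closure {v : V | ∃ c ∈ C, ∃ a, c • φ a = v} = ⊤
  β : V →+ V →+ A
  halt : ∀ v, β v v = 0
  σ : X → A →+ A
  hσ : ∀ x, Function.Injective (σ x)
  hβ : ∀ x ∈ C, ∀ v w, β (x • v) (x • w) = σ x (β v w)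
  hβE : ∀ (e : ↥E) (v w : V), β ((e : X) • v) ((e : X) • w) = β v w
  hbig : Nat.card F ≤ Nat.card (AddSubgroup.closure {x : A | ∃ a b, β (φ a) (φ b) = x})
  hT : ∀ c ∈ C, (∀ v : V, c • t • v = t • c • v) → ∀ e : ↥E, (∀ a, c • φ a = (e : X) • φ a) →
    ∀ e' : ↥E, Commute (ρ e) (ρ e')

namespace Data

variable {X : Type u} {V : Type v} {A : Type w} [Group X] [AddCommGroup V] [DistribMulAction X V]
  [AddCommGroup A] (D : Data X V A F)
include D

theorem two_add (v : V) : v + v = -v := eq_neg_of_add_eq_zero_left (D.h3 v)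

theorem A_eq_zero {a : A} (h : a + a = 0) : a = 0 := D.hA2 a h

theorem rho_t (a : Fin 2 → F) : (D.ρ ⟨D.t, D.htE⟩ : Matrix (Fin 2) (Fin 2) F) *ᵥ a = -a := by
  refine D.hφ ?_
  rw [← D.hact ⟨D.t, D.htE⟩ a, D.ht, map_neg]

/-- The projection onto the natural summand. -/
noncomputable def p : V →+ (Fin 2 → F) :=
  AddMonoidHom.mk' (fun v => (D.hsub ⟨D.t, D.htE⟩ v).choose) fun v w => D.hφ (by
    rw [map_add, ← (D.hsub ⟨D.t, D.htE⟩ (v + w)).choose_spec, ← (D.hsub ⟨D.t, D.htE⟩ v).choose_spec,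
      ← (D.hsub ⟨D.t, D.htE⟩ w).choose_spec, smul_add]
    abel)

theorem phi_p (v : V) : D.φ (D.p v) = D.t • v - v :=
  (D.hsub ⟨D.t, D.htE⟩ v).choose_spec.symm

@[simp] theorem p_phi (a : Fin 2 → F) : D.p (D.φ a) = a := by
  refine D.hφ ?_
  rw [D.phi_p, D.ht, sub_eq_add_neg, D.two_add, neg_neg]

theorem t_fix_iff {v : V} : D.t • v = v ↔ D.p v = 0 := by
  rw [← sub_eq_zero, ← D.phi_p, map_eq_zero_iff _ D.hφ]

theorem p_E (e : ↥D.E) (v : V) : D.p ((e : X) • v) = (D.ρ e : Matrix (Fin 2) (Fin 2) F) *ᵥ D.p v := by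
  refine D.hφ ?_
  rw [D.phi_p, ← D.hact, D.phi_p, ← D.hcomm, smul_sub]

theorem smul_E (e : ↥D.E) (v : V) :
    (e : X) • v = v + D.φ ((D.ρ e : Matrix (Fin 2) (Fin 2) F) *ᵥ D.p v - D.p v) := by
  obtain ⟨a, ha⟩ := D.hsub e v
  have h := congrArg D.p ha
  rw [map_sub, D.p_E, p_phi] at h
  rw [h, ← ha, add_sub_cancel]

theorem smul_E_fixed (e : ↥D.E) {v : V} (hv : D.p v = 0) : (e : X) • v = v := by
  rw [D.smul_E, hv, mulVec_zero, sub_self, map_zero, add_zero]

theorem p_t (v : V) : D.p (D.t • v) = -D.p v := (D.p_E ⟨D.t, D.htE⟩ v).trans (D.rho_t _)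

theorem tinv_phi (a : Fin 2 → F) : D.t⁻¹ • D.φ a = -D.φ a := by
  rw [inv_smul_eq_iff, smul_neg, D.ht, neg_neg]

theorem tinv_fixed {v : V} (hv : D.p v = 0) : D.t⁻¹ • v = v := by
  rw [inv_smul_eq_iff, D.t_fix_iff.2 hv]

theorem p_tinv (v : V) : D.p (D.t⁻¹ • v) = -D.p v := by
  have h := D.p_t (D.t⁻¹ • v)
  rw [smul_inv_smul] at h
  rw [h, neg_neg]

/-- The fixed part of a vector. -/
noncomputable def θ : V →+ V := AddMonoidHom.id V - D.φ.comp D.p

theorem θ_def (v : V) : D.θ v = v - D.φ (D.p v) := rfl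

@[simp] theorem p_θ (v : V) : D.p (D.θ v) = 0 := by rw [D.θ_def, map_sub, p_phi, sub_self]

theorem θ_fixed {v : V} (hv : D.p v = 0) : D.θ v = v := by rw [D.θ_def, hv, map_zero, sub_zero]

theorem decomp (v : V) : v = D.φ (D.p v) + D.θ v := by rw [D.θ_def, add_sub_cancel]

theorem θ_E (e : ↥D.E) (v : V) : D.θ ((e : X) • v) = D.θ v := by
  rw [D.θ_def, D.θ_def, D.p_E, D.smul_E, map_sub]
  abel

theorem β_skew (v w : V) : D.β v w = -D.β w v := by
  have h := D.halt (v + w)
  simp only [map_add, AddMonoidHom.add_apply, D.halt] at h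
  exact eq_neg_of_add_eq_zero_left (by rw [← h]; abel)

theorem β_phi_fixed (a : Fin 2 → F) {v : V} (hv : D.p v = 0) : D.β (D.φ a) v = 0 := by
  have h := D.hβE ⟨D.t, D.htE⟩ (D.φ a) v
  simp only [D.ht, D.t_fix_iff.2 hv, map_neg, AddMonoidHom.neg_apply] at h
  exact D.A_eq_zero (by nth_rw 1 [← h]; exact neg_add_cancel _)

theorem exists_E (htop : commutator (Matrix.SpecialLinearGroup (Fin 2) F) = ⊤) (M : Matrix.SpecialLinearGroup (Fin 2) F) :
    ∃ e : ↥D.E, D.ρ e = M :=
  MonoidHom.mem_range.1 (by rw [D.hρ, htop]; exact Subgroup.mem_top M)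

end Data

end CfsgLib.LocalEven.BlockCent
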