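import Cfsg.Agent.Lib.LocalEven.BlockCent.Space

/-!
# The action on the module

The image of the core is inverted by the involution of the block, and the rest is fixed.
-/

set_option autoImplicit false
set_option linter.all false

namespace CfsgLib.LocalEven.BlockCent

open Subgroup Cfsg
open CfsgLib.LocalEvenB
open CfsgLib.LocalEvenB.SubBlocks
open scoped commutatorElement

variable {G : Type*} [Group G] [Finite G]

namespace Setting

variable {F : Type} [Field F] [Fintype F] (S : Setting G F)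

/-- The involution in the normaliser. -/
noncomputable def τ : ↥S.H := ⟨S.t, S.E_le_H S.t_mem⟩

/-- An element of the block in the normaliser. -/
def ofE (e : ↥S.E) : ↥S.H := ⟨e, S.E_le_H e.2⟩

@[simp] theorem ofE_coe (e : ↥S.E) : (S.ofE e : G) = e := rfl

/-- The image of the core. -/
def InU (v : S.V) : Prop := ∃ x : ↥S.YM, (x : G) ∈ S.Q ∧ S.vmk x = v

theorem act_trivial_iff {g : ↥S.H} : (∀ v : S.V, g • v = v) ↔ (g : G) ∈ secKer S.YM S.ZM := by
  constructor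
  · intro h
    refine mem_secKer.2 ⟨S.H_le_NYM g.2, S.H_le_NZM g.2, fun y hy => ?_⟩
    exact S.vmk_eq_iff.1 ((S.smul_vmk g ⟨y, hy⟩).symm.trans (h _))
  · intro h v
    obtain ⟨y, rfl⟩ := S.vmk_surj v
    rw [S.smul_vmk, S.vmk_eq_iff]
    exact (mem_secKer.1 h).2.2 y y.2

theorem M_secKer {m : G} (hm : m ∈ S.M) : m ∈ secKer S.YM S.ZM :=
  mem_secKer.2 ⟨mem_normalizer_of_forall fun y hy => by
    have h := mul_mem (S.ZM_le_YM (S.comm_M_YM hm hy)) hy
    rwa [inv_mul_cancel_right] at h,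
    S.top_le_normalizer_ZM ⊤ (mem_top _), fun y hy => S.comm_M_YM hm hy⟩

theorem Q_trivial {g : ↥S.H} (hg : (g : G) ∈ S.Q) (v : S.V) : g • v = v :=
  S.act_trivial_iff.2 (S.M_secKer (S.Q_le_M hg)) v

theorem InU_zero : S.InU 0 := ⟨1, one_mem _, rfl⟩

theorem InU_add {v w : S.V} (hv : S.InU v) (hw : S.InU w) : S.InU (v + w) := by
  obtain ⟨x, hx, rfl⟩ := hv
  obtain ⟨y, hy, rfl⟩ := hw
  exact ⟨x * y, mul_mem hx hy, rfl⟩

theorem InU_neg {v : S.V} (hv : S.InU v) : S.InU (-v) := by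
  obtain ⟨x, hx, rfl⟩ := hv
  exact ⟨x⁻¹, inv_mem hx, rfl⟩

theorem U_neg {v : S.V} (hv : S.InU v) : S.τ • v = -v := by
  obtain ⟨x, hx, rfl⟩ := hv
  rw [S.smul_vmk, ← S.vmk_inv, S.vmk_eq_iff]
  show S.t * x * S.t⁻¹ * (x : G)⁻¹⁻¹ ∈ S.ZM
  rw [inv_inv]
  exact S.W_le_ZM (S.t_invQ x hx)

theorem U_smul {g : ↥S.H} (hg : (g : G) ∈ normalizer (S.Q : Set G)) {v : S.V} (hv : S.InU v) : S.InU (g • v) := by
  obtain ⟨x, hx, rfl⟩ := hv
  exact ⟨_, (mem_normalizer_iff.1 hg _).1 hx, (S.smul_vmk g x).symm⟩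

theorem E_sub_mem (e : ↥S.E) (v : S.V) : S.InU (S.ofE e • v - v) := by
  obtain ⟨y, rfl⟩ := S.vmk_surj v
  rw [S.smul_vmk, sub_eq_add_neg, ← S.vmk_inv, ← S.vmk_mul]
  exact ⟨_, (mem_secKer.1 (S.E_le_secKer_MQ e.2)).2.2 y (S.YM_le_M y.2), rfl⟩

theorem NE_comm {g : ↥S.H} (hg : (g : G) ∈ normalizer (S.E : Set G)) (v : S.V) :
    g • S.τ • v = S.τ • g • v := by
  have hq : ((g * S.τ * g⁻¹ * S.τ⁻¹ : ↥S.H) : G) ∈ S.Q := S.conj_t hg
  have h := S.Q_trivial hq (S.τ • g • v)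
  simp only [mul_smul, inv_smul_smul] at h
  exact h

theorem ofE_comm (e : ↥S.E) (v : S.V) : S.ofE e • S.τ • v = S.τ • S.ofE e • v := S.NE_comm (S.E_le_NE e.2) v

theorem V_two {v : S.V} (h : v + v = 0) : v = 0 := by
  have := S.V_three v
  rwa [h, zero_add] at this

theorem U_fixed_zero {v : S.V} (hv : S.InU v) (hf : S.τ • v = v) : v = 0 := by
  rw [S.U_neg hv] at hf
  exact S.V_two (by nth_rw 1 [← hf]; exact neg_add_cancel _)

theorem E_fix (e : ↥S.E) {f : S.V} (hf : S.τ • f = f) : S.ofE e • f = f :=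
  sub_eq_zero.1 (S.U_fixed_zero (S.E_sub_mem e f) (by rw [smul_sub, ← S.ofE_comm, hf]))

theorem decomp (v : S.V) : ∃ u f : S.V, S.InU u ∧ S.τ • f = f ∧ v = u + f := by
  have hw : S.InU (S.τ • v - v) := S.E_sub_mem ⟨S.t, S.t_mem⟩ v
  refine ⟨S.τ • v - v, v - (S.τ • v - v), hw, ?_, (add_sub_cancel _ _).symm⟩
  rw [smul_sub, S.U_neg hw]
  have h3 := S.V_three (S.τ • v - v)
  linear_combination (norm := abel) h3

theorem comm_U {c : ↥S.H} (hc : ∀ v : S.V, c • S.τ • v = S.τ • c • v) {u : S.V} (hu : S.InU u) : S.InU (c • u) := by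
  obtain ⟨u', f, hu', hf, he⟩ := S.decomp (c • u)
  have h1 : S.τ • c • u = -(c • u) := by rw [← hc, S.U_neg hu, smul_neg]
  rw [he, smul_add, S.U_neg hu', hf, neg_add] at h1
  have hf0 : f = 0 := S.V_two (by nth_rw 1 [add_left_cancel h1]; exact neg_add_cancel _)
  rw [he, hf0, add_zero]
  exact hu'

theorem comm_fix {c : ↥S.H} (hc : ∀ v : S.V, c • S.τ • v = S.τ • c • v) {f : S.V} (hf : S.τ • f = f) :
    S.τ • c • f = c • f := by rw [← hc, hf]

end Setting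

end CfsgLib.LocalEven.BlockCent
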