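import Mathlib.Algebra.CharP.Lemmas
import Mathlib.Algebra.Ring.CharZero
import Mathlib.Data.Fintype.EquivFin
import Cfsg.Agent.Lib.LocalEven.BlockCent.Abstract
import Cfsg.Agent.Lib.LocalEvenB.SubnormalBlocks.Data

/-!
# The form on the natural summand

The form is a determinant composed with an injective additive map, and no element of `C` moves
the natural summand into the fixed one.
-/

set_option autoImplicit false
set_option linter.all false

namespace CfsgLib.LocalEven.BlockCent

open Matrix

variable {F : Type*} [Field F]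

/-- The upper transvection. -/
def upper (x : F) : Matrix.SpecialLinearGroup (Fin 2) F := ⟨!![1, x; 0, 1], by simp [det_fin_two]⟩

/-- The lower transvection. -/
def lower (x : F) : Matrix.SpecialLinearGroup (Fin 2) F := ⟨!![1, 0; x, 1], by simp [det_fin_two]⟩

/-- The torus. -/
def torus (x : F) (hx : x ≠ 0) : Matrix.SpecialLinearGroup (Fin 2) F :=
  ⟨!![x, 0; 0, x⁻¹], by simp [det_fin_two, hx]⟩

theorem mem_three [Fintype F] [CharP F 3] (h : Fintype.card F = 3) (x : F) : x = 0 ∨ x = 1 ∨ x = -1 := by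
  classical
  have h2 : ({0, 1, -1} : Finset F) = Finset.univ := by
    refine Finset.eq_univ_of_card _ ?_
    rw [h, Finset.card_eq_three]
    have hne : (1 : F) ≠ -1 := by
      intro e
      have h0 : ((2 : ℕ) : F) = 0 := by push_cast; linear_combination e
      rw [CharP.cast_eq_zero_iff F 3] at h0
      norm_num at h0
    exact ⟨0, 1, -1, zero_ne_one, (neg_ne_zero.2 one_ne_zero).symm, hne, rfl⟩
  have := Finset.mem_univ x
  rw [← h2] at this
  simpa using this

/-- `F` has three or at least four elements. -/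
theorem card_three_or [Fintype F] [CharP F 3] : Fintype.card F = 3 ∨ 4 ≤ Fintype.card F := by
  haveI : Fact (Nat.Prime 3) := ⟨Nat.prime_three⟩
  obtain ⟨n, hp, hc⟩ := FiniteField.card F 3
  have h : 3 ≤ Fintype.card F := hc ▸ Nat.le_self_pow n.2.ne' 3
  omega

/-- Two generators of the quaternion group. -/
def qi : Matrix.SpecialLinearGroup (Fin 2) (ZMod 3) := ⟨!![0, 1; -1, 0], by decide⟩

/-- Two generators of the quaternion group. -/
def qj : Matrix.SpecialLinearGroup (Fin 2) (ZMod 3) := ⟨!![1, 1; 1, -1], by decide⟩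

universe u v w

namespace Data

variable {X : Type u} {V : Type v} {A : Type w} [Group X] [AddCommGroup V] [DistribMulAction X V]
  [AddCommGroup A] (D : Data X V A F)
include D

/-- The form on the two basic lines. -/
noncomputable def μ : F →+ A :=
  (D.β (D.φ ![1, 0])).comp (D.φ.comp
    (AddMonoidHom.mk' (fun x => ![0, x]) fun x y => by ext i; fin_cases i <;> simp))

theorem μ_def (x : F) : D.μ x = D.β (D.φ ![1, 0]) (D.φ ![0, x]) := rfl

theorem A_neg_eq {a : A} (h : a = -a) : a = 0 := D.A_eq_zero (by nth_rw 2 [h]; exact add_neg_cancel a)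

theorem β_phi [Fintype F] [CharP F 3] (a b : Fin 2 → F) :
    D.β (D.φ a) (D.φ b) = D.μ (det2 a b) := by
  -- the two lines are isotropic and pair through the product
  obtain ⟨B, hB⟩ : ∃ B : (Fin 2 → F) → (Fin 2 → F) → A, ∀ a b, B a b = D.β (D.φ a) (D.φ b) :=
    ⟨_, fun a b => rfl⟩
  have key : (∀ x y, B ![x, 0] ![y, 0] = 0) ∧ (∀ x y, B ![0, x] ![0, y] = 0) ∧
      (∀ x y, B ![x, 0] ![0, y] = D.μ (x * y)) := by
    rcases card_three_or (F := F) with h | h
    · have hm := mem_three h
      have e1 : (![-1, 0] : Fin 2 → F) = -![1, 0] := by ext i; fin_cases i <;> simp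
      have e2 : (![0, -1] : Fin 2 → F) = -![0, 1] := by ext i; fin_cases i <;> simp
      have e0 : (![0, 0] : Fin 2 → F) = 0 := by ext i; fin_cases i <;> simp
      refine ⟨fun x y => ?_, fun x y => ?_, fun x y => ?_⟩
      · rw [hB]
        rcases hm x with rfl | rfl | rfl <;> rcases hm y with rfl | rfl | rfl <;>
          simp only [e1, e0, map_neg, map_zero, AddMonoidHom.neg_apply, AddMonoidHom.zero_apply, D.halt, neg_zero]
      · rw [hB]
        rcases hm x with rfl | rfl | rfl <;> rcases hm y with rfl | rfl | rfl <;>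
          simp only [e2, e0, map_neg, map_zero, AddMonoidHom.neg_apply, AddMonoidHom.zero_apply, D.halt, neg_zero]
      · rcases hm x with rfl | rfl | rfl
        · simp [hB, e0]
        · rw [one_mul, μ_def, hB]
        · rw [hB, e1, map_neg, map_neg, AddMonoidHom.neg_apply, neg_one_mul, map_neg, μ_def]
    · have htop := (CfsgLib.LocalEvenB.SubBlocks.sl2_quasisimple h).2
      classical
      have hinv : ∀ (M : Matrix.SpecialLinearGroup (Fin 2) F) a b, B ((M : Matrix _ _ F) *ᵥ a) ((M : Matrix _ _ F) *ᵥ b) = B a b := by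
        intro M a b
        obtain ⟨e, rfl⟩ := D.exists_E htop M
        rw [hB, hB, ← D.hact, ← D.hact, D.hβE]
      have htor : ∀ (l : F) (hl : l ≠ 0) (x y x' y' : F),
          B ![l * x, l⁻¹ * y] ![l * x', l⁻¹ * y'] = B ![x, y] ![x', y'] := by
        intro l hl x y x' y'
        conv_rhs => rw [← hinv (torus l hl)]
        congr 1 <;> (ext i; fin_cases i <;> simp [torus, mulVec, dotProduct, Fin.sum_univ_two])
      obtain ⟨l, -, hl⟩ : ∃ l ∈ (Finset.univ : Finset F), l ∉ ({0, 1, -1} : Finset F) := by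
        apply Finset.exists_mem_notMem_of_card_lt_card
        rw [Finset.card_univ]
        exact lt_of_le_of_lt Finset.card_le_three h
      simp only [Finset.mem_insert, Finset.mem_singleton, not_or] at hl
      have hl1 : l + 1 ≠ 0 := fun e => hl.2.2 (eq_neg_of_add_eq_zero_left e)
      have hl2 : l - 1 ≠ 0 := sub_ne_zero.2 hl.2.1
      -- a biadditive map invariant under all squares of scalars vanishes
      have hzero : ∀ G : F → F → A, (∀ x x' y, G (x + x') y = G x y + G x' y) →
          (∀ x y y', G x (y + y') = G x y + G x y') → (∀ m x y, m ≠ 0 → G (m * x) (m * y) = G x y) →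
          ∀ x y, G x y = 0 := by
        intro G h1 h2 h3 x y
        have hn1 : ∀ x y, G (-x) y = -G x y := by
          intro x y
          have h0 : G 0 y = 0 := by
            have := h1 0 0 y
            rw [add_zero] at this
            exact left_eq_add.1 this
          refine eq_neg_of_add_eq_zero_left ?_
          rw [← h1, neg_add_cancel, h0]
        have hn2 : ∀ x y, G x (-y) = -G x y := by
          intro x y
          have h0 : G x 0 = 0 := by
            have := h2 x 0 0
            rw [add_zero] at this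
            exact left_eq_add.1 this
          refine eq_neg_of_add_eq_zero_left ?_
          rw [← h2, neg_add_cancel, h0]
        have ea := h3 (l + 1) x y hl1
        have eb := h3 (l - 1) x y hl2
        rw [add_one_mul, add_one_mul, h1, h2, h2, h3 l x y hl.1] at ea
        rw [sub_one_mul, sub_one_mul, sub_eq_add_neg, sub_eq_add_neg, h1, h2, h2, h3 l x y hl.1,
          hn2 (-x), hn1 x y, neg_neg, hn1, hn2] at eb
        refine D.A_eq_zero ?_
        have hs := congrArg₂ (· + ·) ea eb
        have : G x y + G x y + G x y + G x y = G x y + G x y :=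
          Eq.trans (by abel) hs
        exact add_eq_left.1 (by rw [← add_assoc]; exact this)
      refine ⟨fun x y => ?_, fun x y => ?_, fun x y => ?_⟩
      · refine hzero (fun x y => B ![x, 0] ![y, 0]) (fun x x' y => ?_) (fun x y y' => ?_) (fun m x y hm => ?_) x y
        · simp only [hB]
          rw [← AddMonoidHom.add_apply, ← map_add, ← map_add]
          congr 3; ext i; fin_cases i <;> simp
        · simp only [hB]
          rw [← map_add, ← map_add]
          congr 2; ext i; fin_cases i <;> simp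
        · have := htor m hm x 0 y 0
          simpa using this
      · refine hzero (fun x y => B ![0, x] ![0, y]) (fun x x' y => ?_) (fun x y y' => ?_) (fun m x y hm => ?_) x y
        · simp only [hB]
          rw [← AddMonoidHom.add_apply, ← map_add, ← map_add]
          congr 3; ext i; fin_cases i <;> simp
        · simp only [hB]
          rw [← map_add, ← map_add]
          congr 2; ext i; fin_cases i <;> simp
        · have := htor m⁻¹ (inv_ne_zero hm) 0 x 0 y
          simpa using this
      · by_cases hx : x = 0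
        · subst hx
          have : (![0, 0] : Fin 2 → F) = 0 := by ext i; fin_cases i <;> simp
          simp [hB, this]
        · rw [μ_def, ← hB, ← htor x hx 1 0 0 (x * y)]
          simp [hx]
  have ha : a = ![a 0, 0] + ![0, a 1] := by ext i; fin_cases i <;> simp
  have hb : b = ![b 0, 0] + ![0, b 1] := by ext i; fin_cases i <;> simp
  have h1 := key.1 (a 0) (b 0)
  have h2 := key.2.1 (a 1) (b 1)
  have h3 := key.2.2 (a 0) (b 1)
  have h4 := key.2.2 (b 0) (a 1)
  rw [hB] at h1 h2 h3 h4
  rw [ha, hb, map_add, map_add, map_add, map_add, AddMonoidHom.add_apply, AddMonoidHom.add_apply, ← ha, ← hb,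
    h1, h2, h3, D.β_skew (D.φ ![0, a 1]), h4, zero_add, add_zero, neg_add_eq_sub, ← map_sub]
  congr 1
  simp only [det2]
  ring

theorem μ_inj [Fintype F] [CharP F 3] : Function.Injective D.μ := by
  haveI : Finite D.μ.range := Finite.of_surjective D.μ.rangeRestrict D.μ.rangeRestrict_surjective
  have hle : AddSubgroup.closure {x : A | ∃ a b, D.β (D.φ a) (D.φ b) = x} ≤ D.μ.range := by
    rw [AddSubgroup.closure_le]
    rintro _ ⟨a, b, rfl⟩
    exact ⟨det2 a b, (D.β_phi a b).symm⟩
  have hcard : Nat.card F = Nat.card D.μ.range := le_antisymm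
    (D.hbig.trans (Nat.card_le_card_of_injective (fun x => (⟨x, hle x.2⟩ : D.μ.range))
      fun x y h => Subtype.ext (congrArg (fun z : D.μ.range => (z : A)) h)))
    (Nat.card_le_card_of_surjective D.μ.rangeRestrict D.μ.rangeRestrict_surjective)
  have := (Nat.bijective_iff_surjective_and_card D.μ.rangeRestrict).2 ⟨D.μ.rangeRestrict_surjective, hcard⟩
  exact fun x y h => this.1 (Subtype.ext h)

theorem β_phi_left [Fintype F] [CharP F 3] (a : Fin 2 → F) (v : V) :
    D.β (D.φ a) v = D.μ (det2 a (D.p v)) := by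
  conv_lhs => rw [D.decomp v]
  rw [map_add, D.β_phi, D.β_phi_fixed a (D.p_θ v), add_zero]

theorem p_eq_zero_of_orth [Fintype F] [CharP F 3] {v : V} (h : ∀ a, D.β (D.φ a) v = 0) : D.p v = 0 :=
  det2_nondeg fun a => D.μ_inj (by rw [← D.β_phi_left, h, map_zero])

theorem exists_noncommuting [Fintype F] [CharP F 3] : ∃ e e' : ↥D.E, ¬ Commute (D.ρ e) (D.ρ e') := by
  rcases card_three_or (F := F) with h | h
  · have hi : (⟨!![0, 1; -1, 0], by simp [det_fin_two]⟩ : Matrix.SpecialLinearGroup (Fin 2) F) ∈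
        commutator (Matrix.SpecialLinearGroup (Fin 2) F) ∧
      (⟨!![1, 1; 1, -1], by
        have h3 : ((3 : ℕ) : F) = 0 := CharP.cast_eq_zero F 3
        push_cast at h3
        simp [det_fin_two]
        linear_combination -h3⟩ : Matrix.SpecialLinearGroup (Fin 2) F) ∈
        commutator (Matrix.SpecialLinearGroup (Fin 2) F) := by
      haveI : Fact (Nat.Prime 3) := ⟨Nat.prime_three⟩
      let r : ZMod 3 ≃+* F := ZMod.ringEquivOfPrime F Nat.prime_three h
      rw [← CfsgLib.LocalEvenB.SubBlocks.map_commutator_sl2 r]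
      refine ⟨⟨qi, CfsgLib.LocalEvenB.SubBlocks.mem_commutator_sl23.2 (by decide +kernel), ?_⟩,
        ⟨qj, CfsgLib.LocalEvenB.SubBlocks.mem_commutator_sl23.2 (by decide +kernel), ?_⟩⟩
      all_goals (ext i j; rw [Matrix.SpecialLinearGroup.map_apply_coe]; fin_cases i <;> fin_cases j <;> simp [qi, qj])
    rw [← D.hρ] at hi
    obtain ⟨⟨e, he⟩, ⟨e', he'⟩⟩ := hi
    refine ⟨e, e', fun hc => ?_⟩
    rw [he, he'] at hc
    have h0 : (!![0, 1; -1, 0] : Matrix (Fin 2) (Fin 2) F) * !![1, 1; 1, -1] =
        !![1, 1; 1, -1] * !![0, 1; -1, 0] := congrArg Subtype.val hc.eq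
    have := congrFun (congrFun h0 0) 0
    simp [Matrix.mul_apply, Fin.sum_univ_two] at this
    have h2 : ((2 : ℕ) : F) = 0 := by push_cast; linear_combination this
    rw [CharP.cast_eq_zero_iff F 3] at h2
    norm_num at h2
  · have htop := (CfsgLib.LocalEvenB.SubBlocks.sl2_quasisimple h).2
    obtain ⟨e, he⟩ := D.exists_E htop (upper 1)
    obtain ⟨e', he'⟩ := D.exists_E htop (lower 1)
    refine ⟨e, e', fun hc => ?_⟩
    rw [he, he'] at hc
    have := congrArg (fun M : Matrix.SpecialLinearGroup (Fin 2) F => (M : Matrix (Fin 2) (Fin 2) F) 0 0) hc.eq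
    rw [Matrix.SpecialLinearGroup.coe_mul, Matrix.SpecialLinearGroup.coe_mul] at this
    simp [upper, lower, Matrix.mul_apply, Fin.sum_univ_two] at this

theorem β_smul_phi [Fintype F] [CharP F 3] {c : X} (hc : c ∈ D.C) (a b : Fin 2 → F) :
    D.μ (det2 (D.p (c • D.φ a)) b) = D.σ c (D.μ (det2 a (D.p (c⁻¹ • D.φ b)))) := by
  rw [← D.β_phi_left, ← D.hβ c hc, smul_inv_smul, D.β_skew (c • D.φ a), D.β_phi_left, ← map_neg]
  congr 1
  simp only [det2]
  ring

/-- No element of `C` moves the natural summand into the fixed summand. -/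
theorem not_into_fixed [Fintype F] [CharP F 3] {c : X} (hc : c ∈ D.C)
    (h : ∀ a, D.p (c • D.φ a) = 0) : False := by
  have h' : ∀ b, D.p (c⁻¹ • D.φ b) = 0 := fun b => det2_nondeg fun a => D.μ_inj (D.hσ c (by
    rw [← D.β_smul_phi hc, h a, map_zero, map_zero]
    simp [det2]))
  have hfix : ∀ (e : ↥D.E) (a : Fin 2 → F), c • (e : X) • c⁻¹ • D.φ a = D.φ a := fun e a => by
    rw [D.smul_E_fixed e (h' a), smul_inv_smul]
  obtain ⟨e, e', hne⟩ := D.exists_noncommuting
  refine hne (D.hT (c * ((e⁻¹ : ↥D.E) : X) * c⁻¹ * (e : X)) ?_ (fun v => ?_) e (fun a => ?_) e')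
  · rw [mul_assoc c, mul_assoc c, show c * (((e⁻¹ : ↥D.E) : X) * c⁻¹ * (e : X)) =
      c * ((e : X)⁻¹ * c⁻¹ * ((e : X)⁻¹)⁻¹) by rw [inv_inv, Subgroup.coe_inv]]
    exact mul_mem hc (D.hCn.conj_mem _ (inv_mem hc) _)
  · simp only [mul_smul]
    rw [D.hcomm]
    obtain ⟨w, hw⟩ : ∃ w, w = (e : X) • v := ⟨_, rfl⟩
    rw [← hw]
    obtain ⟨d, hd⟩ : ∃ d, d = c • ((e⁻¹ : ↥D.E) : X) • c⁻¹ • w - w := ⟨_, rfl⟩
    have hd0 : D.p d = 0 := by
      rw [hd]
      nth_rw 2 [← smul_inv_smul c w]
      rw [← smul_sub, D.smul_E, add_sub_cancel_left]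
      exact h _
    have h1 : c • ((e⁻¹ : ↥D.E) : X) • c⁻¹ • w = w + d := by rw [hd, add_sub_cancel]
    rw [show D.t • w = w + D.φ (D.p w) by rw [D.phi_p, add_sub_cancel], smul_add, smul_add, smul_add,
      hfix, h1, smul_add, D.t_fix_iff.2 hd0, D.phi_p]
    abel
  · simp only [mul_smul, D.hact e, hfix]

/-- An isotropic fixed summand is invariant. -/
theorem inv_of_iso [Fintype F] [CharP F 3] (hiso : ∀ v w, D.β (D.θ v) (D.θ w) = 0) {c : X} (hc : c ∈ D.C) {f : V}
    (hf : D.p f = 0) : D.p (c • f) = 0 := by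
  have hrad : ∀ v, D.β v f = 0 := fun v => by
    rw [D.decomp v, map_add, AddMonoidHom.add_apply, D.β_phi_fixed _ hf, ← D.θ_fixed hf, hiso, add_zero]
  refine D.p_eq_zero_of_orth fun a => ?_
  rw [← smul_inv_smul c (D.φ a), D.hβ c hc, hrad, map_zero]

theorem iso_of_gen (h : ∀ c ∈ D.C, ∀ d ∈ D.C, ∀ a b, D.β (D.θ (c • D.φ a)) (D.θ (d • D.φ b)) = 0) (v w : V) :
    D.β (D.θ v) (D.θ w) = 0 := by
  have h1 : ∀ x, (∃ c ∈ D.C, ∃ a, c • D.φ a = x) → D.β (D.θ x) (D.θ w) = 0 := by
    rintro _ ⟨c, hc, a, rfl⟩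
    have hw : w ∈ AddSubgroup.closure {v : V | ∃ c ∈ D.C, ∃ a, c • D.φ a = v} := D.hgen ▸ AddSubgroup.mem_top w
    induction hw using AddSubgroup.closure_induction with
    | mem x hx => obtain ⟨d, hd, b, rfl⟩ := hx; exact h c hc d hd a b
    | zero => simp
    | add x y _ _ hx hy => simp [hx, hy]
    | neg x _ hx => simp [hx]
  have hv : v ∈ AddSubgroup.closure {v : V | ∃ c ∈ D.C, ∃ a, c • D.φ a = v} := D.hgen ▸ AddSubgroup.mem_top v
  induction hv using AddSubgroup.closure_induction with
  | mem x hx => exact h1 x hx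
  | zero => simp
  | add x y _ _ hx hy => simp [hx, hy]
  | neg x _ hx => simp [hx]

theorem p_smul_of_inv {c : X} (hi : ∀ f, D.p f = 0 → D.p (c • f) = 0) (v : V) :
    D.p (c • v) = D.p (c • D.φ (D.p v)) := by
  conv_lhs => rw [D.decomp v]
  rw [smul_add, map_add, hi _ (D.p_θ v), add_zero]

end Data

end CfsgLib.LocalEven.BlockCent
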