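import Mathlib.Algebra.CharP.Two
import Cfsg.Agent.Lib.LocalEven.BlockCent.Pairing

/-!
# The fixed summand over larger fields

Conjugates of a line are orthogonal to the line, so the fixed summand is isotropic.
-/

set_option autoImplicit false
set_option linter.all false

namespace CfsgLib.LocalEven.BlockCent

open Matrix

variable {F : Type*} [Field F] [Fintype F] [CharP F 3]

theorem three_eq_zero : (3 : F) = 0 := by
  have h := CharP.cast_eq_zero F 3
  simpa using h

theorem upper_mul (x y : F) : upper x * upper y = upper (x + y) := by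
  ext i j
  rw [Matrix.SpecialLinearGroup.coe_mul]
  fin_cases i <;> fin_cases j <;> simp [upper, Matrix.mul_apply, Fin.sum_univ_two, add_comm]

theorem upper_pow (x : F) (m : ℕ) : upper x ^ m = upper ((m : F) * x) := by
  induction m with
  | zero => ext i j; rw [pow_zero, Matrix.SpecialLinearGroup.coe_one]; fin_cases i <;> fin_cases j <;> simp [upper]
  | succ m ih => rw [pow_succ, ih, upper_mul]; congr 1; push_cast; ring

theorem upper_commute_lower {x : F} (h : Commute (upper x) (lower 1)) : x = 0 := by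
  have h0 : (!![1, x; 0, 1] : Matrix (Fin 2) (Fin 2) F) * !![1, 0; 1, 1] = !![1, 0; 1, 1] * !![1, x; 0, 1] :=
    congrArg Subtype.val h.eq
  have := congrFun (congrFun h0 0) 0
  simpa [Matrix.mul_apply, Fin.sum_univ_two] using this

/-- The product of two transvections. -/
def twoTrans (γ : F) : Matrix.SpecialLinearGroup (Fin 2) F := upper 1 * lower γ

theorem not_three_dvd_orderOf_twoTrans {γ : F} (h0 : γ ≠ 0) (h1 : γ ≠ -1) : ¬ 3 ∣ orderOf (twoTrans γ) := by
  intro hdvd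
  obtain ⟨g, hg3, hg1, hgc⟩ : ∃ g : Matrix.SpecialLinearGroup (Fin 2) F, g ^ 3 = 1 ∧ g ≠ 1 ∧ Commute g (twoTrans γ) := by
    obtain ⟨k, hk⟩ := hdvd
    refine ⟨twoTrans γ ^ k, by rw [← pow_mul, mul_comm, ← hk, pow_orderOf_eq_one], fun h => ?_,
      (Commute.refl _).pow_left k⟩
    have hpos := orderOf_pos (twoTrans γ)
    have hdiv := Nat.le_of_dvd (show 0 < k by have := orderOf_pos (twoTrans γ); omega) (orderOf_dvd_of_pow_eq_one h)
    omega
  have hM : ((twoTrans γ : Matrix.SpecialLinearGroup (Fin 2) F) : Matrix (Fin 2) (Fin 2) F) = !![1 + γ, 1; γ, 1] := by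
    rw [twoTrans, Matrix.SpecialLinearGroup.coe_mul]
    ext i j
    fin_cases i <;> fin_cases j <;> simp [upper, lower, Matrix.mul_apply, Fin.sum_univ_two]
  obtain ⟨a, b, c, d, hg⟩ : ∃ a b c d : F, (g : Matrix (Fin 2) (Fin 2) F) = !![a, b; c, d] :=
    ⟨_, _, _, _, Matrix.eta_fin_two _⟩
  have hc : (g : Matrix (Fin 2) (Fin 2) F) * !![1 + γ, 1; γ, 1] = !![1 + γ, 1; γ, 1] * (g : Matrix (Fin 2) (Fin 2) F) := by
    rw [← hM, ← Matrix.SpecialLinearGroup.coe_mul, hgc.eq, Matrix.SpecialLinearGroup.coe_mul]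
  rw [hg] at hc
  have e00 := congrFun (congrFun hc 0) 0
  have e01 := congrFun (congrFun hc 0) 1
  simp [Matrix.mul_apply, Fin.sum_univ_two] at e00 e01
  have hcb : c = γ * b := by linear_combination -e00
  have hd : d = a - γ * b := by linear_combination -e01
  subst hcb hd
  have hdet : (g : Matrix (Fin 2) (Fin 2) F).det = 1 := g.2
  rw [hg, det_fin_two_of] at hdet
  have hcube : (!![a, b; γ * b, a - γ * b] : Matrix (Fin 2) (Fin 2) F) * !![a, b; γ * b, a - γ * b] *
      !![a, b; γ * b, a - γ * b] = 1 := by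
    rw [← hg, ← Matrix.SpecialLinearGroup.coe_mul, ← Matrix.SpecialLinearGroup.coe_mul,
      ← pow_three', hg3, Matrix.SpecialLinearGroup.coe_one]
  have f00 := congrFun (congrFun hcube 0) 0
  have f01 := congrFun (congrFun hcube 0) 1
  simp [Matrix.mul_apply, Fin.sum_univ_two] at f00 f01
  have h3 := three_eq_zero (F := F)
  have hb : b = 0 := by
    by_contra hb
    have hτ2 : (2 * a - γ * b) * (2 * a - γ * b) = 1 := by
      refine mul_left_cancel₀ hb ?_
      linear_combination f01 + b * hdet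
    have hτ : 2 * a - γ * b = 2 := by
      linear_combination -f00 + a * hτ2 - (a + (2 * a - γ * b)) * hdet - h3
    have hz : b * b * (γ * (γ + 1)) = 0 := by
      linear_combination -hdet + 2 * (1 + a - 2 * γ * b) * hτ +
        ((γ * b - a + 1) * (1 + a - 2 * γ * b) - γ * b + γ * γ * b * b) * h3
    rcases mul_eq_zero.1 hz with h | h
    · exact hb (mul_self_eq_zero.1 h)
    · rcases mul_eq_zero.1 h with h | h
      · exact h0 h
      · exact h1 (eq_neg_of_add_eq_zero_left h)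
  refine hg1 (Subtype.ext ?_)
  subst hb
  simp at hdet f00
  have ha : a = 1 := by
    have : a * (a * a) = a * 1 := by rw [hdet]
    rw [mul_one] at this
    linear_combination f00 - this
  show (g : Matrix (Fin 2) (Fin 2) F) = _
  rw [hg, ha]
  ext i j
  fin_cases i <;> fin_cases j <;> simp

theorem twoTrans_neg_one : (upper (1 : F) * lower (-1) * upper 1) ^ 4 = 1 := by
  apply Subtype.ext
  have h : ((upper (1 : F) * lower (-1) * upper 1 : Matrix.SpecialLinearGroup (Fin 2) F) : Matrix (Fin 2) (Fin 2) F) =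
      !![0, 1; -1, 0] := by
    rw [Matrix.SpecialLinearGroup.coe_mul, Matrix.SpecialLinearGroup.coe_mul]
    ext i j
    fin_cases i <;> fin_cases j <;> simp [upper, lower, Matrix.mul_apply, Fin.sum_univ_two]
  show (((upper (1 : F) * lower (-1) * upper 1) ^ 4 : Matrix.SpecialLinearGroup (Fin 2) F) : Matrix (Fin 2) (Fin 2) F) = _
  rw [Matrix.SpecialLinearGroup.coe_pow, h, Matrix.SpecialLinearGroup.coe_one, pow_succ, pow_succ, pow_succ, pow_one]
  ext i j
  fin_cases i <;> fin_cases j <;> simp [Matrix.mul_apply, Fin.sum_univ_two]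

universe u v w

namespace Data

variable {X : Type u} {V : Type v} {A : Type w} [Group X] [AddCommGroup V] [DistribMulAction X V]
  [AddCommGroup A] (D : Data X V A F)
include D

/-- The first basic line. -/
noncomputable def ℓ : F →+ V :=
  D.φ.comp (AddMonoidHom.mk' (fun x => ![x, 0]) fun x y => by ext i; fin_cases i <;> simp)

theorem ℓ_def (x : F) : D.ℓ x = D.φ ![x, 0] := rfl

/-- The second coordinate of the projection. -/
noncomputable def q : V →+ F :=
  (Pi.evalAddMonoidHom (fun _ : Fin 2 => F) 1).comp D.p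

theorem q_def (v : V) : D.q v = D.p v 1 := rfl

theorem β_ℓ (x : F) (v : V) : D.β (D.ℓ x) v = D.μ (x * D.q v) := by
  rw [D.ℓ_def, D.β_phi_left]
  congr 1
  simp [det2, q_def]

@[simp] theorem q_ℓ (x : F) : D.q (D.ℓ x) = 0 := by rw [q_def, ℓ_def, p_phi]; simp

theorem smul_upper {e : ↥D.E} {a : F} (he : D.ρ e = upper a) (v : V) : (e : X) • v = v + D.ℓ (a * D.q v) := by
  rw [D.smul_E, he, D.ℓ_def]
  congr 2
  ext i
  fin_cases i <;> simp [upper, mulVec, dotProduct, Fin.sum_univ_two, q_def]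

/-- Conjugates of a line are orthogonal to it. -/
theorem line_orth (h4 : 4 ≤ Fintype.card F) {c : X} (hc : c ∈ D.C) (y : F) : D.q (c • D.ℓ y) = 0 := by
  classical
  have htop := (CfsgLib.LocalEvenB.SubBlocks.sl2_quasisimple h4).2
  -- the two pairings
  obtain ⟨P, hP⟩ : ∃ P : F →+ F, ∀ y, P y = D.q (c • D.ℓ y) :=
    ⟨D.q.comp ((DistribSMul.toAddMonoidHom V c).comp D.ℓ), fun y => rfl⟩
  obtain ⟨K, hK⟩ : ∃ K : F →+ F, ∀ y, K y = D.q (c⁻¹ • D.ℓ y) :=
    ⟨D.q.comp ((DistribSMul.toAddMonoidHom V c⁻¹).comp D.ℓ), fun y => rfl⟩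
  rw [← hP]
  have hR : ∀ x y, D.σ c (D.μ (y * K x)) = -D.μ (x * P y) := fun x y => by
    rw [hK, ← D.β_ℓ, ← D.hβ c hc, smul_inv_smul, D.β_skew, D.β_ℓ, hP]
  have hinj : ∀ z, D.σ c (D.μ z) = 0 → z = 0 := fun z h =>
    D.μ_inj ((D.hσ c (h.trans (map_zero _).symm)).trans (map_zero _).symm)
  by_contra hne
  have hk : K 1 ≠ 0 := by
    intro h0
    have := hR 1 y
    rw [h0, mul_zero, map_zero, map_zero, one_mul, eq_comm, neg_eq_zero] at this
    exact hne (D.μ_inj (this.trans (map_zero _).symm))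
  have hPinj : Function.Injective P := (injective_iff_map_eq_zero P).2 fun z hz => by
    have := hR 1 z
    rw [hz, mul_zero, map_zero, neg_zero] at this
    exact (mul_eq_zero.1 (hinj _ this)).resolve_right hk
  have hPs : Function.Surjective P := Finite.surjective_of_injective hPinj
  have hKinj : Function.Injective K := (injective_iff_map_eq_zero K).2 fun x hx => by
    have := hR x 1
    rw [hx, mul_zero, map_zero, map_zero, eq_comm, neg_eq_zero] at this
    have h1 : P 1 ≠ 0 := fun h => one_ne_zero (hPinj (h.trans (map_zero P).symm))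
    exact (mul_eq_zero.1 (D.μ_inj (this.trans (map_zero _).symm))).resolve_right h1
  have hKs : Function.Surjective K := Finite.surjective_of_injective hKinj
  have hPK : ∀ b x, P (b * K 1 * K x / K 1) = x * P (b * K 1) := by
    intro b x
    have h1 := hR x (b * K 1)
    have h2 := hR 1 (b * K 1 * K x / K 1)
    rw [one_mul, div_mul_cancel₀ _ hk, h1, neg_inj] at h2
    exact (D.μ_inj h2).symm
  -- a scalar outside the prime field
  obtain ⟨ω, -, hω⟩ : ∃ ω ∈ (Finset.univ : Finset F), ω ∉ ({0, 1, -1} : Finset F) := by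
    apply Finset.exists_mem_notMem_of_card_lt_card
    rw [Finset.card_univ]
    exact lt_of_le_of_lt Finset.card_le_three h4
  simp only [Finset.mem_insert, Finset.mem_singleton, not_or] at hω
  obtain ⟨e1, he1⟩ := D.exists_E htop (upper 1)
  obtain ⟨eω, heω⟩ := D.exists_E htop (upper ω)
  obtain ⟨f, hf⟩ : ∃ f, f = c * (eω : X) * c⁻¹ := ⟨_, rfl⟩
  obtain ⟨γ, hγ⟩ : ∃ γ, γ = P (ω * K 1) := ⟨_, rfl⟩
  have hγ0 : γ ≠ 0 := by
    rw [hγ]
    exact fun h => mul_ne_zero hω.1 hk (hPinj (h.trans (map_zero P).symm))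
  have hfv : ∀ v, f • v = v + c • D.ℓ (ω * D.q (c⁻¹ • v)) := fun v => by
    rw [hf, mul_smul, mul_smul, D.smul_upper heω, smul_add, smul_inv_smul]
  -- elements acting as a matrix on the plane spanned by the two lines
  obtain ⟨P', hP'⟩ : ∃ P' : F →+ F, ∀ z, P (P' z) = z :=
    ⟨((AddEquiv.ofBijective P ⟨hPinj, hPs⟩).symm : F →+ F), fun z => (AddEquiv.ofBijective P ⟨hPinj, hPs⟩).apply_symm_apply z⟩
  let Rep : X → Matrix (Fin 2) (Fin 2) F → Prop := fun h M => ∀ (a : Fin 2 → F) (r : V), D.q r = 0 → D.q (c⁻¹ • r) = 0 →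
    h • (D.ℓ (a 0) + c • D.ℓ (P' (a 1)) + r) = D.ℓ ((M *ᵥ a) 0) + c • D.ℓ (P' ((M *ᵥ a) 1)) + r
  have hq1 : ∀ (a : Fin 2 → F) (r : V), D.q r = 0 → D.q (D.ℓ (a 0) + c • D.ℓ (P' (a 1)) + r) = a 1 := fun a r hr => by
    rw [map_add, map_add, q_ℓ, hr, ← hP, hP', zero_add, add_zero]
  have hq2 : ∀ (a : Fin 2 → F) (r : V), D.q (c⁻¹ • r) = 0 →
      D.q (c⁻¹ • (D.ℓ (a 0) + c • D.ℓ (P' (a 1)) + r)) = K (a 0) := fun a r hr => by
    rw [smul_add, smul_add, inv_smul_smul, map_add, map_add, q_ℓ, hr, ← hK, add_zero, add_zero]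
  have hRe : Rep (e1 : X) (upper (1 : F) : Matrix (Fin 2) (Fin 2) F) := by
    intro a r hr hr'
    rw [D.smul_upper he1, hq1 a r hr, one_mul]
    simp [upper, mulVec, dotProduct, Fin.sum_univ_two]
    abel
  have hRf : Rep f (lower γ : Matrix (Fin 2) (Fin 2) F) := by
    intro a r hr hr'
    rw [hfv, hq2 a r hr']
    have h1 : (lower γ : Matrix (Fin 2) (Fin 2) F) *ᵥ a = ![a 0, γ * a 0 + a 1] := by
      ext i; fin_cases i <;> simp [lower, mulVec, dotProduct, Fin.sum_univ_two]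
    have h2 : ω * K (a 0) = P' (γ * a 0) := hPinj (by
      rw [hP', hγ, mul_comm (P _) (a 0), ← hPK]
      congr 1
      field_simp)
    rw [h1, h2]
    simp only [Matrix.cons_val_zero, Matrix.cons_val_one, map_add, smul_add]
    abel
  have hRm : ∀ g h M N, Rep g M → Rep h N → Rep (g * h) (M * N) := by
    intro g h M N hg hh a r hr hr'
    rw [mul_smul, hh a r hr hr', hg _ r hr hr', mulVec_mulVec]
  have hRp : ∀ g (M : Matrix (Fin 2) (Fin 2) F), Rep g M → ∀ n : ℕ, Rep (g ^ n) (M ^ n) := by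
    intro g M hg n
    induction n with
    | zero => intro a r _ _; simp
    | succ n ih => rw [pow_succ, pow_succ]; exact hRm _ _ _ _ ih hg
  have hR1 : ∀ g, Rep g 1 → ∀ v : V, g • v = v := by
    intro g hg v
    obtain ⟨x, hx⟩ := hKs (D.q (c⁻¹ • v))
    obtain ⟨r, hr⟩ : ∃ r, r = v - (D.ℓ x + c • D.ℓ (P' (D.q v))) := ⟨_, rfl⟩
    have hr1 : D.q r = 0 := by rw [hr, map_sub, map_add, q_ℓ, ← hP, hP', zero_add, sub_self]
    have hr2 : D.q (c⁻¹ • r) = 0 := by
      rw [hr, smul_sub, smul_add, inv_smul_smul, map_sub, map_add, q_ℓ, ← hK, hx, add_zero, sub_self]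
    have h1 := hg ![x, D.q v] r hr1 hr2
    simp only [one_mulVec, Matrix.cons_val_zero, Matrix.cons_val_one] at h1
    rwa [hr, add_sub_cancel] at h1
  -- a word trivial on `V` that is a transvection modulo `C`
  obtain ⟨w, e, a, m, hw, he, ha, hwe, hm⟩ : ∃ (w : X) (e : ↥D.E) (a : F) (m : ℕ),
      (∀ v : V, (w ^ m) • v = v) ∧ D.ρ e = upper a ∧ a ≠ 0 ∧
      (QuotientGroup.mk w : X ⧸ D.C) = QuotientGroup.mk (e : X) ∧ (m : F) ≠ 0 := by
    haveI := D.hCn
    have hfq : (QuotientGroup.mk f : X ⧸ D.C) = QuotientGroup.mk (eω : X) := by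
      have hc1 : (QuotientGroup.mk c : X ⧸ D.C) = 1 := (QuotientGroup.eq_one_iff c).2 hc
      rw [hf, QuotientGroup.mk_mul, QuotientGroup.mk_mul, QuotientGroup.mk_inv, hc1, one_mul, inv_one, mul_one]
    by_cases hγ1 : γ = -1
    · refine ⟨(e1 : X) * f * (e1 : X), e1 * eω * e1, 1 + ω + 1, 4, hR1 _ ?_, ?_, ?_, ?_, ?_⟩
      · have h1 := hRp _ _ (hRm _ _ _ _ (hRm _ _ _ _ hRe hRf) hRe) 4
        rw [hγ1, ← Matrix.SpecialLinearGroup.coe_mul, ← Matrix.SpecialLinearGroup.coe_mul,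
          ← Matrix.SpecialLinearGroup.coe_pow, twoTrans_neg_one, Matrix.SpecialLinearGroup.coe_one] at h1
        exact h1
      · rw [map_mul, map_mul, he1, heω, upper_mul, upper_mul]
      · intro h
        exact hω.2.1 (by linear_combination h - three_eq_zero (F := F))
      · simp only [Subgroup.coe_mul, QuotientGroup.mk_mul, hfq]
      · intro h
        rw [CharP.cast_eq_zero_iff F 3] at h
        norm_num at h
    · refine ⟨(e1 : X) * f, e1 * eω, 1 + ω, orderOf (twoTrans γ), hR1 _ ?_, ?_, ?_, ?_, ?_⟩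
      · have h1 := hRp _ _ (hRm _ _ _ _ hRe hRf) (orderOf (twoTrans γ))
        rw [← Matrix.SpecialLinearGroup.coe_mul, ← Matrix.SpecialLinearGroup.coe_pow,
          show upper (1 : F) * lower γ = twoTrans γ from rfl, pow_orderOf_eq_one,
          Matrix.SpecialLinearGroup.coe_one] at h1
        exact h1
      · rw [map_mul, he1, heω, upper_mul]
      · intro h
        exact hω.2.2 (by linear_combination h)
      · simp only [Subgroup.coe_mul, QuotientGroup.mk_mul, hfq]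
      · intro h
        rw [CharP.cast_eq_zero_iff F 3] at h
        exact not_three_dvd_orderOf_twoTrans hγ0 hγ1 h
  obtain ⟨e', he'⟩ := D.exists_E htop (lower 1)
  have hc'C : (w ^ m)⁻¹ * ((e ^ m : ↥D.E) : X) ∈ D.C := by
    haveI := D.hCn
    rw [← QuotientGroup.eq, QuotientGroup.mk_pow, hwe, ← QuotientGroup.mk_pow, SubmonoidClass.coe_pow]
  have hwi : ∀ v : V, (w ^ m)⁻¹ • v = v := fun v => by rw [inv_smul_eq_iff, hw]
  have hcom := D.hT _ hc'C (fun v => by simp only [mul_smul, hwi, D.hcomm]) (e ^ m) (fun a => by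
    simp only [mul_smul, hwi]) e'
  rw [he', map_pow, he, upper_pow] at hcom
  exact mul_ne_zero hm ha (upper_commute_lower hcom)

theorem exists_moving (h4 : 4 ≤ Fintype.card F) {a : Fin 2 → F} (ha : a ≠ 0) :
    ∃ e : ↥D.E, ∀ x, (D.ρ e : Matrix (Fin 2) (Fin 2) F) *ᵥ ![x, 0] = x • a := by
  have htop := (CfsgLib.LocalEvenB.SubBlocks.sl2_quasisimple h4).2
  by_cases h0 : a 0 = 0
  · have h1 : a 1 ≠ 0 := fun h => ha (by ext i; fin_cases i <;> assumption)
    obtain ⟨e, he⟩ := D.exists_E htop ⟨!![0, -(a 1)⁻¹; a 1, 0], by simp [det_fin_two, h1]⟩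
    refine ⟨e, fun x => ?_⟩
    ext i
    fin_cases i <;> simp [he, mulVec, dotProduct, Fin.sum_univ_two, h0, mul_comm]
  · obtain ⟨e, he⟩ := D.exists_E htop ⟨!![a 0, 0; a 1, (a 0)⁻¹], by simp [det_fin_two, h0]⟩
    refine ⟨e, fun x => ?_⟩
    ext i
    fin_cases i <;> simp [he, mulVec, dotProduct, Fin.sum_univ_two, mul_comm]

theorem line_image (h4 : 4 ≤ Fintype.card F) {c : X} (hc : c ∈ D.C) {a : Fin 2 → F} (ha : a ≠ 0) (x : F) :
    ∃ c' ∈ D.C, ∃ e : ↥D.E, c • D.φ (x • a) = (e : X) • c' • D.ℓ x ∧ ∃ r : F, D.p (c • D.φ (x • a)) = r • a := by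
  obtain ⟨e, he⟩ := D.exists_moving h4 ha
  obtain ⟨c', hc'⟩ : ∃ c', c' = (e : X)⁻¹ * c * ((e : X)⁻¹)⁻¹ := ⟨_, rfl⟩
  have hc'C : c' ∈ D.C := hc' ▸ D.hCn.conj_mem c hc _
  have heq : c • D.φ (x • a) = (e : X) • c' • D.ℓ x := by
    rw [hc', inv_inv, mul_smul, mul_smul, smul_inv_smul, D.ℓ_def, D.hact, he]
  refine ⟨c', hc'C, e, heq, D.p (c' • D.ℓ x) 0, ?_⟩
  rw [heq, D.p_E]
  have h1 : D.p (c' • D.ℓ x) = ![D.p (c' • D.ℓ x) 0, 0] := by
    ext i
    fin_cases i
    · rfl
    · exact D.line_orth h4 hc'C x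
  rw [h1, he]
  simp

theorem iso_big (h4 : 4 ≤ Fintype.card F) {c : X} (hc : c ∈ D.C) {d : X} (hd : d ∈ D.C) (a b : Fin 2 → F) :
    D.β (D.θ (c • D.φ a)) (D.θ (d • D.φ b)) = 0 := by
  rcases eq_or_ne a 0 with rfl | ha
  · simp
  rcases eq_or_ne b 0 with rfl | hb
  · simp
  obtain ⟨c', hc', e, he, -⟩ := D.line_image h4 hc ha 1
  obtain ⟨d', hd', e', he', -⟩ := D.line_image h4 hd hb 1
  rw [one_smul] at he he'
  rw [he, he', D.θ_E, D.θ_E]
  have h0 : D.β (c' • D.ℓ 1) (d' • D.ℓ 1) = 0 := by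
    have : d' • D.ℓ 1 = c' • (c'⁻¹ * d') • D.ℓ 1 := by rw [← mul_smul, mul_inv_cancel_left]
    rw [this, D.hβ c' hc', D.β_ℓ, D.line_orth h4 (mul_mem (inv_mem hc') hd'), mul_zero, map_zero, map_zero]
  rw [D.decomp (c' • D.ℓ 1), D.decomp (d' • D.ℓ 1)] at h0
  simp only [map_add, AddMonoidHom.add_apply, D.β_phi, D.β_phi_fixed _ (D.p_θ _),
    D.β_skew (D.θ (c' • D.ℓ 1)) (D.φ _), neg_zero, add_zero, zero_add] at h0
  have h1 : det2 (D.p (c' • D.ℓ 1)) (D.p (d' • D.ℓ 1)) = 0 := by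
    have e1 : D.p (c' • D.ℓ 1) 1 = 0 := D.line_orth h4 hc' 1
    have e2 : D.p (d' • D.ℓ 1) 1 = 0 := D.line_orth h4 hd' 1
    simp [det2, e1, e2]
  rwa [h1, map_zero, zero_add] at h0

/-- The fixed summand is invariant and `C` commutes with `E` modulo it. -/
theorem concl_big (h4 : 4 ≤ Fintype.card F) {c : X} (hc : c ∈ D.C) :
    (∀ f, D.p f = 0 → D.p (c • f) = 0) ∧
      ∀ (e : ↥D.E) (v : V), D.p (c • (e : X) • v) = D.p ((e : X) • c • v) := by
  have hiso := D.iso_of_gen fun c hc d hd a b => D.iso_big h4 hc hd a b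
  have hinvF : ∀ f, D.p f = 0 → D.p (c • f) = 0 := fun f hf => D.inv_of_iso hiso hc hf
  refine ⟨hinvF, ?_⟩
  -- the projected action fixes every line
  obtain ⟨N, hN⟩ : ∃ N : (Fin 2 → F) →+ (Fin 2 → F), ∀ a, N a = D.p (c • D.φ a) :=
    ⟨D.p.comp ((DistribSMul.toAddMonoidHom V c).comp D.φ), fun a => rfl⟩
  have hline : ∀ a : Fin 2 → F, a ≠ 0 → ∀ x : F, ∃ r : F, N (x • a) = r • a := fun a ha x => by
    obtain ⟨-, -, -, -, r, hr⟩ := D.line_image h4 hc ha x
    exact ⟨r, by rw [hN, hr]⟩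
  have h0 : ∀ x : F, N ![x, 0] = ![N ![x, 0] 0, 0] := fun x => by
    obtain ⟨r, hr⟩ := hline ![1, 0] (fun h => one_ne_zero (congrFun h 0)) x
    rw [show x • (![1, 0] : Fin 2 → F) = ![x, 0] by simp] at hr
    ext i
    fin_cases i <;> simp [hr]
  have h1 : ∀ x : F, N ![0, x] = ![0, N ![0, x] 1] := fun x => by
    obtain ⟨r, hr⟩ := hline ![0, 1] (fun h => one_ne_zero (congrFun h 1)) x
    rw [show x • (![0, 1] : Fin 2 → F) = ![0, x] by simp] at hr
    ext i
    fin_cases i <;> simp [hr]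
  have hxy : ∀ x y : F, N ![x, 0] 0 * y = N ![0, y] 1 * x := by
    intro x y
    by_cases h : (![x, y] : Fin 2 → F) = 0
    · have hx : x = 0 := congrFun h 0
      have hy : y = 0 := congrFun h 1
      simp [hx, hy]
    obtain ⟨r, hr⟩ := hline _ h 1
    rw [one_smul, show (![x, y] : Fin 2 → F) = ![x, 0] + ![0, y] by simp, map_add, h0, h1] at hr
    have e0 := congrFun hr 0
    have e1 := congrFun hr 1
    simp at e0 e1
    rw [e0, e1]
    ring
  obtain ⟨k, hk⟩ : ∃ k, k = N ![1, 0] 0 := ⟨_, rfl⟩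
  have hy : ∀ y, N ![0, y] 1 = k * y := fun y => by rw [hk, hxy, mul_one]
  have hx : ∀ x, N ![x, 0] 0 = k * x := fun x => by
    have := hxy x 1
    rw [mul_one, hy, mul_one] at this
    exact this
  have hNk : ∀ a, N a = k • a := fun a => by
    rw [show a = ![a 0, 0] + ![0, a 1] by ext i; fin_cases i <;> simp, map_add, h0, h1, hx, hy]
    ext i
    fin_cases i <;> simp
  intro e v
  rw [D.p_smul_of_inv hinvF, D.p_E e (c • v), D.p_smul_of_inv hinvF v, ← hN, ← hN, hNk, hNk, D.p_E, mulVec_smul]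

end Data

end CfsgLib.LocalEven.BlockCent
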