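import Cfsg.Agent.Lib.LocalEvenB.SubnormalBlocks.Data

/-!
# An exceptional block inside `O_p(G)`

When the core of an exceptional block meets `M = O_3(G)` outside `Ω₁(Z(O_3(E)))`, it lies in `M`,
`W` is central in `M`, and `Z(M)` splits under the central involution of the block.
-/

set_option autoImplicit false
set_option linter.all false

namespace CfsgLib.LocalEven.BlockCent

open Subgroup Cfsg
open CfsgLib.LocalEvenB
open CfsgLib.LocalEvenB.SubBlocks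
open scoped commutatorElement

variable {G : Type*} [Group G] [Finite G]

theorem sup_normalizer {A B : Subgroup G} :
    normalizer (A : Set G) ⊓ normalizer (B : Set G) ≤ normalizer ((A ⊔ B : Subgroup G) : Set G) := fun g hg => by
  have h1 := map_conj_eq_self_iff_mem_normalizer.2 hg.1
  have h2 := map_conj_eq_self_iff_mem_normalizer.2 hg.2
  exact map_conj_eq_self_iff_mem_normalizer.1 (by rw [Subgroup.map_sup, h1, h2])

/-- Minus the identity over the field of three elements. -/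
def negOne3 : Matrix.SpecialLinearGroup (Fin 2) (ZMod 3) := ⟨!![-1, 0; 0, -1], by decide⟩

/-- An exceptional block whose core meets `O_3(G)` outside `W`. -/
structure Setting (G : Type*) [Group G] [Finite G] (F : Type) [Field F] [Fintype F] where
  T : Sylow 3 G
  E : Subgroup G
  n : ℕ
  hG : centralizer (pCore 3 G : Set G) ≤ pCore 3 G
  hE : IsBaumannBlock 3 (T : Subgroup G) E
  hcard : Fintype.card F = 3 ^ n
  hchar : CharP F 3
  hiso : Nonempty (↥E ⧸ pCore 3 ↥E ≃* ↥(commutator (Matrix.SpecialLinearGroup (Fin 2) F)))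
  hWact : ActsAsSL2OnSection F (commutator (Matrix.SpecialLinearGroup (Fin 2) F)) E (bW 3 E) (bZ 3 E)
  hQact : ActsAsSL2OnSection F (commutator (Matrix.SpecialLinearGroup (Fin 2) F)) E (pCoreOf 3 E) (bW 3 E)
  hcom : ⁅pCoreOf 3 E, pCoreOf 3 E⁆ = bZ 3 E
  hZcard : Nat.card (bZ 3 E) = 3 ^ n
  hexc : ∀ b : G, b ∈ baumannSubgroupOf 3 (T : Subgroup G) → b ∉ centralizer (bW 3 E : Set G) →
    ¬ ⁅⁅pCoreOf 3 E, zpowers b⁆, zpowers b⁆ ≤ bZ 3 E
  hmeet : ¬ pCoreOf 3 E ⊓ pCore 3 G ≤ bW 3 E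

namespace Setting

instance : Fact (Nat.Prime 3) := ⟨Nat.prime_three⟩

variable {F : Type} [Field F] [Fintype F] (S : Setting G F)

/-- `O_3(E)`. -/
abbrev Q : Subgroup G := pCoreOf 3 S.E
/-- `Ω₁(Z(O_3(E)))`. -/
abbrev W : Subgroup G := bW 3 S.E
/-- The points of `W` fixed by the block. -/
abbrev Z : Subgroup G := bZ 3 S.E
/-- The commutator module. -/
abbrev WE : Subgroup G := bM 3 S.E
/-- `O_3(G)`. -/
abbrev M (_S : Setting G F) : Subgroup G := pCore 3 G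
/-- The centre of `O_3(G)`. -/
abbrev ZM (_S : Setting G F) : Subgroup G := pCore 3 G ⊓ centralizer (pCore 3 G : Set G)
/-- The Baumann subgroup. -/
abbrev B : Subgroup G := baumannSubgroupOf 3 (S.T : Subgroup G)

instance M_normal : S.M.Normal := CfsgLib.Core.normal_pCore 3 G

theorem n_pos : 1 ≤ S.n := Nat.one_le_iff_ne_zero.2 fun h => by
  have h1 := S.hcard
  rw [h, pow_zero] at h1
  exact absurd h1 (Fintype.one_lt_card (α := F)).ne'

theorem M_pGroup : IsPGroup 3 S.M := CfsgLib.Core.isPGroup_pCore 3 G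
theorem Q_pGroup : IsPGroup 3 S.Q := isPGroup_pCoreOf S.E
theorem Q_le_E : S.Q ≤ S.E := pCoreOf_le S.E
theorem W_le_Q : S.W ≤ S.Q := bW_le S.E
theorem Z_le_W : S.Z ≤ S.W := inf_le_left

theorem le_normalizer_M (X : Subgroup G) : X ≤ normalizer (S.M : Set G) := by
  rw [normalizer_eq_top_iff.2 S.M_normal]; exact le_top

theorem top_le_normalizer_ZM (X : Subgroup G) : X ≤ normalizer (S.ZM : Set G) := fun g _ =>
  (le_inf (S.le_normalizer_M ⊤) ((S.le_normalizer_M ⊤).trans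
    (CfsgLib.Signalizer.normalizer_le_normalizer_centralizer_set S.M))).trans inf_normalizer_le_normalizer_inf
    (mem_top g)

theorem M_le_NE : S.M ≤ normalizer (S.E : Set G) :=
  block_normalized S.T S.hE S.M_pGroup (S.le_normalizer_M _) (S.le_normalizer_M _)

theorem NE_le_NQ : normalizer (S.E : Set G) ≤ normalizer (S.Q : Set G) :=
  CfsgLib.LocalEven.normalizer_le_normalizer_pCoreOf S.E

theorem NE_le_NW : normalizer (S.E : Set G) ≤ normalizer (S.W : Set G) := normalizer_le_bW S.E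

theorem NE_le_NZ : normalizer (S.E : Set G) ≤ normalizer (S.Z : Set G) := normalizer_le_bZ S.E

theorem NE_le_NWE : normalizer (S.E : Set G) ≤ normalizer (S.WE : Set G) := normalizer_le_bM S.E

theorem B_le_NE : S.B ≤ normalizer (S.E : Set G) := by
  have := Subgroup.normalizer_commutator_ge_right S.E S.B
  rwa [S.hE.2.1] at this

theorem E_le_NE : S.E ≤ normalizer (S.E : Set G) := le_normalizer

theorem Q_le_NE : S.Q ≤ normalizer (S.E : Set G) := S.Q_le_E.trans le_normalizer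

theorem comm_M_E_le_Q {m e : G} (hm : m ∈ S.M) (he : e ∈ S.E) : ⁅m, e⁆ ∈ S.Q := by
  refine le_pCoreOf (A := S.M ⊓ S.E) inf_le_right (S.M_pGroup.to_le inf_le_left)
    ((le_inf (S.le_normalizer_M _) le_normalizer).trans inf_normalizer_le_normalizer_inf) (mem_inf.2 ⟨?_, ?_⟩)
  · rw [commutatorElement_def, show m * e * m⁻¹ * e⁻¹ = m * (e * m⁻¹ * e⁻¹) by group]
    exact mul_mem hm (S.M_normal.conj_mem _ (inv_mem hm) e)
  · rw [commutatorElement_def]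
    exact mul_mem ((mem_normalizer_iff.1 (S.M_le_NE hm) e).1 he) (inv_mem he)

theorem Q_commutes_W {q w : G} (hq : q ∈ S.Q) (hw : w ∈ S.W) : q * w = w * q := core_commutes_bW hq hw

theorem Q_conj_W {q w : G} (hq : q ∈ S.Q) (hw : w ∈ S.W) : q * w * q⁻¹ = w := by
  rw [S.Q_commutes_W hq hw, mul_inv_cancel_right]

theorem comm_Q {x y : G} (hx : x ∈ S.Q) (hy : y ∈ S.Q) : x * y * x⁻¹ * y⁻¹ ∈ S.Z := by
  rw [← commutatorElement_def]
  exact S.hcom.le (commutator_mem_commutator hx hy)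

theorem irr_WZ : Irr S.E S.W S.Z := block_irr_WZ S.hE

theorem irr_QW : Irr S.E S.Q S.W := acts_irr S.hQact

theorem kernel_WZ : S.E ⊓ secKer S.W S.Z ≤ S.Q := block_kernel_WZ S.hE

theorem Q_le_secKer_QW : S.Q ≤ secKer S.Q S.W := fun q hq =>
  mem_secKer.2 ⟨le_normalizer hq, core_le_normalizer_bW S.E hq, fun u hu => S.Z_le_W (S.comm_Q hq hu)⟩

theorem kernel_QW : S.E ⊓ secKer S.Q S.W ≤ S.Q := acts_kernel S.hQact S.hiso S.Q_le_secKer_QW

theorem Q_ne_W : S.Q ≠ S.W := fun h => S.hmeet (inf_le_left.trans h.le)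

theorem E_ne_Q : S.Q ≠ S.E := block_core_ne S.hE

theorem WE_le_W : S.WE ≤ S.W := commutator_le.2 fun a ha b hb => by
  rw [commutatorElement_def, show a * b * a⁻¹ * b⁻¹ = a * (b * a⁻¹ * b⁻¹) by group]
  exact mul_mem ha ((mem_normalizer_iff.1 (S.NE_le_NW (S.E_le_NE hb)) _).1 (inv_mem ha))

theorem comm_W_E_mem {w e : G} (hw : w ∈ S.W) (he : e ∈ S.E) : e * w * e⁻¹ * w⁻¹ ∈ S.WE := by
  have h := inv_mem (commutator_mem_commutator hw he : ⁅w, e⁆ ∈ S.WE)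
  rwa [commutatorElement_inv, commutatorElement_def] at h

theorem W_eq_sup : S.W = S.WE ⊔ S.Z := by
  refine ((S.irr_WZ _ le_sup_right (sup_le S.WE_le_W S.Z_le_W) ?_).resolve_left fun h => S.E_ne_Q ?_).symm
  · exact (le_inf (S.E_le_NE.trans S.NE_le_NWE) (S.E_le_NE.trans S.NE_le_NZ)).trans sup_normalizer
  · refine le_antisymm S.Q_le_E fun e he => S.kernel_WZ (mem_inf.2 ⟨he, mem_secKer.2 ⟨S.NE_le_NW (S.E_le_NE he),
      S.NE_le_NZ (S.E_le_NE he), fun w hw => (le_sup_left.trans h.le) (S.comm_W_E_mem hw he)⟩⟩)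

theorem WE_le_M : S.WE ≤ S.M := fun x hx =>
  (CfsgLib.PGroups.omegaOne_le _ ((block_location S.hG S.T S.E S.hE).2.1 hx)).1

theorem WE_le_ZM : S.WE ≤ S.ZM := fun x hx =>
  CfsgLib.PGroups.omegaOne_le _ ((block_location S.hG S.T S.E S.hE).2.1 hx)

theorem meet_sup : S.Q ⊓ S.M ⊔ S.W = S.Q := by
  refine (S.irr_QW _ le_sup_right (sup_le inf_le_left S.W_le_Q) ?_).resolve_left fun h => S.hmeet (le_sup_left.trans h.le)
  refine (le_inf ((le_inf (S.E_le_NE.trans S.NE_le_NQ) (S.le_normalizer_M _)).trans inf_normalizer_le_normalizer_inf)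
    (S.E_le_NE.trans S.NE_le_NW)).trans sup_normalizer

theorem Z_le_M : S.Z ≤ S.M := by
  refine S.hcom.ge.trans (commutator_le.2 fun x hx y hy => ?_)
  have hn : S.Q ⊓ S.M ≤ normalizer (S.W : Set G) := inf_le_left.trans (core_le_normalizer_bW S.E)
  obtain ⟨a, ha, w, hw, rfl⟩ := (CfsgLib.Core.mem_sup_iff_mul hn).1 (S.meet_sup.ge hx)
  obtain ⟨b, hb, v, hv, rfl⟩ := (CfsgLib.Core.mem_sup_iff_mul hn).1 (S.meet_sup.ge hy)
  have h1 : ⁅a * w, b * v⁆ = ⁅a, b⁆ := by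
    have c1 := S.Q_conj_W (mul_mem hb.1 (S.W_le_Q hv)) hw
    have c2 := S.Q_conj_W ha.1 hv
    have c3 : w * (b * v) * w⁻¹ = b * v := by
      rw [← S.Q_commutes_W (mul_mem hb.1 (S.W_le_Q hv)) hw, mul_inv_cancel_right]
    rw [commutatorElement_def, show a * w * (b * v) * (a * w)⁻¹ * (b * v)⁻¹ = a * (w * (b * v) * w⁻¹) * a⁻¹ * (b * v)⁻¹ by group,
      c3, show a * (b * v) * a⁻¹ * (b * v)⁻¹ = a * b * a⁻¹ * (a * v * a⁻¹) * v⁻¹ * b⁻¹ by group, c2,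
      commutatorElement_def]
    group
  rw [h1, commutatorElement_def, show a * b * a⁻¹ * b⁻¹ = a * (b * a⁻¹ * b⁻¹) by group]
  exact mul_mem ha.2 (S.M_normal.conj_mem _ (inv_mem ha.2) b)

theorem W_le_M : S.W ≤ S.M := S.W_eq_sup.le.trans (sup_le S.WE_le_M S.Z_le_M)

theorem Q_le_M : S.Q ≤ S.M := S.meet_sup.ge.trans (sup_le inf_le_right S.W_le_M)

theorem comm_M_Q_le_W {m x : G} (hm : m ∈ S.M) (hx : x ∈ S.Q) : m * x * m⁻¹ * x⁻¹ ∈ S.W := by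
  have hMQ : S.M ≤ normalizer (S.Q : Set G) := S.M_le_NE.trans S.NE_le_NQ
  have hMW : S.M ≤ normalizer (S.W : Set G) := S.M_le_NE.trans S.NE_le_NW
  let X : Subgroup G :=
    { carrier := {x | x ∈ S.Q ∧ ∀ m ∈ S.M, m * x * m⁻¹ * x⁻¹ ∈ S.W}
      one_mem' := ⟨one_mem _, fun m _ => by simp⟩
      mul_mem' := fun {a b} ha hb => ⟨mul_mem ha.1 hb.1, fun m hm => by
        rw [show m * (a * b) * m⁻¹ * (a * b)⁻¹ = (m * a * m⁻¹ * a⁻¹) * (a * (m * b * m⁻¹ * b⁻¹) * a⁻¹) by group]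
        exact mul_mem (ha.2 m hm) ((mem_normalizer_iff.1 (core_le_normalizer_bW S.E ha.1) _).1 (hb.2 m hm))⟩
      inv_mem' := fun {a} ha => ⟨inv_mem ha.1, fun m hm => by
        rw [show m * a⁻¹ * m⁻¹ * a⁻¹⁻¹ = a⁻¹ * (m * a * m⁻¹ * a⁻¹)⁻¹ * a by group]
        exact (mem_normalizer_iff''.1 (core_le_normalizer_bW S.E ha.1) _).1 (inv_mem (ha.2 m hm))⟩ }
  have hWX : S.W ≤ X := fun w hw => ⟨S.W_le_Q hw, fun m hm =>
    mul_mem ((mem_normalizer_iff.1 (hMW hm) w).1 hw) (inv_mem hw)⟩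
  have hEX : S.E ≤ normalizer (X : Set G) := fun e he => mem_normalizer_of_forall fun x hx => by
    refine ⟨(mem_normalizer_iff.1 (S.NE_le_NQ (S.E_le_NE he)) x).1 hx.1, fun m hm => ?_⟩
    obtain ⟨q, hq, hqe⟩ : ∃ q ∈ S.Q, m * e = q * (e * m) :=
      ⟨⁅m, e⁆, S.comm_M_E_le_Q hm he, by rw [commutatorElement_def]; group⟩
    have hex : e * x * e⁻¹ ∈ S.Q := (mem_normalizer_iff.1 (S.NE_le_NQ (S.E_le_NE he)) x).1 hx.1
    have h1 : e * (m * x * m⁻¹ * x⁻¹) * e⁻¹ ∈ S.W :=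
      (mem_normalizer_iff.1 (S.NE_le_NW (S.E_le_NE he)) _).1 (hx.2 m hm)
    have h2 := S.Z_le_W (S.comm_Q hq hex)
    rw [show m * (e * x * e⁻¹) * m⁻¹ = (m * e) * x * (m * e)⁻¹ by group, hqe,
      show q * (e * m) * x * (q * (e * m))⁻¹ * (e * x * e⁻¹)⁻¹ =
        (q * (e * (m * x * m⁻¹ * x⁻¹) * e⁻¹) * q⁻¹) * (q * (e * x * e⁻¹) * q⁻¹ * (e * x * e⁻¹)⁻¹) by group,
      S.Q_conj_W hq h1]
    exact mul_mem h1 h2
  rcases S.irr_QW X hWX (fun x hx => hx.1) hEX with h | h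
  · exfalso
    have hWQM : S.W ≤ S.M := S.W_le_M
    haveI : (S.W.subgroupOf S.M).Normal := (normal_subgroupOf_iff_le_normalizer hWQM).2 hMW
    haveI : (S.Q.subgroupOf S.M).Normal := (normal_subgroupOf_iff_le_normalizer S.Q_le_M).2 hMQ
    obtain ⟨π, hπ⟩ : ∃ π, π = QuotientGroup.mk' (S.W.subgroupOf S.M) := ⟨_, rfl⟩
    haveI : ((S.Q.subgroupOf S.M).map π).Normal :=
      Subgroup.Normal.map inferInstance π (hπ ▸ QuotientGroup.mk'_surjective _)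
    have hne : (S.Q.subgroupOf S.M).map π ≠ ⊥ := by
      intro h0
      refine S.Q_ne_W (le_antisymm (fun v hv => ?_) S.W_le_Q)
      have h1 := mem_map_of_mem π (show (⟨v, S.Q_le_M hv⟩ : S.M) ∈ S.Q.subgroupOf S.M from mem_subgroupOf.2 hv)
      rw [h0, mem_bot, hπ, QuotientGroup.mk'_apply, QuotientGroup.eq_one_iff] at h1
      exact h1
    obtain ⟨c, ⟨⟨x, hx, hxc⟩, hcZ⟩, hc1⟩ := (Subgroup.bot_or_exists_ne_one _).resolve_left
      (CfsgLib.PGroups.inf_center_ne_bot (S.M_pGroup.to_quotient _) hne)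
    have hxQ : (x : G) ∈ S.Q := mem_subgroupOf.1 hx
    have hxX : (x : G) ∈ X := ⟨hxQ, fun m hm => by
      have h1 := mem_center_iff.1 hcZ (π ⟨m, hm⟩)
      have h2 : π (⟨m, hm⟩ * x * ⟨m, hm⟩⁻¹ * x⁻¹) = 1 := by
        rw [map_mul, map_mul, map_mul, map_inv, map_inv, hxc, h1, mul_inv_cancel_right, mul_inv_cancel]
      rw [hπ, QuotientGroup.mk'_apply, QuotientGroup.eq_one_iff] at h2
      exact h2⟩
    rw [h] at hxX
    refine hc1 ?_
    rw [← hxc, hπ, QuotientGroup.mk'_apply, QuotientGroup.eq_one_iff]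
    exact mem_subgroupOf.2 hxX
  · exact ((h.ge hx : x ∈ X)).2 m hm

theorem W_le_ZM : S.W ≤ S.ZM := by
  rw [S.W_eq_sup, sup_le_iff]
  refine ⟨S.WE_le_ZM, ?_⟩
  refine S.hcom.ge.trans ?_
  refine commutator_le.2 fun x hx y hy => ⟨S.Z_le_M (S.hcom.le (commutator_mem_commutator hx hy)),
    mem_centralizer_iff.2 fun m hm => ?_⟩
  obtain ⟨w, hw, hwx⟩ : ∃ w ∈ S.W, m * x * m⁻¹ = w * x := ⟨_, S.comm_M_Q_le_W hm hx, by group⟩
  obtain ⟨v, hv, hvy⟩ : ∃ v ∈ S.W, m * y * m⁻¹ = v * y := ⟨_, S.comm_M_Q_le_W hm hy, by group⟩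
  have h1 : m * ⁅x, y⁆ * m⁻¹ = ⁅x, y⁆ := by
    rw [conjugate_commutatorElement, hwx, hvy, commutatorElement_def]
    rw [show w * x * (v * y) * (w * x)⁻¹ * (v * y)⁻¹ =
      w * (x * v * x⁻¹) * ((x * y * x⁻¹) * w⁻¹ * (x * y * x⁻¹)⁻¹) * (x * y * x⁻¹ * y⁻¹) * v⁻¹ by group,
      S.Q_conj_W hx hv, S.Q_conj_W (mul_mem (mul_mem hx hy) (inv_mem hx)) (inv_mem hw), commutatorElement_def,
      mul_assoc (w * v * w⁻¹), S.Q_commutes_W (mul_mem (mul_mem (mul_mem hx hy) (inv_mem hx)) (inv_mem hy)) (inv_mem hv),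
      ← mul_assoc, omegaOneCenter_comm hw hv]
    group
  exact mul_inv_eq_iff_eq_mul.1 h1

theorem Q_inf_ZM : S.Q ⊓ S.ZM = S.W := by
  refine (S.irr_QW _ (le_inf S.W_le_Q S.W_le_ZM) inf_le_left
    ((le_inf (S.E_le_NE.trans S.NE_le_NQ) (S.top_le_normalizer_ZM _)).trans inf_normalizer_le_normalizer_inf)).resolve_right fun h => ?_
  have h1 : S.Z = ⊥ := by
    refine eq_bot_iff.2 (S.hcom.ge.trans (le_of_eq ?_))
    rw [commutator_eq_bot_iff_le_centralizer]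
    intro x hx
    exact mem_centralizer_iff.2 fun y hy => mem_centralizer_iff.1 (h.ge hx).2.2 y (S.Q_le_M hy)
  have h2 := S.hZcard
  rw [show bZ 3 S.E = ⊥ from h1, Subgroup.card_bot] at h2
  exact absurd h2.symm (Nat.one_lt_pow (Nat.one_le_iff_ne_zero.1 S.n_pos) (by norm_num)).ne'

theorem E_le_secKer_MQ : S.E ≤ secKer S.M S.Q := fun e he =>
  mem_secKer.2 ⟨S.le_normalizer_M _ he, S.NE_le_NQ (S.E_le_NE he), fun m hm => by
    have h := inv_mem (S.comm_M_E_le_Q hm he)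
    rwa [commutatorElement_inv, commutatorElement_def] at h⟩

theorem ZM_le_NWE : S.ZM ≤ normalizer (S.WE : Set G) :=
  inf_le_left.trans (S.M_le_NE.trans S.NE_le_NWE)

theorem E_le_secKer_ZM : S.E ≤ secKer S.ZM S.WE := by
  refine block_le_of_coprime S.hE fun g hg hgc => ?_
  refine coprime_stab (B := S.W) (S.M_pGroup.to_le inf_le_left) S.W_le_ZM
    (S.W_le_ZM.trans S.ZM_le_NWE) hgc ?_ ?_
  · refine mem_secKer.2 ⟨S.top_le_normalizer_ZM _ hg, S.NE_le_NW (S.E_le_NE hg), fun z hz => S.Q_inf_ZM.le (mem_inf.2 ⟨?_, ?_⟩)⟩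
    · exact (mem_secKer.1 (S.E_le_secKer_MQ hg)).2.2 z hz.1
    · exact mul_mem ((mem_normalizer_iff.1 (S.top_le_normalizer_ZM _ hg) z).1 hz) (inv_mem hz)
  · exact mem_secKer.2 ⟨S.NE_le_NW (S.E_le_NE hg), S.NE_le_NWE (S.E_le_NE hg), fun w hw => S.comm_W_E_mem hw hg⟩

theorem pow_three_Q {x : G} (hx : x ∈ S.Q) : x ^ 3 ∈ S.W := by
  obtain ⟨-, -, ρ, ψ, -, -, hk, -⟩ := S.hQact
  refine (hk (⟨x, hx⟩ ^ 3)).1 ?_
  haveI := S.hchar
  refine Multiplicative.toAdd.injective ?_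
  rw [map_pow, toAdd_pow, toAdd_one]
  funext i
  have h3 : (3 : F) = 0 := by simpa using CharP.cast_eq_zero F 3
  simp [h3]

theorem pow_three_W {w : G} (hw : w ∈ S.W) : w * w * w = 1 := by
  have h := omegaOneCenter_pow hw
  rwa [pow_three', ] at h

theorem not_secKer_of_secInv {g : G} (h : SecInv S.Q S.W g) : g ∉ secKer S.Q S.W := fun hk =>
  S.Q_ne_W (le_antisymm (fun x hx => h.fixed_mem S.Q_pGroup (by norm_num) (core_le_normalizer_bW S.E) hx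
    ((mem_secKer.1 hk).2.2 x hx)) S.W_le_Q)

/-- The central involution of the block modulo its core. -/
theorem exists_t : ∃ t ∈ S.E, SecInv S.Q S.W t ∧ SecInv S.W S.Z t := by
  haveI := S.hchar
  obtain ⟨hn, hle, ρ, ψ, hρ, hψ, hk, hact⟩ := S.hQact
  obtain ⟨N, hN, hNm⟩ : ∃ N : Matrix.SpecialLinearGroup (Fin 2) F,
      (N : Matrix (Fin 2) (Fin 2) F) = -1 ∧ N ∈ commutator (Matrix.SpecialLinearGroup (Fin 2) F) := by
    rcases Nat.lt_or_ge (Fintype.card F) 4 with h | h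
    · have h3 : Fintype.card F = 3 := by
        have := S.hcard
        have h1 : 3 ≤ 3 ^ S.n := Nat.le_self_pow (Nat.one_le_iff_ne_zero.1 S.n_pos) 3
        omega
      obtain ⟨r⟩ : Nonempty (ZMod 3 ≃+* F) := ⟨ZMod.ringEquivOfPrime F Nat.prime_three h3⟩
      refine ⟨Matrix.SpecialLinearGroup.map r.toRingHom negOne3, ?_,
        map_commutator_sl2 r ▸ mem_map_of_mem _ (mem_commutator_sl23.2 (by decide +kernel))⟩
      ext i j
      rw [Matrix.SpecialLinearGroup.map_apply_coe]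
      fin_cases i <;> fin_cases j <;> simp [negOne3]
    · refine ⟨⟨-1, by rw [Matrix.det_neg, Matrix.det_one, Fintype.card_fin]; norm_num⟩, rfl, ?_⟩
      rw [(sl2_quasisimple h).2]
      exact mem_top _
  rw [← hρ] at hNm
  obtain ⟨⟨t, htE⟩, rfl⟩ := hNm
  have htQ : SecInv S.Q S.W t := by
    intro u hu
    obtain ⟨w, hw, hwe⟩ := hact ⟨t, htE⟩ ⟨u, hu⟩
    rw [hN, Matrix.neg_mulVec, Matrix.one_mulVec] at hwe
    have h1 : ψ (w * ⟨u, hu⟩) = 1 := Multiplicative.toAdd.injective (by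
      rw [map_mul, toAdd_mul, hwe, neg_add_cancel, toAdd_one])
    have h2 := (hk _).1 h1
    rwa [Subgroup.coe_mul, hw] at h2
  refine ⟨t, htE, htQ, ?_⟩
  have htQn : t ∈ normalizer (S.Q : Set G) := S.NE_le_NQ (S.E_le_NE htE)
  have htW : t ∈ normalizer (S.W : Set G) := S.NE_le_NW (S.E_le_NE htE)
  have htt : t * t ∈ S.Q := S.kernel_QW (mem_inf.2 ⟨mul_mem htE htE,
    htQ.mul_mem_secKer htQ (core_le_normalizer_bW S.E) htQn htQn htW htW⟩)
  have hconj : ∀ e ∈ S.E, ∀ w ∈ S.W, t * (e * w * e⁻¹) * t⁻¹ = e * (t * w * t⁻¹) * e⁻¹ := by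
    intro e he w hw
    have hq : ⁅t, e⁆ ∈ S.Q := by
      have heQ := S.NE_le_NQ (S.E_le_NE he)
      have heW := S.NE_le_NW (S.E_le_NE he)
      have h1 : SecInv S.Q S.W (e * t⁻¹ * e⁻¹) := by
        intro u hu
        have hu' := (mem_normalizer_iff''.1 heQ u).1 hu
        have hti : SecInv S.Q S.W t⁻¹ := fun u hu => by
          have hm : t⁻¹ * u * t ∈ S.Q := (mem_normalizer_iff''.1 htQn u).1 hu
          have h1 := htQ _ hm
          rw [show t * (t⁻¹ * u * t) * t⁻¹ * (t⁻¹ * u * t) = u * (t⁻¹ * u * t) by group] at h1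
          have h2 := (mem_normalizer_iff''.1 (core_le_normalizer_bW S.E hu) _).1 h1
          rwa [show u⁻¹ * (u * (t⁻¹ * u * t)) * u = t⁻¹ * u * t⁻¹⁻¹ * u by group] at h2
        have h1 := (mem_normalizer_iff.1 heW _).1 (hti _ hu')
        rwa [show e * (t⁻¹ * (e⁻¹ * u * e) * t⁻¹⁻¹ * (e⁻¹ * u * e)) * e⁻¹ =
          e * t⁻¹ * e⁻¹ * u * (e * t⁻¹ * e⁻¹)⁻¹ * u by group] at h1
      refine S.kernel_QW (mem_inf.2 ⟨?_, ?_⟩)
      · rw [commutatorElement_def]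
        exact mul_mem (mul_mem (mul_mem htE he) (inv_mem htE)) (inv_mem he)
      · rw [commutatorElement_def, show t * e * t⁻¹ * e⁻¹ = t * (e * t⁻¹ * e⁻¹) by group]
        exact htQ.mul_mem_secKer h1 (core_le_normalizer_bW S.E) htQn
          (mul_mem (mul_mem heQ (inv_mem htQn)) (inv_mem heQ)) htW (mul_mem (mul_mem heW (inv_mem htW)) (inv_mem heW))
    rw [show t * (e * w * e⁻¹) * t⁻¹ = ⁅t, e⁆ * (e * (t * w * t⁻¹) * e⁻¹) * ⁅t, e⁆⁻¹ by
      rw [commutatorElement_def]; group, S.Q_conj_W hq ((mem_normalizer_iff.1 (S.NE_le_NW (S.E_le_NE he)) _).1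
      ((mem_normalizer_iff.1 htW w).1 hw))]
  let X : Subgroup G :=
    { carrier := {w | w ∈ S.W ∧ t * w * t⁻¹ * w ∈ S.Z}
      one_mem' := ⟨one_mem _, by simp⟩
      mul_mem' := fun {a b} ha hb => ⟨mul_mem ha.1 hb.1, by
        have hta := (mem_normalizer_iff.1 htW a).1 ha.1
        have htb := (mem_normalizer_iff.1 htW b).1 hb.1
        rw [show t * (a * b) * t⁻¹ * (a * b) = (t * a * t⁻¹) * ((t * b * t⁻¹) * a) * b by group,
          omegaOneCenter_comm htb ha.1,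
          show t * a * t⁻¹ * (a * (t * b * t⁻¹)) * b = (t * a * t⁻¹ * a) * (t * b * t⁻¹ * b) by group]
        exact mul_mem ha.2 hb.2⟩
      inv_mem' := fun {a} ha => ⟨inv_mem ha.1, by
        rw [show t * a⁻¹ * t⁻¹ * a⁻¹ = (a * (t * a * t⁻¹))⁻¹ by group,
          omegaOneCenter_comm ha.1 ((mem_normalizer_iff.1 htW a).1 ha.1)]
        exact inv_mem ha.2⟩ }
  have hZX : S.Z ≤ X := fun z hz => ⟨S.Z_le_W hz, mul_mem
    ((mem_normalizer_iff.1 (S.NE_le_NZ (S.E_le_NE htE)) z).1 hz) hz⟩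
  have hEX : S.E ≤ normalizer (X : Set G) := fun e he => mem_normalizer_of_forall fun w hw => by
    refine ⟨(mem_normalizer_iff.1 (S.NE_le_NW (S.E_le_NE he)) w).1 hw.1, ?_⟩
    rw [hconj e he w hw.1, show e * (t * w * t⁻¹) * e⁻¹ * (e * w * e⁻¹) = e * (t * w * t⁻¹ * w) * e⁻¹ by group]
    exact (mem_normalizer_iff.1 (S.NE_le_NZ (S.E_le_NE he)) _).1 hw.2
  rcases S.irr_WZ X hZX (fun w hw => hw.1) hEX with h | h
  · refine absurd (S.Q_le_secKer_QW (S.kernel_WZ (mem_inf.2 ⟨htE, mem_secKer.2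
      ⟨htW, S.NE_le_NZ (S.E_le_NE htE), fun w hw => ?_⟩⟩))) (S.not_secKer_of_secInv htQ)
    have hm : t * w * t⁻¹ * w⁻¹ ∈ S.W := mul_mem ((mem_normalizer_iff.1 htW w).1 hw) (inv_mem hw)
    have hmX : t * w * t⁻¹ * w⁻¹ ∈ X := ⟨hm, by
      rw [show t * (t * w * t⁻¹ * w⁻¹) * t⁻¹ * (t * w * t⁻¹ * w⁻¹) =
        (t * t) * w * (t * t)⁻¹ * (t * w * t⁻¹)⁻¹ * (t * w * t⁻¹) * w⁻¹ by group, S.Q_conj_W htt hw,
        inv_mul_cancel_right, mul_inv_cancel]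
      exact one_mem _⟩
    exact h.le hmX
  · exact fun w hw => (h.ge hw).2

/-- The chosen involution. -/
noncomputable def t : G := S.exists_t.choose

theorem t_mem : S.t ∈ S.E := S.exists_t.choose_spec.1
theorem t_invQ : SecInv S.Q S.W S.t := S.exists_t.choose_spec.2.1
theorem t_invW : SecInv S.W S.Z S.t := S.exists_t.choose_spec.2.2

theorem t_sq : S.t * S.t ∈ S.Q := S.kernel_QW (mem_inf.2 ⟨mul_mem S.t_mem S.t_mem,
  S.t_invQ.mul_mem_secKer S.t_invQ (core_le_normalizer_bW S.E) (S.NE_le_NQ (S.E_le_NE S.t_mem))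
    (S.NE_le_NQ (S.E_le_NE S.t_mem)) (S.NE_le_NW (S.E_le_NE S.t_mem)) (S.NE_le_NW (S.E_le_NE S.t_mem))⟩)

/-- Conjugates of the involution differ from it by the core. -/
theorem conj_t {g : G} (hg : g ∈ normalizer (S.E : Set G)) : g * S.t * g⁻¹ * S.t⁻¹ ∈ S.Q := by
  have hgQ := S.NE_le_NQ hg
  have hgW := S.NE_le_NW hg
  have htQn := S.NE_le_NQ (S.E_le_NE S.t_mem)
  have htW := S.NE_le_NW (S.E_le_NE S.t_mem)
  have hgt : g * S.t * g⁻¹ ∈ S.E := (mem_normalizer_iff.1 hg _).1 S.t_mem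
  have h1 : SecInv S.Q S.W (g * S.t * g⁻¹) := by
    intro u hu
    have h1 := (mem_normalizer_iff.1 hgW _).1 (S.t_invQ _ ((mem_normalizer_iff''.1 hgQ u).1 hu))
    rwa [show g * (S.t * (g⁻¹ * u * g) * S.t⁻¹ * (g⁻¹ * u * g)) * g⁻¹ =
      g * S.t * g⁻¹ * u * (g * S.t * g⁻¹)⁻¹ * u by group] at h1
  have h2 : g * S.t * g⁻¹ * S.t ∈ S.Q := S.kernel_QW (mem_inf.2 ⟨mul_mem hgt S.t_mem,
    h1.mul_mem_secKer S.t_invQ (core_le_normalizer_bW S.E) (mul_mem (mul_mem hgQ htQn) (inv_mem hgQ)) htQn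
      (mul_mem (mul_mem hgW htW) (inv_mem hgW)) htW⟩)
  rw [show g * S.t * g⁻¹ * S.t⁻¹ = (g * S.t * g⁻¹ * S.t) * (S.t * S.t)⁻¹ by group]
  exact mul_mem h2 (inv_mem S.t_sq)

theorem Q_conj_ZM {q z : G} (hq : q ∈ S.Q) (hz : z ∈ S.ZM) : q * z * q⁻¹ = z := by
  rw [mem_centralizer_iff.1 hz.2 q (S.Q_le_M hq), mul_inv_cancel_right]

theorem ZM_comm {a b : G} (ha : a ∈ S.ZM) (hb : b ∈ S.ZM) : a * b = b * a :=
  mem_centralizer_iff.1 hb.2 a ha.1

theorem t_conj_conj {g z : G} (hg : g ∈ normalizer (S.E : Set G)) (hz : z ∈ S.ZM) :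
    S.t * (g * z * g⁻¹) * S.t⁻¹ = g * (S.t * z * S.t⁻¹) * g⁻¹ := by
  have hm : S.t * (g * z * g⁻¹) * S.t⁻¹ ∈ S.ZM :=
    (mem_normalizer_iff.1 (S.top_le_normalizer_ZM ⊤ (mem_top _)) _).1
      ((mem_normalizer_iff.1 (S.top_le_normalizer_ZM ⊤ (mem_top _)) _).1 hz)
  rw [show g * (S.t * z * S.t⁻¹) * g⁻¹ =
    (g * S.t * g⁻¹ * S.t⁻¹) * (S.t * (g * z * g⁻¹) * S.t⁻¹) * (g * S.t * g⁻¹ * S.t⁻¹)⁻¹ by group,
    S.Q_conj_ZM (S.conj_t hg) hm]

theorem WE_inverted {w : G} (hw : w ∈ S.WE) : S.t * w * S.t⁻¹ = w⁻¹ := by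
  have htW := S.NE_le_NW (S.E_le_NE S.t_mem)
  let X : Subgroup G :=
    { carrier := {w | w ∈ S.W ∧ S.t * w * S.t⁻¹ = w⁻¹}
      one_mem' := ⟨one_mem _, by simp⟩
      mul_mem' := fun {a b} ha hb => ⟨mul_mem ha.1 hb.1, by
        rw [show S.t * (a * b) * S.t⁻¹ = (S.t * a * S.t⁻¹) * (S.t * b * S.t⁻¹) by group, ha.2, hb.2, ← mul_inv_rev,
          omegaOneCenter_comm hb.1 ha.1]⟩
      inv_mem' := fun {a} ha => ⟨inv_mem ha.1, by
        rw [show S.t * a⁻¹ * S.t⁻¹ = (S.t * a * S.t⁻¹)⁻¹ by group, ha.2]⟩ }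
  suffices h : S.WE ≤ X from (h hw).2
  refine commutator_le.2 fun a ha e he => ?_
  obtain ⟨u, hu⟩ : ∃ u, u = S.t * a * S.t⁻¹ * a⁻¹ := ⟨_, rfl⟩
  have hta : S.t * a * S.t⁻¹ ∈ S.W := (mem_normalizer_iff.1 htW a).1 ha
  have huX : u ∈ X := ⟨hu ▸ mul_mem hta (inv_mem ha), by
    rw [hu, show S.t * (S.t * a * S.t⁻¹ * a⁻¹) * S.t⁻¹ =
      (S.t * S.t) * a * (S.t * S.t)⁻¹ * (S.t * a * S.t⁻¹)⁻¹ by group, S.Q_conj_W S.t_sq ha]
    group⟩
  -- the fixed part is centralised by the block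
  obtain ⟨z, hz⟩ : ∃ z, z = u * u * a := ⟨_, rfl⟩
  have hzW : z ∈ S.W := hz ▸ mul_mem (mul_mem huX.1 huX.1) ha
  have hzfix : S.t * z * S.t⁻¹ * z⁻¹ = 1 := by
    rw [hz, show S.t * (u * u * a) * S.t⁻¹ = (S.t * u * S.t⁻¹) * (S.t * u * S.t⁻¹) * (S.t * a * S.t⁻¹) by group,
      huX.2, show S.t * a * S.t⁻¹ = u * a by rw [hu, inv_mul_cancel_right],
      show u⁻¹ * u⁻¹ * (u * a) * (u * u * a)⁻¹ = u⁻¹ * u⁻¹ * u⁻¹ by group, ← mul_inv_rev, ← mul_inv_rev,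
      ← mul_assoc, S.pow_three_W huX.1, inv_one]
  have hzZ : z ∈ S.Z := S.t_invW.fixed_mem (bW_pGroup S.E) (by norm_num) (bW_le_normalizer_bZ S.E) hzW
    (hzfix ▸ one_mem _)
  have huu : u * u ∈ X := mul_mem huX huX
  have hconj : e * (u * u) * e⁻¹ ∈ X := ⟨(mem_normalizer_iff.1 (S.NE_le_NW (S.E_le_NE he)) _).1 huu.1, by
    rw [S.t_conj_conj (S.E_le_NE he) (S.W_le_ZM huu.1), huu.2]
    group⟩
  have ha' : a = (u * u)⁻¹ * z := by rw [hz, inv_mul_cancel_left]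
  have hez : e * z * e⁻¹ = z := by
    rw [mem_centralizer_iff.1 hzZ.2 e he, mul_inv_cancel_right]
  obtain ⟨U, hU⟩ : ∃ U, U = u * u := ⟨_, rfl⟩
  rw [← hU] at ha' huu hconj
  rw [commutatorElement_def, ha',
    show U⁻¹ * z * e * (U⁻¹ * z)⁻¹ * e⁻¹ = U⁻¹ * z * (e * z * e⁻¹)⁻¹ * (e * U * e⁻¹) by group,
    hez, mul_inv_cancel_right]
  exact mul_mem (inv_mem huu) hconj

/-- The fixed points of the involution on the centre of `O_3(G)`. -/
def Z0 : Subgroup G where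
  carrier := {x | x ∈ S.ZM ∧ S.t * x * S.t⁻¹ = x}
  one_mem' := ⟨one_mem _, by simp⟩
  mul_mem' := fun {a b} ha hb => ⟨mul_mem ha.1 hb.1, by
    rw [show S.t * (a * b) * S.t⁻¹ = (S.t * a * S.t⁻¹) * (S.t * b * S.t⁻¹) by group, ha.2, hb.2]⟩
  inv_mem' := fun {a} ha => ⟨inv_mem ha.1, by
    rw [show S.t * a⁻¹ * S.t⁻¹ = (S.t * a * S.t⁻¹)⁻¹ by group, ha.2]⟩

theorem mem_Z0 {x : G} : x ∈ S.Z0 ↔ x ∈ S.ZM ∧ S.t * x * S.t⁻¹ = x := Iff.rfl

theorem Z0_le_ZM : S.Z0 ≤ S.ZM := fun x hx => hx.1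

theorem Z_le_Z0 : S.Z ≤ S.Z0 := fun z hz => ⟨S.W_le_ZM (S.Z_le_W hz), by
  rw [mem_centralizer_iff.1 hz.2 _ S.t_mem, mul_inv_cancel_right]⟩

theorem eq_one_of_fixed_inverted {w : G} (hw : w ∈ S.WE) (hf : S.t * w * S.t⁻¹ = w) : w = 1 := by
  rw [S.WE_inverted hw] at hf
  have h := S.pow_three_W (S.WE_le_W hw)
  have h2 : w * w = 1 := mul_eq_one_iff_eq_inv.2 hf.symm
  rwa [h2, one_mul] at h

theorem WE_inf_Z0 : S.WE ⊓ S.Z0 = ⊥ :=
  le_bot_iff.1 fun x hx => mem_bot.2 (S.eq_one_of_fixed_inverted hx.1 hx.2.2)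

theorem ZM_decomp {x : G} (hx : x ∈ S.ZM) : ∃ w ∈ S.WE, ∃ z ∈ S.Z0, x = w * z := by
  obtain ⟨u, hu⟩ : ∃ u, u = S.t * x * S.t⁻¹ * x⁻¹ := ⟨_, rfl⟩
  have huW : u ∈ S.WE := hu ▸ (mem_secKer.1 (S.E_le_secKer_ZM S.t_mem)).2.2 x hx
  refine ⟨(u * u)⁻¹, inv_mem (mul_mem huW huW), u * u * x,
    ⟨mul_mem (mul_mem (S.WE_le_ZM huW) (S.WE_le_ZM huW)) hx, ?_⟩, by rw [inv_mul_cancel_left]⟩
  have h3 := S.pow_three_W (S.WE_le_W huW)
  have hu3 : u * u = u⁻¹ := mul_eq_one_iff_eq_inv.1 h3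
  rw [show S.t * (u * u * x) * S.t⁻¹ = (S.t * u * S.t⁻¹) * (S.t * u * S.t⁻¹) * (S.t * x * S.t⁻¹) by group,
    S.WE_inverted huW, show S.t * x * S.t⁻¹ = u * x by rw [hu, inv_mul_cancel_right],
    show u⁻¹ * u⁻¹ * (u * x) = u⁻¹ * x by group, hu3]

theorem NE_le_NZ0 : normalizer (S.E : Set G) ≤ normalizer (S.Z0 : Set G) := fun g hg =>
  mem_normalizer_of_forall fun x hx => ⟨(mem_normalizer_iff.1 (S.top_le_normalizer_ZM ⊤ (mem_top g)) x).1 hx.1, by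
    rw [S.t_conj_conj hg hx.1, hx.2]⟩

theorem E_centralizes_Z0 {e x : G} (he : e ∈ S.E) (hx : x ∈ S.Z0) : e * x * e⁻¹ = x := by
  have h1 := (mem_normalizer_iff.1 (S.NE_le_NZ0 (S.E_le_NE he)) x).1 hx
  have h2 : e * x * e⁻¹ * x⁻¹ ∈ S.WE ⊓ S.Z0 :=
    mem_inf.2 ⟨(mem_secKer.1 (S.E_le_secKer_ZM he)).2.2 x hx.1, mul_mem h1 (inv_mem hx)⟩
  rw [S.WE_inf_Z0, mem_bot, mul_inv_eq_one] at h2
  exact h2

theorem Q_inf_Z0 {x : G} (hx : x ∈ S.Q) (hx0 : x ∈ S.Z0) : x ∈ S.Z :=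
  S.t_invW.fixed_mem (bW_pGroup S.E) (by norm_num) (bW_le_normalizer_bZ S.E) (S.Q_inf_ZM.le ⟨hx, hx0.1⟩)
    (by rw [hx0.2, mul_inv_cancel]; exact one_mem _)

end Setting

end CfsgLib.LocalEven.BlockCent
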