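import Mathlib.Algebra.CharP.Lemmas
import Cfsg.Agent.Lib.PLocal.Offender
import Cfsg.Agent.Lib.PLocal.Thompson
import Cfsg.Agent.Lib.LocalEvenB.SubnormalBlocks.PairExc
import Cfsg.Agent.Lib.LocalEven.BlockCent.Pairing
import Cfsg.Agent.Lib.LocalEven.BlockCent.Setting

/-!
# A quadratic element of the Baumann subgroup

Some element of `B(T)` moves `W` and acts quadratically on both natural sections of the core.
-/

set_option autoImplicit false
set_option linter.all false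

namespace CfsgLib.LocalEven.BlockCent

open Subgroup Cfsg Matrix
open CfsgLib.LocalEvenB
open CfsgLib.LocalEvenB.SubBlocks
open scoped commutatorElement

variable {F : Type} [Field F]

/-- An additive map commuting with the special linear group is scalar. -/
theorem scalar_of_commute (L : (Fin 2 → F) →+ (Fin 2 → F))
    (h : ∀ (M : Matrix.SpecialLinearGroup (Fin 2) F) v,
      L ((M : Matrix (Fin 2) (Fin 2) F) *ᵥ v) = (M : Matrix (Fin 2) (Fin 2) F) *ᵥ L v) :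
    ∃ k : F, ∀ v, L v = k • v := by
  have h0 : ∀ x, L ![x, 0] = ![L ![x, 0] 0, 0] := by
    intro x
    have h1 := h (upper 1) ![x, 0]
    rw [show ((upper (1 : F) : Matrix.SpecialLinearGroup (Fin 2) F) : Matrix (Fin 2) (Fin 2) F) *ᵥ ![x, 0] = ![x, 0] by
      ext i; fin_cases i <;> simp [upper, mulVec, dotProduct, Fin.sum_univ_two]] at h1
    have h2 := congrFun h1 0
    simp [upper, mulVec, dotProduct, Fin.sum_univ_two] at h2
    ext i
    fin_cases i
    · rfl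
    · exact h2
  have hl : ∀ x, L ![0, x] = ![0, L ![x, 0] 0] := by
    intro x
    have h1 := h (lower 1) ![x, 0]
    rw [show ((lower (1 : F) : Matrix.SpecialLinearGroup (Fin 2) F) : Matrix (Fin 2) (Fin 2) F) *ᵥ ![x, 0] =
      ![x, 0] + ![0, x] by ext i; fin_cases i <;> simp [lower, mulVec, dotProduct, Fin.sum_univ_two], map_add] at h1
    rw [eq_sub_of_add_eq' h1, h0]
    ext i
    fin_cases i <;> simp [lower, mulVec, dotProduct, Fin.sum_univ_two]
  obtain ⟨k, hk⟩ : ∃ k, k = L ![1, 0] 0 := ⟨_, rfl⟩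
  have hm : ∀ x, L ![x, 0] 0 = k * x := by
    intro x
    rcases eq_or_ne x 0 with rfl | hx
    · have : (![0, 0] : Fin 2 → F) = 0 := by ext i; fin_cases i <;> simp
      simp [this]
    have h1 := congrFun (h (torus x hx) ![1, 0]) 0
    rw [show ((torus x hx : Matrix.SpecialLinearGroup (Fin 2) F) : Matrix (Fin 2) (Fin 2) F) *ᵥ ![1, 0] = ![x, 0] by
      ext i; fin_cases i <;> simp [torus, mulVec, dotProduct, Fin.sum_univ_two]] at h1
    rw [h1, hk]
    simp [torus, mulVec, dotProduct, Fin.sum_univ_two, mul_comm]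
  refine ⟨k, fun v => ?_⟩
  rw [show v = ![v 0, 0] + ![0, v 1] by ext i; fin_cases i <;> simp, map_add, h0, hl, hm, hm]
  ext i
  fin_cases i <;> simp

variable {G : Type*} [Group G] [Finite G]

/-- `g` induces `L` on a section. -/
def Induces {U : Subgroup G} (ψ : ↥U →* Multiplicative (Fin 2 → F)) (g : G) (L : (Fin 2 → F) → (Fin 2 → F)) : Prop :=
  ∀ u w : ↥U, (w : G) = g * u * g⁻¹ → Multiplicative.toAdd (ψ w) = L (Multiplicative.toAdd (ψ u))

section Section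

variable {E U U0 : Subgroup G} {ψ : ↥U →* Multiplicative (Fin 2 → F)}
  (hs : Function.Surjective ψ) (hk : ∀ u : ↥U, ψ u = 1 ↔ (u : G) ∈ U0) {g g' : G}
include hs hk

theorem exists_induces (hg : g ∈ normalizer (U : Set G)) (hg0 : g ∈ normalizer (U0 : Set G)) :
    ∃ L : (Fin 2 → F) →+ (Fin 2 → F), Induces ψ g L := by
  choose s hs' using fun v => hs (Multiplicative.ofAdd v)
  obtain ⟨c, hc⟩ : ∃ c : ↥U → ↥U, ∀ u, (c u : G) = g * u * g⁻¹ :=
    ⟨fun u => ⟨g * u * g⁻¹, (mem_normalizer_iff.1 hg _).1 u.2⟩, fun u => rfl⟩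
  have hcm : ∀ u v, c (u * v) = c u * c v := fun u v => Subtype.ext (by
    rw [Subgroup.coe_mul, hc, hc, hc, Subgroup.coe_mul]; group)
  have hci : ∀ u, c u⁻¹ = (c u)⁻¹ := fun u => Subtype.ext (by
    rw [Subgroup.coe_inv, hc, hc, Subgroup.coe_inv]; group)
  have hwell : ∀ u v, ψ u = ψ v → ψ (c u) = ψ (c v) := fun u v e => by
    have h1 : ψ (u * v⁻¹) = 1 := by rw [map_mul, map_inv, e, mul_inv_cancel]
    have h2 : ψ (c (u * v⁻¹)) = 1 := (hk _).2 (by rw [hc]; exact (mem_normalizer_iff.1 hg0 _).1 ((hk _).1 h1))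
    rwa [hcm, hci, map_mul, map_inv, mul_inv_eq_one] at h2
  refine ⟨AddMonoidHom.mk' (fun v => Multiplicative.toAdd (ψ (c (s v)))) fun a b => ?_, fun u w hw => ?_⟩
  · rw [← toAdd_mul, ← map_mul, ← hcm, hwell (s (a + b)) (s a * s b) (by rw [map_mul, hs', hs', hs']; rfl)]
  · rw [show w = c u from Subtype.ext (hw.trans (hc u).symm)]
    exact congrArg Multiplicative.toAdd (hwell _ _ (by rw [hs']; rfl))

theorem induces_unique {L L' : (Fin 2 → F) → (Fin 2 → F)} (hg : g ∈ normalizer (U : Set G))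
    (h : Induces ψ g L) (h' : Induces ψ g L') (v : Fin 2 → F) : L v = L' v := by
  obtain ⟨u, hu⟩ := hs (Multiplicative.ofAdd v)
  have h1 := h u ⟨_, (mem_normalizer_iff.1 hg _).1 u.2⟩ rfl
  have h2 := h' u ⟨_, (mem_normalizer_iff.1 hg _).1 u.2⟩ rfl
  rw [hu, toAdd_ofAdd] at h1 h2
  rw [← h1, ← h2]

theorem induces_mul {L L' : (Fin 2 → F) → (Fin 2 → F)} (hg' : g' ∈ normalizer (U : Set G))
    (h : Induces ψ g L) (h' : Induces ψ g' L') : Induces ψ (g * g') (fun v => L (L' v)) := by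
  intro u w hw
  show _ = L (L' _)
  rw [← h' u ⟨_, (mem_normalizer_iff.1 hg' _).1 u.2⟩ rfl]
  exact h _ w (hw.trans (by group))

theorem induces_one : Induces ψ (1 : G) id := fun u w hw => by
  rw [show w = u from Subtype.ext (by simpa using hw)]
  rfl

theorem induces_id_iff (hg : g ∈ normalizer (U : Set G)) (hg0 : g ∈ normalizer (U0 : Set G)) :
    Induces ψ g id ↔ g ∈ secKer U U0 := by
  constructor
  · intro h
    refine mem_secKer.2 ⟨hg, hg0, fun u hu => ?_⟩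
    have h1 : ψ ⟨_, (mem_normalizer_iff.1 hg u).1 hu⟩ = ψ ⟨u, hu⟩ :=
      Multiplicative.toAdd.injective (h ⟨u, hu⟩ ⟨_, (mem_normalizer_iff.1 hg u).1 hu⟩ rfl)
    rw [← mul_inv_eq_one, ← map_inv, ← map_mul] at h1
    exact (hk _).1 h1
  · intro h u w hw
    have h1 : ψ (w * u⁻¹) = 1 := (hk _).2 (by rw [Subgroup.coe_mul, Subgroup.coe_inv, hw]; exact (mem_secKer.1 h).2.2 u u.2)
    rw [map_mul, map_inv, mul_inv_eq_one] at h1
    rw [h1]
    rfl

/-- A quadratic element normalising a natural block acts as an element of the block, and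
linearly. -/
theorem quadratic_linear [Fintype F] [CharP F 3] {ρ : ↥E →* Matrix.SpecialLinearGroup (Fin 2) F}
    (hρ : Function.Surjective ρ) (hact : ∀ e : ↥E, Induces ψ (e : G) ((ρ e : Matrix (Fin 2) (Fin 2) F) *ᵥ ·))
    (hEU : E ≤ normalizer (U : Set G)) (hb : g ∈ normalizer (E : Set G)) (hbU : g ∈ normalizer (U : Set G))
    (hbU0 : g ∈ normalizer (U0 : Set G)) {L : (Fin 2 → F) →+ (Fin 2 → F)} (hL : Induces ψ g L)
    (hq : ∀ v, L (L v - v) = L v - v) :
    ∃ e : ↥E, ∀ v, L v = (ρ e : Matrix (Fin 2) (Fin 2) F) *ᵥ v := by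
  obtain ⟨L', hL'⟩ := exists_induces hs hk (inv_mem hbU) (inv_mem hbU0)
  have hLL' : ∀ v, L (L' v) = v := induces_unique hs hk (g := g * g⁻¹) (by rw [mul_inv_cancel]; exact one_mem _)
    (induces_mul hs hk (inv_mem hbU) hL hL') (by rw [mul_inv_cancel]; exact induces_one hs hk)
  have hL'L : ∀ v, L' (L v) = v := induces_unique hs hk (g := g⁻¹ * g) (by rw [inv_mul_cancel]; exact one_mem _)
    (induces_mul hs hk hbU hL' hL) (by rw [inv_mul_cancel]; exact induces_one hs hk)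
  have hconj : ∀ (e : ↥E) (e' : ↥E), (e' : G) = g⁻¹ * e * g → ∀ v,
      (ρ e : Matrix (Fin 2) (Fin 2) F) *ᵥ L v = L ((ρ e' : Matrix (Fin 2) (Fin 2) F) *ᵥ v) := fun e e' he =>
    induces_unique hs hk (g := (e : G) * g) (mul_mem (hEU e.2) hbU) (induces_mul hs hk hbU (hact e) hL)
      (by rw [show (e : G) * g = g * (e' : G) by rw [he]; group]; exact induces_mul hs hk (hEU e'.2) hL (hact e'))
  -- scalars go to scalars
  have hμ : ∀ l : F, ∃ m : F, ∀ v, L (l • v) = m • L v := by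
    intro l
    obtain ⟨k, hk'⟩ := scalar_of_commute (AddMonoidHom.mk' (fun v => L (l • L' v))
      (fun a b => by rw [map_add, smul_add, map_add])) fun M v => by
      obtain ⟨e, rfl⟩ := hρ M
      have hm : g⁻¹ * (e : G) * g ∈ E := (mem_normalizer_iff''.1 hb _).1 e.2
      simp only [AddMonoidHom.mk'_apply]
      have h1 := hconj e ⟨_, hm⟩ rfl
      have h2 : L' ((ρ e : Matrix (Fin 2) (Fin 2) F) *ᵥ v) = (ρ ⟨_, hm⟩ : Matrix (Fin 2) (Fin 2) F) *ᵥ L' v := by
        have h3 := h1 (L' v)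
        rw [hLL'] at h3
        rw [h3, hL'L]
      rw [h2, ← mulVec_smul, h1]
    refine ⟨k, fun v => ?_⟩
    have := hk' (L v)
    simpa [hL'L] using this
  choose μ hμ using hμ
  have hsq : ∀ v, L (L v) = L v + L v - v := fun v => by
    have := hq v
    rw [map_sub, sub_eq_iff_eq_add] at this
    rw [this]
    abel
  obtain ⟨w, hw⟩ : ∃ w : Fin 2 → F, w ≠ 0 := ⟨![1, 0], fun h => one_ne_zero (congrFun h 0)⟩
  have hLw : L w ≠ 0 := fun h => hw (by rw [← hL'L w, h, map_zero])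
  have hμinj : ∀ l l', μ l = μ l' → l = l' := fun l l' h => by
    have h1 : L (l • w) = L (l' • w) := by rw [hμ, hμ, h]
    exact smul_left_injective F hw (show l • w = l' • w by rw [← hL'L (l • w), h1, hL'L])
  have hlin : ∀ l, μ l = l := by
    intro l
    apply hμinj
    by_contra hne
    have heq : ∀ v, ((μ (μ l) - μ l) + (μ (μ l) - μ l)) • L v = (μ (μ l) - l) • v := fun v => by
      have h1 := hsq (l • v)
      rw [hμ, hμ, hsq] at h1
      ext i
      have h2 := congrFun h1 i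
      simp only [Pi.smul_apply, Pi.add_apply, Pi.sub_apply, smul_eq_mul] at h2 ⊢
      linear_combination h2
    have h20 : (μ (μ l) - μ l) + (μ (μ l) - μ l) ≠ 0 := by
      intro h0
      have h2 : ((2 : ℕ) : F) = 0 := by
        push_cast
        rw [← two_mul, mul_eq_zero] at h0
        exact h0.resolve_right (sub_ne_zero.2 hne)
      rw [CharP.cast_eq_zero_iff F 3] at h2
      norm_num at h2
    obtain ⟨k, hk''⟩ : ∃ k : F, ∀ v, L v = k • v :=
      ⟨((μ (μ l) - μ l) + (μ (μ l) - μ l))⁻¹ * (μ (μ l) - l), fun v => by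
        rw [mul_smul, ← heq, inv_smul_smul₀ h20]⟩
    have hmid : μ l = l := by
      have h1 := hμ l w
      rw [hk'', hk'', smul_comm] at h1
      exact (smul_left_injective F (hk'' w ▸ hLw) h1).symm
    exact hne (by rw [hmid, hmid])
  -- the matrix has determinant one
  obtain ⟨N, hN⟩ : ∃ N : Matrix (Fin 2) (Fin 2) F, ∀ v, L v = N *ᵥ v := by
    refine ⟨LinearMap.toMatrix' ({ toFun := L, map_add' := map_add L, map_smul' := fun l v => (hμ l v).trans (congrArg (fun x => x • L v) (hlin l)) } : (Fin 2 → F) →ₗ[F] (Fin 2 → F)), fun v => ?_⟩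
    rw [LinearMap.toMatrix'_mulVec]
    rfl
  have hNN : (N - 1) * (N - 1) = 0 := Matrix.ext_iff_mulVec.2 fun v => by
    rw [← mulVec_mulVec, zero_mulVec, sub_mulVec, sub_mulVec, one_mulVec, one_mulVec, ← hN, ← hN, hq, sub_self]
  have hdet : N.det = 1 := by
    obtain ⟨a, b, c, d, hN1⟩ : ∃ a b c d : F, N - 1 = !![a, b; c, d] := ⟨_, _, _, _, Matrix.eta_fin_two _⟩
    rw [show N = 1 + !![a, b; c, d] by rw [← hN1, add_sub_cancel]]
    rw [hN1] at hNN
    have e00 := congrFun (congrFun hNN 0) 0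
    have e01 := congrFun (congrFun hNN 0) 1
    have e10 := congrFun (congrFun hNN 1) 0
    have e11 := congrFun (congrFun hNN 1) 1
    simp [Matrix.mul_apply, Fin.sum_univ_two] at e00 e01 e10 e11
    simp [det_fin_two]
    have hτ : a + d = 0 := by
      by_contra hτ
      have hb0 : b = 0 := (mul_eq_zero.1 (show b * (a + d) = 0 by linear_combination e01)).resolve_right hτ
      subst hb0
      have ha : a = 0 := mul_self_eq_zero.1 (by linear_combination e00)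
      have hd : d = 0 := mul_self_eq_zero.1 (by linear_combination e11)
      exact hτ (by rw [ha, hd, add_zero])
    linear_combination hτ + a * hτ - e00
  obtain ⟨e, he⟩ := hρ ⟨N, hdet⟩
  exact ⟨e, fun v => by rw [hN, he]⟩

end Section

theorem unipotent_quadratic [CharP F 3] {A : Matrix (Fin 2) (Fin 2) F} (hd : A.det = 1) (h3 : A * A * A = 1)
    (v : Fin 2 → F) : A *ᵥ (A *ᵥ v - v) = A *ᵥ v - v := by
  have h3' : (3 : F) = 0 := by simpa using CharP.cast_eq_zero F 3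
  obtain ⟨a, b, c, d, rfl⟩ : ∃ a b c d : F, A = !![a, b; c, d] := ⟨_, _, _, _, Matrix.eta_fin_two _⟩
  rw [det_fin_two_of] at hd
  have e00 := congrFun (congrFun h3 0) 0
  have e01 := congrFun (congrFun h3 0) 1
  have e10 := congrFun (congrFun h3 1) 0
  have e11 := congrFun (congrFun h3 1) 1
  simp [Matrix.mul_apply, Fin.sum_univ_two] at e00 e01 e10 e11
  have hτ : a + d = 2 := by
    -- `(τ - 2)³ = 0`
    have h : (a + d - 2) ^ 3 = 0 := by
      linear_combination e00 + e11 + 3 * (a + d) * hd + (-2 * (a + d) ^ 2 + 5 * (a + d) - 2) * h3'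
    exact sub_eq_zero.1 ((pow_eq_zero_iff (n := 3) (by norm_num)).1 h)
  funext i
  fin_cases i <;> simp [mulVec, dotProduct, Fin.sum_univ_two]
  · linear_combination (a * v 0 + b * v 1) * hτ - v 0 * hd
  · linear_combination (c * v 0 + d * v 1) * hτ - v 1 * hd

namespace Setting

variable [Fintype F] (S : Setting G F)

/-- An element of the Baumann subgroup that moves `W` and is quadratic on both sections. -/
theorem exists_quad : ∃ b ∈ S.B, b ∉ centralizer (S.W : Set G) ∧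
    (∀ w ∈ S.W, b * (b * w * b⁻¹ * w⁻¹) * b⁻¹ * (b * w * b⁻¹ * w⁻¹)⁻¹ ∈ S.Z) ∧
    (∀ x ∈ S.Q, b * (b * x * b⁻¹ * x⁻¹) * b⁻¹ * (b * x * b⁻¹ * x⁻¹)⁻¹ ∈ S.W) := by
  haveI := S.hchar
  obtain ⟨J, hJ⟩ : ∃ J, J = thompsonSubgroupOf 3 (S.T : Subgroup G) := ⟨_, rfl⟩
  have hJB : J ≤ S.B := hJ ▸ centralizes_thompson_omega _
  have hJW : ¬ J ≤ centralizer (S.WE : Set G) := fun h =>
    (block_location S.hG S.T S.E S.hE).2.2
      ((commutator_comm _ _).trans (commutator_eq_bot_iff_le_centralizer.2 (hJ ▸ h)))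
  have hbn : ∀ {b}, b ∈ S.B → b ∈ normalizer (S.E : Set G) := fun hb => S.B_le_NE hb
  have hbp : ∀ {b}, b ∈ S.B → IsPGroup 3 (zpowers b) := fun hb => S.T.2.to_le (zpowers_le.2 hb.1)
  rcases card_three_or (F := F) with h3 | h4
  · -- the sections have order nine
    obtain ⟨b, hb, hbW⟩ := SetLike.not_le_iff_exists.1 hJW
    have hbB := hJB hb
    refine ⟨b, hbB, fun hc => hbW (centralizer_le (SetLike.coe_subset_coe.2 S.WE_le_W) hc), ?_, ?_⟩
    · refine quad_section (bW_pGroup S.E) (hbp hbB) S.Z_le_W (S.NE_le_NW (hbn hbB)) (S.NE_le_NZ (hbn hbB))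
        (bW_le_normalizer_bZ S.E) ?_
      rw [acts_card S.hWact, Nat.card_eq_fintype_card, h3]
    · refine quad_section S.Q_pGroup (hbp hbB) S.W_le_Q (S.NE_le_NQ (hbn hbB)) (S.NE_le_NW (hbn hbB))
        (core_le_normalizer_bW S.E) ?_
      rw [acts_card S.hQact, Nat.card_eq_fintype_card, h3]
  -- a quadratic element on the module
  obtain ⟨P, hP⟩ : ∃ P, P = (S.T : Subgroup G) ⊓ normalizer (S.WE : Set G) := ⟨_, rfl⟩
  have hWEP : S.WE ≤ P := hP ▸ le_inf (S.WE_le_M.trans (CfsgLib.Core.pCore_le_sylow S.T)) le_normalizer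
  have hJP : J ≤ P := hP ▸ le_inf (hJ ▸ thompsonSubgroupOf_le _) (hJB.trans (S.B_le_NE.trans S.NE_le_NWE))
  obtain ⟨A, hA, hAW⟩ : ∃ A, CfsgLib.Transfer.MaxElem 3 (S.T : Subgroup G) A ∧ ¬ A ≤ centralizer (S.WE : Set G) := by
    by_contra hcon
    push Not at hcon
    refine hJW ?_
    rw [hJ, CfsgLib.Transfer.thompsonOf_eq_sSup]
    exact sSup_le hcon
  have hAP : A ≤ P := (hJ ▸ CfsgLib.Transfer.le_thompsonOf_of_max hA : A ≤ J).trans hJP
  haveI : (S.WE.subgroupOf P).Normal :=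
    (normal_subgroupOf_iff_le_normalizer hWEP).2 (hP ▸ inf_le_right)
  have hWel : IsElementaryAbelian 3 (S.WE.subgroupOf P) :=
    CfsgLib.PLocal.elementary_comap _ P.subtype_injective ⟨le_centralizer_iff_isMulCommutative.1 fun x hx =>
      mem_centralizer_iff.2 fun y hy => omegaOneCenter_comm (S.WE_le_W hy) (S.WE_le_W hx),
      fun x hx => omegaOneCenter_pow (S.WE_le_W hx)⟩
  have hAm : A.subgroupOf P ∈ maxElementaryAbelianSubgroups 3 ↥P := by
    refine ⟨CfsgLib.PLocal.elementary_comap _ P.subtype_injective hA.2.1, fun D hD => ?_⟩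
    rw [Nat.card_congr (subgroupOfEquivOfLe hAP).toEquiv, ← card_map_of_injective (K := D) P.subtype_injective]
    haveI := hD.1
    exact hA.2.2 _ ((map_subtype_le D).trans (hP ▸ inf_le_left))
      ⟨Subgroup.map_isMulCommutative _ _, by rintro _ ⟨d, hd, rfl⟩; rw [← map_pow, hD.2 d hd, map_one]⟩
  obtain ⟨hA', hquad, hne⟩ := CfsgLib.PLocal.thompson_replacement_max hWel hAm
  obtain ⟨D, hD⟩ : ∃ D, D = ⁅S.WE.subgroupOf P, A.subgroupOf P⁆ ⊔
      (A.subgroupOf P ⊓ centralizer ((⁅S.WE.subgroupOf P, A.subgroupOf P⁆ : Subgroup ↥P) : Set ↥P)) := ⟨_, rfl⟩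
  rw [← hD] at hA' hquad hne
  have hne' : ¬ S.WE.subgroupOf P ≤ centralizer (D : Set ↥P) := by
    rw [← commutator_eq_bot_iff_le_centralizer]
    refine hne fun h => hAW fun a ha => mem_centralizer_iff.2 fun w hw => ?_
    exact (congrArg Subtype.val (mem_centralizer_iff.1 (commutator_eq_bot_iff_le_centralizer.1 h
      (mem_subgroupOf.2 hw : (⟨w, hWEP hw⟩ : ↥P) ∈ S.WE.subgroupOf P)) ⟨a, hAP ha⟩ (mem_subgroupOf.2 ha))).symm
  obtain ⟨⟨w0, hw0P⟩, hw0, hw0D⟩ := SetLike.not_le_iff_exists.1 hne'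
  obtain ⟨⟨b, hbP⟩, hbD, hbw⟩ : ∃ d ∈ D, ⟨w0, hw0P⟩ * d ≠ d * (⟨w0, hw0P⟩ : ↥P) := by
    by_contra hcon
    push Not at hcon
    exact hw0D (mem_centralizer_iff.2 fun d hd => (hcon d hd).symm)
  have hDmax : CfsgLib.Transfer.MaxElem 3 (S.T : Subgroup G) (D.map P.subtype) := by
    haveI := hA'.1.1
    refine ⟨(map_subtype_le D).trans (hP ▸ inf_le_left),
      ⟨Subgroup.map_isMulCommutative _ _, by rintro _ ⟨d, hd, rfl⟩; rw [← map_pow, hA'.1.2 d hd, map_one]⟩, fun X hX hXel => ?_⟩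
    refine (hA.2.2 X hX hXel).trans ?_
    rw [card_map_of_injective P.subtype_injective, ← Nat.card_congr (subgroupOfEquivOfLe hAP).toEquiv]
    exact hA'.2 _ (CfsgLib.PLocal.elementary_comap _ P.subtype_injective hA.2.1)
  have hbB : b ∈ S.B := hJB (hJ ▸ CfsgLib.Transfer.le_thompsonOf_of_max hDmax ⟨_, hbD, rfl⟩)
  have hbE := hbn hbB
  have hbW := S.NE_le_NW hbE
  have hbZ := S.NE_le_NZ hbE
  have hbQ := S.NE_le_NQ hbE
  have hbnc : b ∉ centralizer (S.W : Set G) := fun hc => hbw (Subtype.ext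
    (mem_centralizer_iff.1 hc w0 (S.WE_le_W (mem_subgroupOf.1 hw0))))
  have hqWE : ∀ w ∈ S.WE, b * (b * w * b⁻¹ * w⁻¹) * b⁻¹ * (b * w * b⁻¹ * w⁻¹)⁻¹ = 1 := by
    intro w hw
    have h1 : ⁅(⟨b, hbP⟩ : ↥P), ⁅(⟨b, hbP⟩ : ↥P), (⟨w, hWEP hw⟩ : ↥P)⁆⁆ = 1 := by
      have h2 : ⁅(⟨b, hbP⟩ : ↥P), (⟨w, hWEP hw⟩ : ↥P)⁆ ∈ ⁅S.WE.subgroupOf P, D⁆ := by
        rw [commutator_comm]; exact commutator_mem_commutator hbD (mem_subgroupOf.2 hw)
      have h3 : ⁅⁅(⟨b, hbP⟩ : ↥P), (⟨w, hWEP hw⟩ : ↥P)⁆, (⟨b, hbP⟩ : ↥P)⁆ = 1 := by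
        rw [← mem_bot, ← hquad]; exact commutator_mem_commutator h2 hbD
      rw [← commutatorElement_inv, h3, inv_one]
    have h4 := congrArg Subtype.val h1
    simpa [commutatorElement_def, mul_assoc] using h4
  have hqW : ∀ w ∈ S.W, b * (b * w * b⁻¹ * w⁻¹) * b⁻¹ * (b * w * b⁻¹ * w⁻¹)⁻¹ ∈ S.Z := by
    intro w hw
    have hn : S.WE ≤ normalizer (S.Z : Set G) := S.WE_le_W.trans (bW_le_normalizer_bZ S.E)
    obtain ⟨x, hx, z, hz, rfl⟩ := (CfsgLib.Core.mem_sup_iff_mul hn).1 (S.W_eq_sup.le hw)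
    obtain ⟨u, hu⟩ : ∃ u, u = b * x * b⁻¹ * x⁻¹ := ⟨_, rfl⟩
    obtain ⟨v, hv⟩ : ∃ v, v = b * z * b⁻¹ * z⁻¹ := ⟨_, rfl⟩
    have hvZ : v ∈ S.Z := hv ▸ mul_mem ((mem_normalizer_iff.1 hbZ z).1 hz) (inv_mem hz)
    have hxW := S.WE_le_W hx
    have huW : u ∈ S.W := hu ▸ mul_mem ((mem_normalizer_iff.1 hbW x).1 hxW) (inv_mem hxW)
    have e1 : b * (x * z) * b⁻¹ * (x * z)⁻¹ = u * v := by
      rw [show b * (x * z) * b⁻¹ * (x * z)⁻¹ = u * (x * v * x⁻¹) by rw [hu, hv]; group,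
        omegaOneCenter_comm hxW (S.Z_le_W hvZ), mul_inv_cancel_right]
    have huu : b * u * b⁻¹ = u := mul_inv_eq_one.1 (hu ▸ hqWE x hx)
    rw [e1, show b * (u * v) * b⁻¹ * (u * v)⁻¹ = (b * u * b⁻¹) * (b * v * b⁻¹ * v⁻¹) * u⁻¹ by group, huu]
    have hm : b * v * b⁻¹ * v⁻¹ ∈ S.Z := mul_mem ((mem_normalizer_iff.1 hbZ v).1 hvZ) (inv_mem hvZ)
    rw [omegaOneCenter_comm huW (S.Z_le_W hm), mul_inv_cancel_right]
    exact hm
  refine ⟨b, hbB, hbnc, hqW, ?_⟩
  -- the action is linear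
  have htop := (sl2_quasisimple h4).2
  obtain ⟨hEW, -, ρW, ψW, hρW, hsW, hkW, hactW⟩ := S.hWact
  obtain ⟨hEQ, -, ρQ, ψQ, hρQ, hsQ, hkQ, hactQ⟩ := S.hQact
  have hsurW : Function.Surjective ρW := MonoidHom.range_eq_top.1 (hρW.trans htop)
  have hsurQ : Function.Surjective ρQ := MonoidHom.range_eq_top.1 (hρQ.trans htop)
  have hiW : ∀ e : ↥S.E, Induces ψW (e : G) ((ρW e : Matrix (Fin 2) (Fin 2) F) *ᵥ ·) := by
    intro e u w hw
    obtain ⟨w', hw', he⟩ := hactW e u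
    rw [show w = w' from Subtype.ext (hw.trans hw'.symm)]
    exact he
  have hiQ : ∀ e : ↥S.E, Induces ψQ (e : G) ((ρQ e : Matrix (Fin 2) (Fin 2) F) *ᵥ ·) := by
    intro e u w hw
    obtain ⟨w', hw', he⟩ := hactQ e u
    rw [show w = w' from Subtype.ext (hw.trans hw'.symm)]
    exact he
  obtain ⟨L, hL⟩ := exists_induces hsW hkW hbW hbZ
  have hLq : ∀ v, L (L v - v) = L v - v := by
    intro v
    obtain ⟨u, hu⟩ := hsW (Multiplicative.ofAdd v)
    obtain ⟨u', hu'⟩ : ∃ u' : ↥S.W, (u' : G) = b * u * b⁻¹ := ⟨⟨_, (mem_normalizer_iff.1 hbW _).1 u.2⟩, rfl⟩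
    obtain ⟨u'', hu''⟩ : ∃ u'' : ↥S.W, (u'' : G) = b * ((u' * u⁻¹ : ↥S.W) : G) * b⁻¹ :=
      ⟨⟨_, (mem_normalizer_iff.1 hbW _).1 (u' * u⁻¹).2⟩, rfl⟩
    have e1 := hL u u' hu'
    have e2 := hL (u' * u⁻¹) u'' hu''
    have e3 : ψW (u'' * (u' * u⁻¹)⁻¹) = 1 := (hkW _).2 (by
      rw [Subgroup.coe_mul, Subgroup.coe_inv, hu'', Subgroup.coe_mul, Subgroup.coe_inv, hu']
      exact hqW u u.2)
    rw [map_mul, map_inv, mul_inv_eq_one] at e3
    rw [e3, map_mul, map_inv, toAdd_mul, toAdd_inv, e1, hu, toAdd_ofAdd, ← sub_eq_add_neg] at e2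
    exact e2.symm
  obtain ⟨e0, he0⟩ := quadratic_linear hsW hkW hsurW hiW hEW hbE hbW hbZ hL hLq
  -- the difference is scalar on the other section
  obtain ⟨g, hg⟩ : ∃ g, g = (e0 : G)⁻¹ * b := ⟨_, rfl⟩
  have hgE : g ∈ normalizer (S.E : Set G) := hg ▸ mul_mem (inv_mem (S.E_le_NE e0.2)) hbE
  have hgW : g ∈ secKer S.W S.Z := by
    refine (induces_id_iff hsW hkW (S.NE_le_NW hgE) (S.NE_le_NZ hgE)).1 fun u w hw => ?_
    have h1 := induces_mul hsW hkW hbW (hiW e0⁻¹) hL u w (by rw [hw, hg, Subgroup.coe_inv])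
    simp only [he0, mulVec_mulVec, ← Matrix.SpecialLinearGroup.coe_mul, ← map_mul, inv_mul_cancel, map_one,
      Matrix.SpecialLinearGroup.coe_one, one_mulVec] at h1
    exact h1
  obtain ⟨K, hK⟩ := exists_induces hsQ hkQ (S.NE_le_NQ hgE) (S.NE_le_NW hgE)
  obtain ⟨k, hk⟩ := scalar_of_commute K fun M v => by
    obtain ⟨e, rfl⟩ := hsurQ M
    obtain ⟨q, hq, hqe⟩ : ∃ q ∈ S.Q, g * (e : G) = q * ((e : G) * g) := by
      refine ⟨⁅g, (e : G)⁆, S.kernel_WZ (mem_inf.2 ⟨?_, ?_⟩), by rw [commutatorElement_def]; group⟩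
      · rw [commutatorElement_def]
        exact mul_mem ((mem_normalizer_iff.1 hgE _).1 e.2) (inv_mem e.2)
      · rw [← commutatorElement_inv]
        exact inv_mem (commutator_mem_secKer (S.NE_le_NW (S.E_le_NE e.2)) (S.NE_le_NZ (S.E_le_NE e.2)) hgW)
    exact induces_unique hsQ hkQ (g := g * (e : G)) (mul_mem (S.NE_le_NQ hgE) (hEQ e.2))
      (induces_mul hsQ hkQ (hEQ e.2) hK (hiQ e))
      (by
        rw [hqe]
        exact induces_mul hsQ hkQ (mul_mem (hEQ e.2) (S.NE_le_NQ hgE))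
          ((induces_id_iff hsQ hkQ (le_normalizer hq) (core_le_normalizer_bW S.E hq)).2 (S.Q_le_secKer_QW hq))
          (induces_mul hsQ hkQ (S.NE_le_NQ hgE) (hiQ e) hK)) v
  -- the image of the element of the block is unipotent
  obtain ⟨A', hA''⟩ : ∃ A' : Matrix (Fin 2) (Fin 2) F, A' = (ρQ e0 : Matrix (Fin 2) (Fin 2) F) := ⟨_, rfl⟩
  have hA3 : A' * A' * A' = 1 := by
    have hcube : ((e0 * e0 * e0 : ↥S.E) : G) ∈ secKer S.W S.Z := by
      refine (induces_id_iff hsW hkW (hEW (e0 * e0 * e0).2) (S.NE_le_NZ (S.E_le_NE (e0 * e0 * e0).2))).1 fun u w hw => ?_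
      have h1 := hiW (e0 * e0 * e0) u w hw
      simp only [map_mul, Matrix.SpecialLinearGroup.coe_mul, ← mulVec_mulVec, ← he0] at h1
      rw [h1]
      have h3 : ∀ v, L (L (L v)) = v := fun v => by
        have hsq : ∀ v, L (L v) = L v + L v - v := fun v => by
          have := hLq v
          rw [map_sub, sub_eq_iff_eq_add] at this
          rw [this]
          abel
        rw [hsq v, map_sub, map_add, hsq]
        have h3' : (3 : F) = 0 := by simpa using CharP.cast_eq_zero F 3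
        ext i
        simp only [Pi.add_apply, Pi.sub_apply]
        linear_combination (L v i - v i) * h3'
      exact h3 _
    have hq := S.Q_le_secKer_QW (S.kernel_WZ (mem_inf.2 ⟨(e0 * e0 * e0).2, hcube⟩))
    refine Matrix.ext_iff_mulVec.2 fun v => ?_
    have h1 := induces_unique hsQ hkQ (hEQ (e0 * e0 * e0).2) (hiQ (e0 * e0 * e0))
      ((induces_id_iff hsQ hkQ hq.1 hq.2.1).2 hq) v
    simp only [map_mul, Matrix.SpecialLinearGroup.coe_mul, ← hA'', id] at h1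
    rw [h1, one_mulVec]
  have hLb : Induces ψQ b (fun v => A' *ᵥ (k • v)) := by
    have h1 := induces_mul hsQ hkQ (S.NE_le_NQ hgE) (hiQ e0) hK
    rw [show (e0 : G) * g = b by rw [hg, mul_inv_cancel_left]] at h1
    intro u w hw
    rw [h1 u w hw]
    simp only [hk, ← hA'']
  have hk1 : k = 1 := by
    obtain ⟨j, hj⟩ := hbp hbB ⟨b, mem_zpowers b⟩
    have hj' : b ^ 3 ^ j = 1 := congrArg Subtype.val hj
    have hpow : ∀ n : ℕ, Induces ψQ (b ^ n) (fun v => (k ^ n) • ((A' ^ n) *ᵥ v)) := by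
      intro n
      induction n with
      | zero =>
        intro u w hw
        rw [induces_one hsQ hkQ u w (by simpa using hw)]
        simp
      | succ n ih =>
        rw [pow_succ' b]
        intro u w hw
        rw [induces_mul hsQ hkQ (pow_mem hbQ n) hLb ih u w hw]
        simp only [pow_succ', mulVec_smul, smul_smul, mulVec_mulVec]
    have h1 : b ^ 3 ^ (j + 1) = 1 := by rw [pow_succ, pow_mul, hj', one_pow]
    have h2 := hpow (3 ^ (j + 1))
    rw [h1] at h2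
    have hA3' : A' ^ 3 ^ (j + 1) = 1 := by rw [pow_succ', pow_mul, pow_three', hA3, one_pow]
    have h3 := induces_unique hsQ hkQ (one_mem _) h2 (induces_one hsQ hkQ) ![1, 0]
    simp only [hA3', one_mulVec, id] at h3
    have h4 := congrFun h3 0
    simp at h4
    haveI : Fact (Nat.Prime 3) := ⟨Nat.prime_three⟩
    have h5 : (k - 1) ^ 3 ^ (j + 1) = 0 := by rw [sub_pow_char_pow, h4, one_pow, sub_self]
    exact sub_eq_zero.1 ((pow_eq_zero_iff (by positivity)).1 h5)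
  intro x hx
  have hx' : b * x * b⁻¹ ∈ S.Q := (mem_normalizer_iff.1 hbQ x).1 hx
  have hd : b * x * b⁻¹ * x⁻¹ ∈ S.Q := mul_mem hx' (inv_mem hx)
  have hd' : b * (b * x * b⁻¹ * x⁻¹) * b⁻¹ ∈ S.Q := (mem_normalizer_iff.1 hbQ _).1 hd
  have hA1 : A'.det = 1 := hA'' ▸ (ρQ e0).2
  refine (hkQ (⟨_, hd'⟩ * ⟨_, hd⟩⁻¹)).1 ?_
  have e1 := hLb ⟨x, hx⟩ ⟨_, hx'⟩ rfl
  have e2 := hLb ⟨_, hd⟩ ⟨_, hd'⟩ rfl
  rw [map_mul, map_inv, mul_inv_eq_one]
  refine Multiplicative.toAdd.injective ?_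
  simp only [hk1, one_smul] at e1 e2
  rw [e2, show (⟨_, hd⟩ : ↥S.Q) = ⟨_, hx'⟩ * ⟨x, hx⟩⁻¹ from rfl, map_mul, map_inv, toAdd_mul, toAdd_inv, e1,
    ← sub_eq_add_neg]
  exact unipotent_quadratic hA1 hA3 _

end Setting

end CfsgLib.LocalEven.BlockCent
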