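import Cfsg.Agent.Lib.LocalEven.BlockCent.Action
import Cfsg.Agent.Lib.LocalEven.BlockCent.Quad

/-!
# No element of `C_G(W_E)` imitates the block

An element of `C_G(W_E)` commuting with the involution and acting on the image of the core as a
non-central element of the block would split the core into two natural modules.
-/

set_option autoImplicit false
set_option linter.all false

namespace CfsgLib.LocalEven.BlockCent

open Subgroup Cfsg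
open CfsgLib.LocalEvenB
open CfsgLib.LocalEvenB.SubBlocks
open scoped commutatorElement

variable {G : Type*} [Group G] [Finite G]

set_option synthInstance.maxSize 8192 in
set_option synthInstance.maxHeartbeats 400000 in
set_option maxHeartbeats 1000000 in
/-- Facts in the quaternion group. -/
theorem quat_square : ∀ g : Matrix.SpecialLinearGroup (Fin 2) (ZMod 3), g ^ 4 = 1 →
    ∀ h : Matrix.SpecialLinearGroup (Fin 2) (ZMod 3), h ^ 4 = 1 →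
    ∀ k : Matrix.SpecialLinearGroup (Fin 2) (ZMod 3), k ^ 4 = 1 →
      g * k ≠ k * g → h * h = 1 → h ≠ 1 → g * g = h := by decide +kernel

namespace Setting

variable {F : Type} [Field F] [Fintype F] (S : Setting G F)

/-- Commuting with the involution on the module. -/
def CommT (c : ↥S.H) : Prop := ∀ v : S.V, c • S.τ • v = S.τ • c • v

theorem CommT_mul {a b : ↥S.H} (ha : S.CommT a) (hb : S.CommT b) : S.CommT (a * b) := fun v => by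
  rw [mul_smul, mul_smul, hb, ha]

theorem CommT_inv {a : ↥S.H} (ha : S.CommT a) : S.CommT a⁻¹ := fun v => by
  rw [inv_smul_eq_iff, ha, smul_inv_smul]

/-- The elements of `C_G(W_E)` trivial on the three sections. -/
def K1 : Subgroup G :=
  S.CC ⊓ secKer S.M S.YM ⊓ secKer S.YM S.ZM ⊓ secKer S.ZM S.WE

theorem mem_K1 {k : G} : k ∈ S.K1 ↔
    k ∈ S.CC ∧ k ∈ secKer S.M S.YM ∧ k ∈ secKer S.YM S.ZM ∧ k ∈ secKer S.ZM S.WE := by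
  simp only [K1, mem_inf, and_assoc]

theorem H_conj_K1 {h k : G} (hh : h ∈ S.H) (hk : k ∈ S.K1) : h * k * h⁻¹ ∈ S.K1 := by
  obtain ⟨h1, h2, h3, h4⟩ := S.mem_K1.1 hk
  exact S.mem_K1.2 ⟨(mem_normalizer_iff.1 (S.H_le_NCC hh) k).1 h1,
    conj_mem_secKer (S.le_normalizer_M ⊤ (mem_top h)) (S.H_le_NYM hh) h2,
    conj_mem_secKer (S.H_le_NYM hh) (S.H_le_NZM hh) h3,
    conj_mem_secKer (S.H_le_NZM hh) (S.H_le_NWE hh) h4⟩

theorem eq_one_of_coprime_stab {g : G} (hg : (orderOf g).Coprime 3) (hW : g ∈ S.CC) (hZ : g ∈ secKer S.ZM S.WE)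
    (h : g ∈ secKer S.M S.ZM) : g = 1 := by
  have h1 := coprime_stab (C := S.WE) S.M_pGroup inf_le_left S.ZM_le_NWE hg h hZ
  have h2 := coprime_stab (C := ⊥) S.M_pGroup S.WE_le_M
    (fun z _ => mem_normalizer_iff.2 fun h => by simp [mem_bot, conj_eq_one_iff]) hg h1 (mem_secKer_bot hW)
  have hgM : g ∈ S.M := S.hG (secKer_bot_le_centralizer _ h2)
  obtain ⟨k, hk⟩ := IsPGroup.iff_orderOf.1 S.M_pGroup ⟨g, hgM⟩
  rw [Subgroup.orderOf_mk] at hk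
  rw [← orderOf_eq_one_iff]
  exact Nat.eq_one_of_dvd_coprimes (hg.pow_right k) dvd_rfl hk.dvd

theorem K1_pGroup : IsPGroup 3 S.K1 := fun ⟨x, hx⟩ => by
  obtain ⟨a, ha⟩ := CfsgLib.Transfer.exists_pow_prime_pow_coprime (p := 3) x
  obtain ⟨h1, h2, h3, h4⟩ := S.mem_K1.1 (pow_mem hx (3 ^ a))
  refine ⟨a, Subtype.ext ?_⟩
  rw [SubgroupClass.coe_pow, OneMemClass.coe_one]
  exact S.eq_one_of_coprime_stab ha h1 h4 (coprime_stab S.M_pGroup S.YM_le_M (S.top_le_normalizer_ZM _) ha h2 h3)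

theorem K1_le_NE : S.K1 ≤ normalizer (S.E : Set G) :=
  block_normalized S.T S.hE S.K1_pGroup
    (fun b hb => mem_normalizer_of_forall fun k hk => S.H_conj_K1 (S.NE_le_H (S.B_le_NE hb)) hk)
    (fun e he => mem_normalizer_of_forall fun k hk => S.H_conj_K1 (S.E_le_H he) hk)

theorem mem_Q_of_centralizes {g : G} (hg : g ∈ S.E) (hc : g ∈ S.CC) : g ∈ S.Q := by
  refine S.kernel_WZ (mem_inf.2 ⟨hg, mem_secKer.2 ⟨S.NE_le_NW (S.E_le_NE hg), S.NE_le_NZ (S.E_le_NE hg), fun w hw => ?_⟩⟩)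
  have hle : S.W ≤ centralizer ({g} : Set G) := S.W_eq_sup.le.trans (sup_le
    (fun x hx => mem_centralizer_singleton_iff.2 (mem_centralizer_iff.1 hc x hx))
    fun x hx => mem_centralizer_singleton_iff.2 (mem_centralizer_iff.1 hx.2 g hg).symm)
  rw [← mem_centralizer_singleton_iff.1 (hle hw), mul_inv_cancel_right, mul_inv_cancel]
  exact one_mem _

theorem comm_E_CC {c : G} (hc : c ∈ S.CC) {e : G} (he : e ∈ S.E) : c * e * c⁻¹ * e⁻¹ ∈ S.CC := by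
  rw [show c * e * c⁻¹ * e⁻¹ = c * (e * c⁻¹ * e⁻¹) by group]
  exact mul_mem hc ((mem_normalizer_iff.1 (S.H_le_NCC (S.E_le_H he)) _).1 (inv_mem hc))

theorem K1_comm_E {k e : G} (hk : k ∈ S.K1) (he : e ∈ S.E) : k * e * k⁻¹ * e⁻¹ ∈ S.Q :=
  S.mem_Q_of_centralizes (mul_mem ((mem_normalizer_iff.1 (S.K1_le_NE hk) e).1 he) (inv_mem he))
    (S.comm_E_CC (S.mem_K1.1 hk).1 he)

theorem K1_fix_Z0 {k x : G} (hk : k ∈ S.K1) (hx : x ∈ S.Z0) : k * x * k⁻¹ = x := by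
  have hq := S.K1_comm_E hk S.t_mem
  have hzm : k * x * k⁻¹ ∈ S.ZM := (mem_normalizer_iff.1 (S.top_le_normalizer_ZM ⊤ (mem_top k)) x).1 hx.1
  have h1 : S.t * (k * x * k⁻¹) * S.t⁻¹ = k * x * k⁻¹ := by
    have hzm' : k * (S.t * x * S.t⁻¹) * k⁻¹ ∈ S.ZM := by rw [hx.2]; exact hzm
    rw [show S.t * (k * x * k⁻¹) * S.t⁻¹ =
      (k * S.t * k⁻¹ * S.t⁻¹)⁻¹ * (k * (S.t * x * S.t⁻¹) * k⁻¹) * (k * S.t * k⁻¹ * S.t⁻¹)⁻¹⁻¹ by group,
      S.Q_conj_ZM (inv_mem hq) hzm', hx.2]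
  have h2 : k * x * k⁻¹ * x⁻¹ ∈ S.WE ⊓ S.Z0 :=
    mem_inf.2 ⟨(mem_secKer.1 (S.mem_K1.1 hk).2.2.2).2.2 x hx.1, mul_mem ⟨hzm, h1⟩ (inv_mem hx)⟩
  rw [S.WE_inf_Z0, mem_bot, mul_inv_eq_one] at h2
  exact h2

theorem E_secKer_MY {e : G} (he : e ∈ S.E) : e ∈ secKer S.M S.YM :=
  mem_secKer.2 ⟨S.le_normalizer_M ⊤ (mem_top e), S.H_le_NYM (S.E_le_H he),
    fun m hm => S.Q_le_YM ((mem_secKer.1 (S.E_le_secKer_MQ he)).2.2 m hm)⟩

theorem comm_E_sections {c e : G} (hc : c ∈ S.CC) (he : e ∈ S.E) :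
    c * e * c⁻¹ * e⁻¹ ∈ secKer S.M S.YM ∧ c * e * c⁻¹ * e⁻¹ ∈ secKer S.ZM S.WE := by
  have hh := S.CC_le_H hc
  refine ⟨?_, ?_⟩
  · exact mul_mem (conj_mem_secKer (S.le_normalizer_M ⊤ (mem_top c)) (S.H_le_NYM hh) (S.E_secKer_MY he))
      (inv_mem (S.E_secKer_MY he))
  · exact mul_mem (conj_mem_secKer (S.H_le_NZM hh) (S.H_le_NWE hh) (S.E_le_secKer_ZM he))
      (inv_mem (S.E_le_secKer_ZM he))

theorem comm_K1 {c : ↥S.H} {e : ↥S.E} (hc : (c : G) ∈ S.CC) (h : ∀ v : S.V, c • S.ofE e • v = S.ofE e • c • v) :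
    (c : G) * e * (c : G)⁻¹ * (e : G)⁻¹ ∈ S.K1 := by
  obtain ⟨h1, h2⟩ := S.comm_E_sections hc e.2
  refine S.mem_K1.2 ⟨S.comm_E_CC hc e.2, h1, ?_, h2⟩
  have := (S.act_trivial_iff (g := c * S.ofE e * c⁻¹ * (S.ofE e)⁻¹)).1 fun v => by
    rw [mul_smul, mul_smul, mul_smul]
    have hv := h (c⁻¹ • (S.ofE e)⁻¹ • v)
    rw [hv, smul_inv_smul, smul_inv_smul]
  exact this

theorem CommT_fix_Z0 {c : ↥S.H} (hc : (c : G) ∈ S.CC) (hct : S.CommT c) {x : G} (hx : x ∈ S.Z0) :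
    (c : G) * x * (c : G)⁻¹ ∈ S.Z0 := by
  have hk := S.H_conj_K1 (S.H.inv_mem c.2) (S.comm_K1 (e := ⟨S.t, S.t_mem⟩) hc hct)
  refine ⟨(mem_normalizer_iff.1 (S.top_le_normalizer_ZM ⊤ (mem_top (c : G))) x).1 hx.1, ?_⟩
  obtain ⟨k, hkd⟩ : ∃ k, k = (c : G)⁻¹ * ((c : G) * S.t * (c : G)⁻¹ * S.t⁻¹) * (c : G)⁻¹⁻¹ := ⟨_, rfl⟩
  rw [← hkd] at hk
  have hk' := S.K1_fix_Z0 (inv_mem hk) hx
  rw [show S.t * ((c : G) * x * (c : G)⁻¹) * S.t⁻¹ = (c : G) * (k⁻¹ * (S.t * x * S.t⁻¹) * k⁻¹⁻¹) * (c : G)⁻¹ by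
    rw [hkd]; group, hx.2, hk']

/-- The inverse image of the core. -/
def P0 : Subgroup G := S.Q ⊔ S.ZM

theorem P0_le_YM : S.P0 ≤ S.YM := sup_le S.Q_le_YM S.ZM_le_YM

theorem P0_le_M : S.P0 ≤ S.M := S.P0_le_YM.trans S.YM_le_M

theorem mem_P0 {x : G} (hx : x ∈ S.P0) : ∃ q ∈ S.Q, ∃ z ∈ S.ZM, x = q * z :=
  (CfsgLib.Core.mem_sup_iff_mul (S.top_le_normalizer_ZM _)).1 hx

theorem mem_P0_iff {x : G} (hx : x ∈ S.YM) : x ∈ S.P0 ↔ S.InU (S.vmk ⟨x, hx⟩) := by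
  constructor
  · intro h
    obtain ⟨q, hq, z, hz, rfl⟩ := S.mem_P0 h
    refine ⟨⟨q, S.Q_le_YM hq⟩, hq, S.vmk_eq_iff.2 ?_⟩
    show q * (q * z)⁻¹ ∈ S.ZM
    rw [show q * (q * z)⁻¹ = q * z⁻¹ * q⁻¹ by group, S.Q_conj_ZM hq (inv_mem hz)]
    exact inv_mem hz
  · rintro ⟨⟨q, hqY⟩, hq, he⟩
    have h1 : q * x⁻¹ ∈ S.ZM := S.vmk_eq_iff.1 he
    rw [show x = (q * x⁻¹)⁻¹ * q by group]
    exact mul_mem (mem_sup_right (inv_mem h1)) (mem_sup_left hq)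

theorem P0_decomp {x : G} (hx : x ∈ S.P0) : ∃ q ∈ S.Q, ∃ z ∈ S.Z0, x = q * z := by
  obtain ⟨q, hq, z, hz, rfl⟩ := S.mem_P0 hx
  obtain ⟨w, hw, z0, hz0, rfl⟩ := S.ZM_decomp hz
  exact ⟨q * w, mul_mem hq (S.W_le_Q (S.WE_le_W hw)), z0, hz0, (mul_assoc _ _ _).symm⟩

theorem M_conj_ZM {m z : G} (hm : m ∈ S.M) (hz : z ∈ S.ZM) : m * z * m⁻¹ = z := by
  rw [mem_centralizer_iff.1 hz.2 m hm, mul_inv_cancel_right]

theorem M_le_NZ0 : S.M ≤ normalizer (S.Z0 : Set G) := fun m hm => mem_normalizer_of_forall fun z hz => by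
  rwa [S.M_conj_ZM hm hz.1]

theorem CommT_normalizer {c : ↥S.H} (hc : (c : G) ∈ S.CC) (hct : S.CommT c) :
    (c : G) ∈ normalizer (S.P0 : Set G) ∧ (c : G) ∈ normalizer (S.Z0 : Set G) := by
  refine ⟨mem_normalizer_of_forall fun x hx => ?_, mem_normalizer_of_forall fun x hx => S.CommT_fix_Z0 hc hct hx⟩
  have hm : (c : G) * x * (c : G)⁻¹ ∈ S.YM := S.conj_mem_YM c ⟨x, S.P0_le_YM hx⟩
  refine (S.mem_P0_iff hm).2 ?_
  exact S.comm_U hct ((S.mem_P0_iff (S.P0_le_YM hx)).1 hx)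

/-- Trivial on the image of the core. -/
def TrivU (h : ↥S.H) : Prop := ∀ u : S.V, S.InU u → h • u = u

theorem TrivU_mem {h : ↥S.H} (hh : S.TrivU h) {x : G} (hx : x ∈ S.P0) : (h : G) * x * (h : G)⁻¹ * x⁻¹ ∈ S.ZM := by
  have h1 := hh _ ((S.mem_P0_iff (S.P0_le_YM hx)).1 hx)
  rw [S.smul_vmk, S.vmk_eq_iff] at h1
  exact h1

/-- A set of elements trivial on the image of the core and commuting with the block on
`Q Z₀ / Z₀` is trivial there. -/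
theorem step {c : ↥S.H} {e : ↥S.E} (hc : (c : G) ∈ S.CC) (hct : S.CommT c)
    (hmove : ∃ u : S.V, S.InU u ∧ (S.ofE e)⁻¹ • c⁻¹ • S.ofE e • c • u ≠ u)
    (P : ↥S.H → Prop) (hP : ∀ h, P h → (h : G) ∈ S.CC ∧ S.CommT h ∧ S.TrivU h)
    (hPc : ∀ h, P h → P (c * h * c⁻¹))
    (hPe : ∀ h, P h → ∀ e : ↥S.E, (h : G) * e * (h : G)⁻¹ * (e : G)⁻¹ ∈ secKer S.P0 S.Z0)
    {h : ↥S.H} (hh : P h) : (h : G) ∈ secKer S.P0 S.Z0 := by
  obtain ⟨hhC, hht, hhU⟩ := hP h hh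
  obtain ⟨hhP0, hhZ0⟩ := S.CommT_normalizer hhC hht
  obtain ⟨hcP0, hcZ0⟩ := S.CommT_normalizer hc hct
  obtain ⟨d, hd⟩ : ∃ d, d = (e : G)⁻¹ * ((c : G)⁻¹ * e * c) := ⟨_, rfl⟩
  have heP0 : (e : G) ∈ normalizer (S.P0 : Set G) := by
    have h1 : (e : G) ∈ normalizer (S.Q : Set G) ⊓ normalizer (S.ZM : Set G) :=
      mem_inf.2 ⟨S.NE_le_NQ (S.E_le_NE e.2), S.top_le_normalizer_ZM ⊤ (mem_top _)⟩
    exact sup_normalizer h1
  have heZ0 : (e : G) ∈ normalizer (S.Z0 : Set G) := S.NE_le_NZ0 (S.E_le_NE e.2)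
  have hdP0 : d ∈ normalizer (S.P0 : Set G) :=
    hd ▸ mul_mem (inv_mem heP0) (mul_mem (mul_mem (inv_mem hcP0) heP0) hcP0)
  have hdZ0 : d ∈ normalizer (S.Z0 : Set G) :=
    hd ▸ mul_mem (inv_mem heZ0) (mul_mem (mul_mem (inv_mem hcZ0) heZ0) hcZ0)
  have hdW : ∀ w ∈ S.WE, d * w * d⁻¹ = w := by
    intro w hw
    have hdC : d ∈ S.CC := by
      rw [hd, show (e : G)⁻¹ * ((c : G)⁻¹ * e * c) = ((e : G)⁻¹ * (c : G)⁻¹ * (e : G)⁻¹⁻¹) * c by group]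
      exact mul_mem ((mem_normalizer_iff.1 (S.H_le_NCC (S.H.inv_mem (S.E_le_H e.2))) _).1 (inv_mem hc)) hc
    rw [← mem_centralizer_iff.1 hdC w hw, mul_inv_cancel_right]
  -- `h` commutes with `d`
  obtain ⟨r, hr, hrd⟩ : ∃ r ∈ secKer S.P0 S.Z0, (h : G) * d = r * (d * h) := by
    refine ⟨(h : G) * d * (h : G)⁻¹ * d⁻¹, ?_, by group⟩
    have h1 := hPe h hh e⁻¹
    have h2 := conj_mem_secKer (inv_mem hcP0) (inv_mem hcZ0) (hPe _ (hPc h hh) e)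
    rw [Subgroup.coe_inv] at h1
    have h3 := mul_mem h1 (conj_mem_secKer (inv_mem heP0) (inv_mem heZ0) h2)
    rw [hd]
    simp only [Subgroup.coe_mul, Subgroup.coe_inv] at h3
    rwa [show (h : G) * (e : G)⁻¹ * (h : G)⁻¹ * (e : G)⁻¹⁻¹ * ((e : G)⁻¹ *
        ((c : G)⁻¹ * ((c : G) * h * (c : G)⁻¹ * e * ((c : G) * h * (c : G)⁻¹)⁻¹ * (e : G)⁻¹) * (c : G)⁻¹⁻¹) *
        (e : G)⁻¹⁻¹) =
      (h : G) * ((e : G)⁻¹ * ((c : G)⁻¹ * e * c)) * (h : G)⁻¹ * ((e : G)⁻¹ * ((c : G)⁻¹ * e * c))⁻¹ by group] at h3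
  let K : Subgroup G :=
    { carrier := {x | x ∈ S.P0 ∧ (h : G) * x * (h : G)⁻¹ * x⁻¹ ∈ S.Z0}
      one_mem' := ⟨one_mem _, by simp⟩
      mul_mem' := fun {a b} ha hb => ⟨mul_mem ha.1 hb.1, by
        rw [show (h : G) * (a * b) * (h : G)⁻¹ * (a * b)⁻¹ =
          ((h : G) * a * (h : G)⁻¹ * a⁻¹) * (a * ((h : G) * b * (h : G)⁻¹ * b⁻¹) * a⁻¹) by group]
        exact mul_mem ha.2 ((mem_normalizer_iff.1 (S.M_le_NZ0 (S.P0_le_M ha.1)) _).1 hb.2)⟩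
      inv_mem' := fun {a} ha => ⟨inv_mem ha.1, by
        rw [show (h : G) * a⁻¹ * (h : G)⁻¹ * a⁻¹⁻¹ = a⁻¹ * ((h : G) * a * (h : G)⁻¹ * a⁻¹)⁻¹ * a by group]
        exact (mem_normalizer_iff''.1 (S.M_le_NZ0 (S.P0_le_M ha.1)) _).1 (inv_mem ha.2)⟩ }
  have hZMK : S.ZM ≤ K := fun z hz => ⟨mem_sup_right hz, by
    obtain ⟨w, hw, z0, hz0, rfl⟩ := S.ZM_decomp hz
    have h1 : (h : G) * w * (h : G)⁻¹ = w := by rw [← mem_centralizer_iff.1 hhC w hw, mul_inv_cancel_right]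
    have h2 : (h : G) * z0 * (h : G)⁻¹ * z0⁻¹ ∈ S.Z0 := mul_mem ((mem_normalizer_iff.1 hhZ0 z0).1 hz0) (inv_mem hz0)
    rw [show (h : G) * (w * z0) * (h : G)⁻¹ * (w * z0)⁻¹ =
      ((h : G) * w * (h : G)⁻¹) * ((h : G) * z0 * (h : G)⁻¹ * z0⁻¹) * w⁻¹ by group, h1,
      S.M_conj_ZM (S.WE_le_M hw) h2.1]
    exact h2⟩
  have hEK : S.E ≤ normalizer ((K ⊓ S.Q : Subgroup G) : Set G) := fun e' he' => mem_normalizer_of_forall fun x hx => by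
    obtain ⟨r', hr', hre⟩ : ∃ r ∈ secKer S.P0 S.Z0, (h : G) * e' = r * (e' * h) :=
      ⟨_, hPe h hh ⟨e', he'⟩, by group⟩
    have hxQ : e' * x * e'⁻¹ ∈ S.Q := (mem_normalizer_iff.1 (S.NE_le_NQ (S.E_le_NE he')) x).1 hx.2
    refine mem_inf.2 ⟨⟨mem_sup_left hxQ, ?_⟩, hxQ⟩
    have hz := (mem_normalizer_iff.1 (S.NE_le_NZ0 (S.E_le_NE he')) _).1 hx.1.2
    rw [show (h : G) * (e' * x * e'⁻¹) * (h : G)⁻¹ = ((h : G) * e') * x * ((h : G) * e')⁻¹ by group, hre,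
      show r' * (e' * h) * x * (r' * (e' * h))⁻¹ * (e' * x * e'⁻¹)⁻¹ =
        (r' * (e' * ((h : G) * x * (h : G)⁻¹ * x⁻¹) * e'⁻¹) * r'⁻¹) *
          (r' * (e' * x * e'⁻¹) * r'⁻¹ * (e' * x * e'⁻¹)⁻¹) by group]
    exact mul_mem ((mem_normalizer_iff.1 hr'.2.1 _).1 hz) (hr'.2.2 _ (mem_sup_left hxQ))
  -- the commutators with `d`
  have hdK : ∀ x ∈ S.P0, d * x * d⁻¹ * x⁻¹ ∈ K := by
    intro x hx
    have hy : d * x * d⁻¹ ∈ S.P0 := (mem_normalizer_iff.1 hdP0 x).1 hx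
    refine ⟨mul_mem hy (inv_mem hx), ?_⟩
    obtain ⟨v, hv, hvx⟩ : ∃ v ∈ S.ZM, (h : G) * x * (h : G)⁻¹ = v * x := ⟨_, S.TrivU_mem hhU hx, by group⟩
    obtain ⟨a, ha, hay⟩ : ∃ a ∈ S.ZM, (h : G) * (d * x * d⁻¹) * (h : G)⁻¹ = a * (d * x * d⁻¹) :=
      ⟨_, S.TrivU_mem hhU hy, by group⟩
    rw [show (h : G) * (d * x * d⁻¹ * x⁻¹) * (h : G)⁻¹ * (d * x * d⁻¹ * x⁻¹)⁻¹ =
      ((h : G) * (d * x * d⁻¹) * (h : G)⁻¹) * ((h : G) * x * (h : G)⁻¹)⁻¹ * x * (d * x * d⁻¹)⁻¹ by group, hvx, hay,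
      show a * (d * x * d⁻¹) * (v * x)⁻¹ * x * (d * x * d⁻¹)⁻¹ =
        a * ((d * x * d⁻¹ * x⁻¹) * v⁻¹ * (d * x * d⁻¹ * x⁻¹)⁻¹) by group,
      S.M_conj_ZM (S.P0_le_M (mul_mem hy (inv_mem hx))) (inv_mem hv)]
    have hvP : d * v * d⁻¹ ∈ S.P0 := (mem_normalizer_iff.1 hdP0 v).1 (mem_sup_right hv)
    -- `a` is congruent to the conjugate of `v`
    have ha' : a = (r * (d * v * d⁻¹) * r⁻¹) * (r * (d * x * d⁻¹) * r⁻¹ * (d * x * d⁻¹)⁻¹) := by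
      have h1 : (h : G) * (d * x * d⁻¹) * (h : G)⁻¹ = r * (d * ((h : G) * x * (h : G)⁻¹) * d⁻¹) * r⁻¹ := by
        rw [show (h : G) * (d * x * d⁻¹) * (h : G)⁻¹ = ((h : G) * d) * x * ((h : G) * d)⁻¹ by group, hrd]
        group
      rw [hay, hvx] at h1
      rw [eq_mul_inv_of_mul_eq h1]
      group
    have h2 : d * v * d⁻¹ * v⁻¹ ∈ S.Z0 := by
      obtain ⟨w, hw, z0, hz0, rfl⟩ := S.ZM_decomp hv
      rw [show d * (w * z0) * d⁻¹ * (w * z0)⁻¹ = (d * w * d⁻¹) * (d * z0 * d⁻¹ * z0⁻¹) * w⁻¹ by group, hdW w hw]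
      have h3 : d * z0 * d⁻¹ * z0⁻¹ ∈ S.Z0 := mul_mem ((mem_normalizer_iff.1 hdZ0 z0).1 hz0) (inv_mem hz0)
      rwa [S.M_conj_ZM (S.WE_le_M hw) h3.1]
    have h4 := hr.2.2 _ hvP
    have h5 := hr.2.2 _ hy
    have hcv : d * v * d⁻¹ ∈ S.ZM := (mem_normalizer_iff.1 (S.top_le_normalizer_ZM ⊤ (mem_top d)) v).1 hv
    rw [ha', show r * (d * v * d⁻¹) * r⁻¹ * (r * (d * x * d⁻¹) * r⁻¹ * (d * x * d⁻¹)⁻¹) * v⁻¹ =
      (r * (d * v * d⁻¹) * r⁻¹ * (d * v * d⁻¹)⁻¹) *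
        ((d * v * d⁻¹) * (r * (d * x * d⁻¹) * r⁻¹ * (d * x * d⁻¹)⁻¹) * (d * v * d⁻¹)⁻¹) *
        (d * v * d⁻¹ * v⁻¹) by group, S.M_conj_ZM hcv.1 h5.1]
    exact mul_mem (mul_mem h4 h5) h2
  have hfull : S.Q ≤ K := by
    rcases S.irr_QW (K ⊓ S.Q) (fun w hw => mem_inf.2 ⟨hZMK (S.W_le_ZM hw), S.W_le_Q hw⟩) inf_le_right hEK with h1 | h1
    · exfalso
      obtain ⟨u, ⟨⟨x, hxY⟩, hxQ, rfl⟩, hu⟩ := hmove
      refine hu ?_
      have hk := hdK x (mem_sup_left hxQ)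
      obtain ⟨q, hq, z, hz, he⟩ := S.P0_decomp hk.1
      have hqW : q ∈ S.W := h1.le (mem_inf.2 ⟨by
        rw [show q = d * x * d⁻¹ * x⁻¹ * z⁻¹ by rw [he, mul_inv_cancel_right]]
        exact mul_mem hk (inv_mem (hZMK hz.1)), hq⟩)
      rw [← mul_smul, ← mul_smul, ← mul_smul, S.smul_vmk, S.vmk_eq_iff]
      show ((e : G)⁻¹ * (c : G)⁻¹ * e * c) * x * ((e : G)⁻¹ * (c : G)⁻¹ * e * c)⁻¹ * x⁻¹ ∈ S.ZM
      rw [show (e : G)⁻¹ * (c : G)⁻¹ * e * c = d by rw [hd]; group, he]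
      exact mul_mem (S.W_le_ZM hqW) hz.1
    · exact h1.ge.trans inf_le_left
  exact mem_secKer.2 ⟨hhP0, hhZ0, fun x hx => ((sup_le hfull hZMK : S.P0 ≤ K) hx).2⟩

theorem Q_le_Ker : S.Q ≤ secKer S.P0 S.Z0 := fun q hq =>
  mem_secKer.2 ⟨le_normalizer (mem_sup_left hq), S.M_le_NZ0 (S.Q_le_M hq), fun x hx => by
    obtain ⟨y, hy, z, hz, rfl⟩ := S.P0_decomp hx
    rw [show q * (y * z) * q⁻¹ * (y * z)⁻¹ = (q * y * q⁻¹) * (q * z * q⁻¹ * z⁻¹) * y⁻¹ by group,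
      S.Q_conj_ZM hq hz.1, mul_inv_cancel, mul_one]
    exact S.Z_le_Z0 (S.comm_Q hq hy)⟩

set_option synthInstance.maxHeartbeats 200000 in
set_option maxHeartbeats 1000000 in
theorem quot_eq_of_square {g h k : ↥S.E} (h3 : Fintype.card F = 3)
    (hgk : ⁅(g : G), (k : G)⁆ ∉ S.Q) (hh : (h : G) * h ∈ S.Q) (hh1 : (h : G) ∉ S.Q) : (g : G) * g * (h : G)⁻¹ ∈ S.Q := by
  haveI := CfsgLib.Core.normal_pCore 3 ↥S.E
  obtain ⟨f⟩ := S.hiso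
  obtain ⟨f'⟩ := nonempty_mulEquiv_commutator_sl2 (ZMod.ringEquivOfPrime F Nat.prime_three h3).symm
  obtain ⟨φ, hφ⟩ : ∃ φ : ↥S.E →* Matrix.SpecialLinearGroup (Fin 2) (ZMod 3),
      (∀ e, φ e ^ 4 = 1) ∧ ∀ e, φ e = 1 ↔ (e : G) ∈ S.Q := by
    refine ⟨(commutator _).subtype.comp ((f.trans f').toMonoidHom.comp (QuotientGroup.mk' _)), fun e => ?_, fun e => ?_⟩
    · exact mem_commutator_sl23.1 (SetLike.coe_mem _)
    · simp only [MonoidHom.comp_apply, MulEquiv.coe_toMonoidHom, Subgroup.coe_subtype, OneMemClass.coe_eq_one,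
        EmbeddingLike.map_eq_one_iff, QuotientGroup.mk'_apply, QuotientGroup.eq_one_iff]
      exact ⟨fun h => mem_map_of_mem S.E.subtype h, fun ⟨y, hy, he⟩ => (Subtype.ext he : y = e) ▸ hy⟩
  have h1 := quat_square (φ g) (hφ.1 g) (φ h) (hφ.1 h) (φ k) (hφ.1 k)
    (fun he => hgk (by
      have := (hφ.2 ⁅g, k⁆).1 (by rw [map_commutatorElement, commutatorElement_eq_one_iff_mul_comm, he])
      exact this))
    (by rw [← map_mul]; exact (hφ.2 (h * h)).2 hh) (fun he => hh1 ((hφ.2 h).1 he))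
  exact (hφ.2 (g * g * h⁻¹)).1 (by rw [map_mul, map_mul, map_inv, h1, mul_inv_cancel])

set_option synthInstance.maxHeartbeats 200000 in
set_option maxHeartbeats 2000000 in
/-- No element of `C_G(W_E)` commuting with the involution acts on the image of the core as a
non-central element of the block. -/
theorem noncentral_false {c : ↥S.H} {e e' : ↥S.E} (hc : (c : G) ∈ S.CC) (hct : S.CommT c)
    (hce : ∀ u : S.V, S.InU u → c • u = S.ofE e • u) (hne : ⁅(e : G), (e' : G)⁆ ∉ S.Q) : False := by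
  haveI := S.hchar
  have hofE : ∀ a b : ↥S.E, S.ofE (a * b) = S.ofE a * S.ofE b := fun a b => rfl
  have hofI : ∀ a : ↥S.E, S.ofE a⁻¹ = (S.ofE a)⁻¹ := fun a => rfl
  have hUe : ∀ (a : ↥S.E) {u}, S.InU u → S.InU (S.ofE a • u) := fun a u hu =>
    S.U_smul (S.NE_le_NQ (S.E_le_NE a.2)) hu
  -- some commutator moves the image of the core
  have hmove : ∃ u : S.V, S.InU u ∧ (S.ofE e')⁻¹ • c⁻¹ • S.ofE e' • c • u ≠ u := by
    by_contra hcon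
    push Not at hcon
    have hci : ∀ u : S.V, S.InU u → c⁻¹ • u = S.ofE e⁻¹ • u := by
      intro u hu
      rw [inv_smul_eq_iff, hce _ (hUe _ hu), ← mul_smul, ← hofE, mul_inv_cancel]
      exact (one_smul _ u).symm
    obtain ⟨k, hk⟩ : ∃ k : ↥S.E, k = e'⁻¹ * e⁻¹ * e' * e := ⟨_, rfl⟩
    have hkU : ∀ u : S.V, S.InU u → S.ofE k • u = u := fun u hu => by
      have h1 := hcon u hu
      rw [hce u hu, hci _ (hUe _ (hUe _ hu)), ← hofI, ← mul_smul, ← mul_smul, ← mul_smul, ← hofE, ← hofE, ← hofE] at h1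
      rwa [hk]
    have hkQ : (k : G) ∈ S.Q := by
      refine S.kernel_QW (mem_inf.2 ⟨k.2, mem_secKer.2 ⟨S.NE_le_NQ (S.E_le_NE k.2), S.NE_le_NW (S.E_le_NE k.2),
        fun x hx => S.Q_inf_ZM.le (mem_inf.2 ⟨?_, ?_⟩)⟩⟩)
      · exact mul_mem ((mem_normalizer_iff.1 (S.NE_le_NQ (S.E_le_NE k.2)) x).1 hx) (inv_mem hx)
      · exact S.vmk_eq_iff.1 ((S.smul_vmk (S.ofE k) ⟨x, S.Q_le_YM hx⟩).symm.trans (hkU _ ⟨_, hx, rfl⟩))
    refine hne ?_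
    rw [commutatorElement_def, show (e : G) * e' * (e : G)⁻¹ * (e' : G)⁻¹ =
      ((e : G) * e') * ((e' : G)⁻¹ * (e : G)⁻¹ * e' * e)⁻¹ * ((e : G) * e')⁻¹ by group]
    refine (mem_normalizer_iff.1 (S.NE_le_NQ (S.E_le_NE (mul_mem e.2 e'.2))) _).1 (inv_mem ?_)
    have := hkQ
    rw [hk] at this
    simpa using this
  -- elements trivial on the image of the core are trivial on `Q Z₀ / Z₀`
  have hK1 : ∀ h : ↥S.H, (h : G) ∈ S.K1 → (h : G) ∈ secKer S.P0 S.Z0 := fun h hh => by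
    refine S.step hc hct hmove (fun h => (h : G) ∈ S.K1) (fun h hh => ?_) (fun h hh => S.H_conj_K1 c.2 hh)
      (fun h hh e => S.Q_le_Ker (S.K1_comm_E hh e.2)) hh
    have htr := S.act_trivial_iff.2 (S.mem_K1.1 hh).2.2.1
    exact ⟨(S.mem_K1.1 hh).1, fun v => by rw [htr, htr], fun u _ => htr u⟩
  have hL0 : ∀ h : ↥S.H, (h : G) ∈ S.CC → S.CommT h → S.TrivU h → (h : G) ∈ secKer S.P0 S.Z0 := by
    intro h h1 h2 h3
    refine S.step hc hct hmove (fun h => (h : G) ∈ S.CC ∧ S.CommT h ∧ S.TrivU h) (fun h hh => hh)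
      (fun h hh => ⟨mul_mem (mul_mem hc hh.1) (inv_mem hc), S.CommT_mul (S.CommT_mul hct hh.2.1) (S.CommT_inv hct),
        fun u hu => ?_⟩) (fun h hh a => ?_) ⟨h1, h2, h3⟩
    · rw [mul_smul, mul_smul, hh.2.2 _ (S.comm_U (S.CommT_inv hct) hu), smul_inv_smul]
    · have hk : (h : G) * a * (h : G)⁻¹ * (a : G)⁻¹ ∈ S.K1 := S.comm_K1 hh.1 fun v => by
        obtain ⟨u, f, hu, hf, rfl⟩ := S.decomp v
        rw [smul_add, smul_add, smul_add, smul_add, S.E_fix a hf, hh.2.2 _ (hUe a hu), hh.2.2 u hu,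
          S.E_fix a (S.comm_fix hh.2.1 hf)]
      exact hK1 ⟨_, S.CC_le_H (S.mem_K1.1 hk).1⟩ hk
  -- the involution is imitated
  let R : Subgroup ↥S.E :=
    { carrier := {a | ∃ c : ↥S.H, (c : G) ∈ S.CC ∧ S.CommT c ∧ ∀ u : S.V, S.InU u → c • u = S.ofE a • u}
      one_mem' := ⟨1, one_mem _, fun v => by rw [one_smul, one_smul], fun u _ => rfl⟩
      mul_mem' := by
        rintro a b ⟨x, hx1, hx2, hx3⟩ ⟨y, hy1, hy2, hy3⟩
        refine ⟨x * y, mul_mem hx1 hy1, S.CommT_mul hx2 hy2, fun u hu => ?_⟩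
        rw [mul_smul, hy3 u hu, hx3 _ (hUe b hu), ← mul_smul, ← hofE]
      inv_mem' := by
        rintro a ⟨x, hx1, hx2, hx3⟩
        refine ⟨x⁻¹, inv_mem hx1, S.CommT_inv hx2, fun u hu => ?_⟩
        rw [inv_smul_eq_iff, hx3 _ (hUe _ hu), ← mul_smul, ← hofE, mul_inv_cancel]
        exact (one_smul _ u).symm }
  have hQR : ∀ a : ↥S.E, (a : G) ∈ S.Q → a ∈ R := fun a ha =>
    ⟨1, one_mem _, fun v => by rw [one_smul, one_smul], fun u _ => by rw [one_smul, S.Q_trivial (g := S.ofE a) ha]⟩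
  have heR : e ∈ R := ⟨c, hc, hct, hce⟩
  have htR : (⟨S.t, S.t_mem⟩ : ↥S.E) ∈ R := by
    rcases card_three_or (F := F) with h3 | h4
    · have hq := S.quot_eq_of_square (g := e) (h := ⟨S.t, S.t_mem⟩) (k := e') h3 hne S.t_sq
        (fun ht => S.not_secKer_of_secInv S.t_invQ (S.Q_le_secKer_QW ht))
      have h1 := R.mul_mem (R.inv_mem (hQR (e * e * ⟨S.t, S.t_mem⟩⁻¹) hq)) (R.mul_mem heR heR)
      rwa [show (e * e * ⟨S.t, S.t_mem⟩⁻¹)⁻¹ * (e * e) = (⟨S.t, S.t_mem⟩ : ↥S.E) by group] at h1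
    · haveI : R.Normal := ⟨fun a ha g => by
        obtain ⟨x, hx1, hx2, hx3⟩ := ha
        refine ⟨S.ofE g * x * (S.ofE g)⁻¹, (mem_normalizer_iff.1 (S.H_le_NCC (S.E_le_H g.2)) _).1 hx1,
          S.CommT_mul (S.CommT_mul (S.ofE_comm g) hx2) (S.CommT_inv (S.ofE_comm g)), fun u hu => ?_⟩
        rw [mul_smul, mul_smul, hx3 _ (by rw [← hofI]; exact hUe _ hu), ← mul_smul, ← mul_smul, hofE, hofE, hofI,
          mul_assoc]⟩
      haveI := CfsgLib.Core.normal_pCore 3 ↥S.E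
      obtain ⟨f⟩ := S.hiso
      obtain ⟨hqs, htop⟩ := sl2_quasisimple h4
      have hqsE : Cfsg.IsQuasisimple (↥S.E ⧸ pCore 3 ↥S.E) :=
        CfsgLib.Components.IsQuasisimple.congr ((f.trans (MulEquiv.subgroupCongr htop)).trans Subgroup.topEquiv).symm hqs
      haveI : (R.map (QuotientGroup.mk' (pCore 3 ↥S.E))).Normal :=
        Subgroup.Normal.map inferInstance _ (QuotientGroup.mk'_surjective _)
      rcases CfsgLib.Components.IsQuasisimple.normal_le_center_or_eq_top hqsE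
        (N := R.map (QuotientGroup.mk' (pCore 3 ↥S.E))) inferInstance with h | h
      · exfalso
        have h1 := mem_center_iff.1 (h ⟨e, heR, rfl⟩) (QuotientGroup.mk' _ e')
        have h2 : QuotientGroup.mk' (pCore 3 ↥S.E) ⁅e, e'⁆ = 1 := by
          rw [map_commutatorElement, commutatorElement_eq_one_iff_mul_comm, h1]
        rw [QuotientGroup.mk'_apply, QuotientGroup.eq_one_iff] at h2
        exact hne ⟨⁅e, e'⁆, h2, rfl⟩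
      · obtain ⟨a, ha, he⟩ := h.ge (mem_top (QuotientGroup.mk' _ ⟨S.t, S.t_mem⟩))
        rw [QuotientGroup.mk'_apply, QuotientGroup.mk'_apply, QuotientGroup.eq] at he
        have h1 := R.mul_mem ha (hQR (a⁻¹ * ⟨S.t, S.t_mem⟩) ⟨_, he, rfl⟩)
        rwa [mul_inv_cancel_left] at h1
  obtain ⟨z, hzC, hzt, hzU⟩ := htR
  have hzneg : ∀ u : S.V, S.InU u → z • u = -u := fun u hu => (hzU u hu).trans (S.U_neg hu)
  obtain ⟨hzP0, hzZ0⟩ := S.CommT_normalizer hzC hzt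
  -- the inverted part of the core modulo `Z₀`
  let Q1 : Subgroup G :=
    { carrier := {x | x ∈ S.Q ∧ (z : G) * x * (z : G)⁻¹ * x ∈ S.Z0}
      one_mem' := ⟨one_mem _, by simp⟩
      mul_mem' := fun {a b} ha hb => ⟨mul_mem ha.1 hb.1, by
        obtain ⟨α, hα, ea⟩ : ∃ α ∈ S.Z0, (z : G) * a * (z : G)⁻¹ = α * a⁻¹ := ⟨_, ha.2, by group⟩
        obtain ⟨β, hβ, eb⟩ : ∃ β ∈ S.Z0, (z : G) * b * (z : G)⁻¹ = β * b⁻¹ := ⟨_, hb.2, by group⟩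
        rw [show (z : G) * (a * b) * (z : G)⁻¹ * (a * b) = ((z : G) * a * (z : G)⁻¹) * ((z : G) * b * (z : G)⁻¹) * a * b by group,
          ea, eb, show α * a⁻¹ * (β * b⁻¹) * a * b = α * (a⁻¹ * β * a⁻¹⁻¹) * (a⁻¹ * b⁻¹ * a⁻¹⁻¹ * b⁻¹⁻¹) by group,
          S.Q_conj_ZM (inv_mem ha.1) hβ.1]
        exact mul_mem (mul_mem hα hβ) (S.Z_le_Z0 (S.comm_Q (inv_mem ha.1) (inv_mem hb.1)))⟩
      inv_mem' := fun {a} ha => ⟨inv_mem ha.1, by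
        obtain ⟨α, hα, ea⟩ : ∃ α ∈ S.Z0, (z : G) * a * (z : G)⁻¹ = α * a⁻¹ := ⟨_, ha.2, by group⟩
        rw [show (z : G) * a⁻¹ * (z : G)⁻¹ * a⁻¹ = ((z : G) * a * (z : G)⁻¹)⁻¹ * a⁻¹ by group, ea,
          show (α * a⁻¹)⁻¹ * a⁻¹ = a * α⁻¹ * a⁻¹ by group, S.Q_conj_ZM ha.1 (inv_mem hα.1)]
        exact inv_mem hα⟩ }
  obtain ⟨b, hbB, hbW, hqW, hqQ⟩ := S.exists_quad
  have hbE : b ∈ normalizer (S.E : Set G) := S.B_le_NE hbB
  have hbQ := S.NE_le_NQ hbE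
  have hbWn := S.NE_le_NW hbE
  have hbZ := S.NE_le_NZ hbE
  obtain ⟨β, hβ⟩ : ∃ β : ↥S.H, (β : G) = b := ⟨⟨b, S.NE_le_H hbE⟩, rfl⟩
  have hβC : S.CommT β := fun v => S.NE_comm (hβ.symm ▸ hbE) v
  have hdiff : ((z⁻¹ * (β⁻¹ * z * β) : ↥S.H) : G) ∈ secKer S.P0 S.Z0 := by
    refine hL0 _ ?_ (S.CommT_mul (S.CommT_inv hzt) (S.CommT_mul (S.CommT_mul (S.CommT_inv hβC) hzt) hβC)) fun u hu => ?_
    · simp only [Subgroup.coe_mul, Subgroup.coe_inv, hβ]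
      exact mul_mem (inv_mem hzC) (by
        have := (mem_normalizer_iff''.1 (S.H_le_NCC (S.NE_le_H hbE)) (z : G)).1 hzC
        simpa using this)
    · have hbu : S.InU (β • u) := S.U_smul (hβ.symm ▸ hbQ) hu
      rw [mul_smul, mul_smul, mul_smul, hzneg _ hbu, smul_neg, inv_smul_smul, inv_smul_eq_iff, hzneg u hu]
  simp only [Subgroup.coe_mul, Subgroup.coe_inv, hβ] at hdiff
  have hbQ1 : ∀ x ∈ Q1, b * x * b⁻¹ ∈ Q1 := by
    intro x hx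
    refine ⟨(mem_normalizer_iff.1 hbQ x).1 hx.1, ?_⟩
    obtain ⟨r, hr, hrx⟩ : ∃ r ∈ S.Z0, ((z : G)⁻¹ * (b⁻¹ * z * b)) * x * ((z : G)⁻¹ * (b⁻¹ * z * b))⁻¹ = r * x :=
      ⟨_, (mem_secKer.1 hdiff).2.2 x (mem_sup_left hx.1), by group⟩
    have h1 : (z : G) * r * (z : G)⁻¹ * ((z : G) * x * (z : G)⁻¹ * x) ∈ S.Z0 :=
      mul_mem ((mem_normalizer_iff.1 hzZ0 r).1 hr) hx.2
    have h2 := (mem_normalizer_iff.1 (S.NE_le_NZ0 hbE) _).1 h1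
    rwa [show (z : G) * r * (z : G)⁻¹ * ((z : G) * x * (z : G)⁻¹ * x) = (z : G) * (r * x) * (z : G)⁻¹ * x by group, ← hrx,
      show b * ((z : G) * ((z : G)⁻¹ * (b⁻¹ * z * b) * x * ((z : G)⁻¹ * (b⁻¹ * z * b))⁻¹) * (z : G)⁻¹ * x) * b⁻¹ =
        (z : G) * (b * x * b⁻¹) * (z : G)⁻¹ * (b * x * b⁻¹) by group] at h2
  -- the core is generated by the module and the inverted part
  have hgen : ∀ x ∈ S.Q, ∃ w ∈ S.WE, ∃ y ∈ Q1, x = y * w := by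
    intro x hx
    have h1 := hzneg _ ⟨⟨x, S.Q_le_YM hx⟩, hx, rfl⟩
    rw [S.smul_vmk, ← S.vmk_inv, S.vmk_eq_iff] at h1
    simp only [Subgroup.coe_inv, inv_inv] at h1
    obtain ⟨w, hw, ζ, hζ, he⟩ := S.ZM_decomp h1
    refine ⟨w⁻¹, inv_mem hw, x * w, ⟨mul_mem hx (S.W_le_Q (S.WE_le_W hw)), ?_⟩, (mul_inv_cancel_right x w).symm⟩
    have hzw : (z : G) * w * (z : G)⁻¹ = w := by rw [← mem_centralizer_iff.1 hzC w hw, mul_inv_cancel_right]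
    have hwx : w * x = x * w := (S.Q_commutes_W hx (S.WE_le_W hw)).symm
    rw [show (z : G) * (x * w) * (z : G)⁻¹ * (x * w) = ((z : G) * x * (z : G)⁻¹) * (((z : G) * w * (z : G)⁻¹) * x) * w by group,
      hzw, hwx, ← mul_assoc, he, S.ZM_comm (S.WE_le_ZM hw) hζ.1, mul_assoc ζ, mul_assoc ζ, S.pow_three_W (S.WE_le_W hw),
      mul_one]
    exact hζ
  have hQ1W : ∀ w ∈ S.W, w ∈ Q1 → w ∈ S.Z := by
    intro w hw hw1
    have hn : S.WE ≤ normalizer (S.Z : Set G) := S.WE_le_W.trans (bW_le_normalizer_bZ S.E)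
    obtain ⟨x, hx, ζ, hζ, rfl⟩ := (CfsgLib.Core.mem_sup_iff_mul hn).1 (S.W_eq_sup.le hw)
    have hzx : (z : G) * x * (z : G)⁻¹ = x := by rw [← mem_centralizer_iff.1 hzC x hx, mul_inv_cancel_right]
    have hzζ : (z : G) * ζ * (z : G)⁻¹ ∈ S.Z0 := (mem_normalizer_iff.1 hzZ0 ζ).1 (S.Z_le_Z0 hζ)
    have h2 := hw1.2
    rw [show (z : G) * (x * ζ) * (z : G)⁻¹ * (x * ζ) = ((z : G) * x * (z : G)⁻¹) * (((z : G) * ζ * (z : G)⁻¹) * x) * ζ by group,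
      hzx, S.ZM_comm hzζ.1 (S.WE_le_ZM hx), ← mul_assoc, mul_assoc (x * x)] at h2
    have h4 : x * x ∈ S.WE ⊓ S.Z0 := by
      refine mem_inf.2 ⟨mul_mem hx hx, ?_⟩
      have h5 := mul_mem h2 (inv_mem (mul_mem hzζ (S.Z_le_Z0 hζ)))
      rwa [mul_inv_cancel_right] at h5
    rw [S.WE_inf_Z0, mem_bot] at h4
    have hx1 : x = 1 := by
      have h3 := S.pow_three_W (S.WE_le_W hx)
      rwa [h4, one_mul] at h3
    rw [hx1, one_mul]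
    exact hζ
  -- the element is quadratic on the whole core modulo `Z`
  have hqY : ∀ u ∈ Q1, b * (b * u * b⁻¹ * u⁻¹) * b⁻¹ * (b * u * b⁻¹ * u⁻¹)⁻¹ ∈ S.Z := fun u hu =>
    hQ1W _ (hqQ u hu.1) (mul_mem (hbQ1 _ (mul_mem (hbQ1 u hu) (inv_mem hu)))
      (inv_mem (mul_mem (hbQ1 u hu) (inv_mem hu))))
  let L1 : Subgroup G :=
    { carrier := {x | x ∈ S.Q ∧ b * x * b⁻¹ * x⁻¹ ∈ S.Z}
      one_mem' := ⟨one_mem _, by simp⟩
      mul_mem' := fun {x y} hx hy => ⟨mul_mem hx.1 hy.1, by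
        rw [show b * (x * y) * b⁻¹ * (x * y)⁻¹ = (b * x * b⁻¹ * x⁻¹) * (x * (b * y * b⁻¹ * y⁻¹) * x⁻¹) by group]
        exact mul_mem hx.2 ((mem_normalizer_iff.1 (core_le_normalizer_bZ S.E hx.1) _).1 hy.2)⟩
      inv_mem' := fun {x} hx => ⟨inv_mem hx.1, by
        rw [show b * x⁻¹ * b⁻¹ * x⁻¹⁻¹ = x⁻¹ * (b * x * b⁻¹ * x⁻¹)⁻¹ * x by group]
        exact (mem_normalizer_iff''.1 (core_le_normalizer_bZ S.E hx.1) _).1 (inv_mem hx.2)⟩ }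
  have hZL : S.Z ≤ L1 := fun z hz =>
    ⟨S.W_le_Q hz.1, mul_mem ((mem_normalizer_iff.1 hbZ z).1 hz) (inv_mem hz)⟩
  have hQL : S.Q ≤ normalizer (L1 : Set G) := fun q hq => mem_normalizer_of_forall fun x hx => by
    rw [show q * x * q⁻¹ = (q * x * q⁻¹ * x⁻¹) * x by group]
    exact mul_mem (hZL (S.comm_Q hq hx.1)) hx
  have hbL : b ∈ normalizer (L1 : Set G) := mem_normalizer_of_forall fun x hx => by
    refine ⟨(mem_normalizer_iff.1 hbQ x).1 hx.1, ?_⟩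
    have h1 := (mem_normalizer_iff.1 hbZ _).1 hx.2
    rwa [show b * (b * x * b⁻¹) * b⁻¹ * (b * x * b⁻¹)⁻¹ = b * (b * x * b⁻¹ * x⁻¹) * b⁻¹ by group]
  let L2 : Subgroup G :=
    { carrier := {x | x ∈ S.Q ∧ b * x * b⁻¹ * x⁻¹ ∈ L1}
      one_mem' := ⟨one_mem _, by simp⟩
      mul_mem' := fun {x y} hx hy => ⟨mul_mem hx.1 hy.1, by
        rw [show b * (x * y) * b⁻¹ * (x * y)⁻¹ = (b * x * b⁻¹ * x⁻¹) * (x * (b * y * b⁻¹ * y⁻¹) * x⁻¹) by group]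
        exact mul_mem hx.2 ((mem_normalizer_iff.1 (hQL hx.1) _).1 hy.2)⟩
      inv_mem' := fun {x} hx => ⟨inv_mem hx.1, by
        rw [show b * x⁻¹ * b⁻¹ * x⁻¹⁻¹ = x⁻¹ * (b * x * b⁻¹ * x⁻¹)⁻¹ * x by group]
        exact (mem_normalizer_iff''.1 (hQL hx.1) _).1 (inv_mem hx.2)⟩ }
  have hQL2 : S.Q ≤ L2 := by
    intro x hx
    obtain ⟨w, hw, y, hy, rfl⟩ := hgen x hx
    have hwW := S.WE_le_W hw
    refine L2.mul_mem ⟨hy.1, ?_, hqY y hy⟩ ⟨S.W_le_Q hwW, ?_, hqW w hwW⟩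
    · exact mul_mem ((mem_normalizer_iff.1 hbQ y).1 hy.1) (inv_mem hy.1)
    · exact mul_mem ((mem_normalizer_iff.1 hbQ w).1 (S.W_le_Q hwW)) (inv_mem (S.W_le_Q hwW))
  have hb1 : b ∈ secKer S.Q L1 := mem_secKer.2 ⟨hbQ, hbL, fun u hu => (hQL2 hu).2⟩
  have hb2 : b ∈ secKer L1 S.Z := mem_secKer.2 ⟨hbL, hbZ, fun u hu => hu.2⟩
  refine S.hexc b hbB hbW ((commutator_mono ?_ le_rfl).trans (?_ : ⁅L1, zpowers b⁆ ≤ S.Z))
  · refine commutator_le.2 fun x hx g hg => ?_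
    have h1 := inv_mem ((mem_secKer.1 ((zpowers_le.2 hb1 : zpowers b ≤ _) hg)).2.2 x hx)
    rwa [show (g * x * g⁻¹ * x⁻¹)⁻¹ = ⁅x, g⁆ by rw [commutatorElement_def]; group] at h1
  · refine commutator_le.2 fun x hx g hg => ?_
    have h1 := inv_mem ((mem_secKer.1 ((zpowers_le.2 hb2 : zpowers b ≤ _) hg)).2.2 x hx)
    rwa [show (g * x * g⁻¹ * x⁻¹)⁻¹ = ⁅x, g⁆ by rw [commutatorElement_def]; group] at h1

end Setting

end CfsgLib.LocalEven.BlockCent
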