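import Cfsg.Agent.Lib.LocalEven.BlockCent.Three
import Cfsg.Agent.Lib.LocalEven.BlockCent.Big
import Cfsg.Agent.Lib.LocalEven.BlockCent.Lift

/-!
# The centraliser of the commutator module normalises the block

For a group of characteristic `p` and a `B(T)`-block `E` with `W_E = [Ω₁(Z(O_p(E))), E]`, the
centraliser of `W_E` normalises `E`.
-/

set_option autoImplicit false
set_option linter.all false

namespace CfsgLib.LocalEven.BlockCent

open Subgroup Cfsg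
open CfsgLib.LocalEvenB
open CfsgLib.LocalEvenB.SubBlocks
open scoped commutatorElement

variable {G : Type*} [Group G] [Finite G]

namespace Setting

variable {F : Type} [Field F] [Fintype F] (S : Setting G F)

set_option maxHeartbeats 1000000 in
/-- The abstract data of a block. -/
theorem exists_data : ∃ D : Data ↥S.H S.V S.A F, D.C = S.CC.subgroupOf S.H ∧ D.E = S.E.subgroupOf S.H ∧ D.t = S.τ := by
  obtain ⟨hn, hle, ρ, ψ, hρ, hψ, hk, hact⟩ := id S.hQact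
  choose s hs using fun a => hψ (Multiplicative.ofAdd a)
  obtain ⟨m, hm⟩ : ∃ m : ↥S.Q → S.V, ∀ x, m x = S.vmk ⟨(x : G), S.Q_le_YM x.2⟩ := ⟨_, fun x => rfl⟩
  have hmm : ∀ x y, m (x * y) = m x + m y := fun x y => by rw [hm, hm, hm, ← S.vmk_mul]; rfl
  have hwell : ∀ x y : ↥S.Q, ψ x = ψ y → m x = m y := fun x y h => by
    rw [hm, hm, S.vmk_eq_iff]
    refine S.W_le_ZM ((hk (x * y⁻¹)).1 ?_)
    rw [map_mul, map_inv, h, mul_inv_cancel]
  obtain ⟨φ, hφ⟩ : ∃ φ : (Fin 2 → F) →+ S.V, ∀ x : ↥S.Q, φ (Multiplicative.toAdd (ψ x)) = m x :=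
    ⟨AddMonoidHom.mk' (fun a => m (s a)) fun a b => by
      rw [← hmm]
      exact hwell _ _ (by rw [map_mul, hs, hs, hs]; rfl),
     fun x => hwell _ _ (by rw [hs]; rfl)⟩
  have hφs : ∀ a, ∃ x : ↥S.Q, Multiplicative.toAdd (ψ x) = a ∧ φ a = m x := fun a => by
    refine ⟨s a, by rw [hs]; rfl, ?_⟩
    rw [← hφ (s a), hs]
    rfl
  have hφU : ∀ a, S.InU (φ a) := fun a => by
    obtain ⟨x, -, hx⟩ := hφs a
    exact ⟨⟨x, S.Q_le_YM x.2⟩, x.2, by rw [hx, hm]⟩
  have hUφ : ∀ v, S.InU v → ∃ a, φ a = v := by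
    rintro _ ⟨⟨x, hxY⟩, hx, rfl⟩
    exact ⟨_, (hφ ⟨x, hx⟩).trans (hm _)⟩
  let ι : ↥(S.E.subgroupOf S.H) →* ↥S.E := (subgroupOfEquivOfLe S.E_le_H).toMonoidHom
  have hι : ∀ e : ↥(S.E.subgroupOf S.H), (e : ↥S.H) = S.ofE (ι e) := fun e => rfl
  have hinj : Function.Injective φ := by
    refine (injective_iff_map_eq_zero φ).2 fun a ha => ?_
    obtain ⟨x, rfl, hx⟩ := hφs a
    rw [hx, hm, S.vmk_eq_zero] at ha
    rw [(hk x).2 (S.Q_inf_ZM.le (mem_inf.2 ⟨x.2, ha⟩))]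
    rfl
  refine ⟨{
    C := S.CC.subgroupOf S.H
    E := S.E.subgroupOf S.H
    t := S.τ
    hCn := (normal_subgroupOf_iff_le_normalizer S.CC_le_H).2 S.H_le_NCC
    htE := S.t_mem
    h3 := S.V_three
    hA2 := S.A_two
    φ := φ
    hφ := hinj
    ρ := ρ.comp ι
    hρ := ?_
    hact := ?_
    ht := fun a => S.U_neg (hφU a)
    hsub := fun e v => (hUφ _ (S.E_sub_mem (ι e) v)).imp fun a ha => by rw [ha, hι e]
    hcomm := fun e v => by rw [hι e, S.ofE_comm]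
    hgen := ?_
    β := S.beta
    halt := S.beta_self
    σ := S.sigma
    hσ := S.sigma_injective
    hβ := fun x _ v w => S.beta_smul x v w
    hβE := ?_
    hbig := ?_
    hT := ?_ }, rfl, rfl, rfl⟩
  · rw [MonoidHom.range_comp, MonoidHom.range_eq_top.2 (MulEquiv.surjective _), ← MonoidHom.range_eq_map, hρ]
  · intro e a
    obtain ⟨x, rfl, hx⟩ := hφs a
    obtain ⟨w, hw, hwe⟩ := hact (ι e) x
    rw [hx, hm, hι e, S.smul_vmk, MonoidHom.comp_apply, ← hwe, hφ, hm]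
    congr 1
    exact Subtype.ext hw.symm
  · rw [eq_top_iff]
    intro v _
    obtain ⟨y, rfl⟩ := S.vmk_surj v
    obtain ⟨Cl, hCl⟩ : ∃ Cl, Cl = AddSubgroup.closure {v : S.V | ∃ c ∈ S.CC.subgroupOf S.H, ∃ a, c • φ a = v} := ⟨_, rfl⟩
    rw [← hCl]
    let X : Subgroup G :=
      { carrier := {y | ∃ h : y ∈ S.YM, S.vmk ⟨y, h⟩ ∈ Cl}
        one_mem' := ⟨one_mem _, by rw [S.vmk_eq_zero.2 (one_mem _)]; exact zero_mem _⟩
        mul_mem' := by
          rintro a b ⟨ha, ea⟩ ⟨hb, eb⟩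
          exact ⟨mul_mem ha hb, (S.vmk_mul ⟨a, ha⟩ ⟨b, hb⟩).symm ▸ add_mem ea eb⟩
        inv_mem' := by
          rintro a ⟨ha, ea⟩
          exact ⟨inv_mem ha, (S.vmk_inv ⟨a, ha⟩).symm ▸ neg_mem ea⟩ }
    have hle : S.YM ≤ X := sup_le (S.Y_induction fun c hc x hx =>
      ⟨mem_sup_left (S.conj_mem_Y hc hx), hCl ▸ AddSubgroup.subset_closure
        ⟨⟨c, S.CC_le_H hc⟩, hc, Multiplicative.toAdd (ψ ⟨x, hx⟩), by rw [hφ, hm, S.smul_vmk]⟩⟩)
      fun z hz => ⟨S.ZM_le_YM hz, by rw [S.vmk_eq_zero.2 hz]; exact zero_mem _⟩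
    exact (hle y.2).2
  · intro e v w
    rw [S.beta_smul]
    obtain ⟨x, hx⟩ := S.amk_surj (S.beta v w)
    rw [← hx, S.sigma_amk, S.amk_eq_iff]
    exact (mem_secKer.1 (S.E_le_secKer_ZM (ι e).2)).2.2 x x.2
  · -- the values cover the derived subgroup of the core
    have hZ : ∀ z : ↥S.Z, S.amk ⟨(z : G), S.W_le_ZM (S.Z_le_W z.2)⟩ ∈
        AddSubgroup.closure {x : S.A | ∃ a b, S.beta (φ a) (φ b) = x} := by
      let X : Subgroup G :=
        { carrier := {z | ∃ h : z ∈ S.ZM, S.amk ⟨z, h⟩ ∈ AddSubgroup.closure {x : S.A | ∃ a b, S.beta (φ a) (φ b) = x}}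
          one_mem' := ⟨one_mem _, by rw [S.amk_eq_zero.2 (one_mem _)]; exact zero_mem _⟩
          mul_mem' := by
            rintro a b ⟨ha, ea⟩ ⟨hb, eb⟩
            exact ⟨mul_mem ha hb, (S.amk_mul ⟨a, ha⟩ ⟨b, hb⟩).symm ▸ add_mem ea eb⟩
          inv_mem' := by
            rintro a ⟨ha, ea⟩
            exact ⟨inv_mem ha, (S.amk_inv ⟨a, ha⟩).symm ▸ neg_mem ea⟩ }
      have hle : S.Z ≤ X := S.hcom.ge.trans (commutator_le.2 fun x hx y hy =>
        ⟨S.W_le_ZM (S.Z_le_W (S.hcom.le (commutator_mem_commutator hx hy))), AddSubgroup.subset_closure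
          ⟨Multiplicative.toAdd (ψ ⟨x, hx⟩), Multiplicative.toAdd (ψ ⟨y, hy⟩), by
            rw [hφ, hφ, hm, hm, S.beta_vmk]; rfl⟩⟩)
      exact fun z => (hle z.2).2
    rw [Nat.card_eq_fintype_card, S.hcard, ← S.hZcard]
    refine Nat.card_le_card_of_injective (fun z : ↥S.Z => (⟨_, hZ z⟩ :
      ↥(AddSubgroup.closure {x : S.A | ∃ a b, S.beta (φ a) (φ b) = x}))) fun a b h => ?_
    have h1 : (a : G) * (b : G)⁻¹ ∈ S.WE := S.amk_eq_iff.1 (congrArg Subtype.val h)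
    have h2 : (a : G) * (b : G)⁻¹ ∈ S.WE ⊓ S.Z0 := mem_inf.2 ⟨h1, S.Z_le_Z0 (mul_mem a.2 (inv_mem b.2))⟩
    rw [S.WE_inf_Z0, mem_bot, mul_inv_eq_one] at h2
    exact Subtype.ext h2
  · intro c hc hct e hce e'
    by_contra hne
    refine S.noncentral_false (c := c) (e := ι e) (e' := ι e') hc hct (fun u hu => ?_) fun hq => hne ?_
    · obtain ⟨a, rfl⟩ := hUφ u hu
      rw [hce a, hι e]
    · have hker : ρ ⁅ι e, ι e'⁆ = 1 := by
        apply Subtype.ext
        refine Matrix.ext_iff_mulVec.2 fun v => ?_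
        obtain ⟨x, hx⟩ := hψ (Multiplicative.ofAdd v)
        obtain ⟨w, hw, hwe⟩ := hact ⁅ι e, ι e'⁆ x
        have h1 : ψ w = ψ x := by
          rw [← mul_inv_eq_one, ← map_inv, ← map_mul]
          refine (hk _).2 ?_
          rw [Subgroup.coe_mul, Subgroup.coe_inv, hw]
          exact (mem_secKer.1 (S.Q_le_secKer_QW hq)).2.2 x x.2
        rw [h1, hx, toAdd_ofAdd] at hwe
        rw [← hwe, Matrix.SpecialLinearGroup.coe_one, Matrix.one_mulVec]
      rw [map_commutatorElement, commutatorElement_eq_one_iff_mul_comm] at hker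
      exact hker

/-- The fixed points of the involution. -/
def Fh : Subgroup G where
  carrier := {y | ∃ h : y ∈ S.YM, S.τ • S.vmk ⟨y, h⟩ = S.vmk ⟨y, h⟩}
  one_mem' := ⟨one_mem _, by rw [S.vmk_eq_zero.2 (one_mem _), smul_zero]⟩
  mul_mem' := by
    rintro a b ⟨ha, ea⟩ ⟨hb, eb⟩
    exact ⟨mul_mem ha hb, by rw [show S.vmk ⟨a * b, mul_mem ha hb⟩ = S.vmk ⟨a, ha⟩ + S.vmk ⟨b, hb⟩ from rfl, smul_add, ea, eb]⟩
  inv_mem' := by
    rintro a ⟨ha, ea⟩
    exact ⟨inv_mem ha, by rw [show S.vmk ⟨a⁻¹, inv_mem ha⟩ = -S.vmk ⟨a, ha⟩ from rfl, smul_neg, ea]⟩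

theorem Fh_le_YM : S.Fh ≤ S.YM := fun _ hy => hy.1

theorem ZM_le_Fh : S.ZM ≤ S.Fh := fun z hz => ⟨S.ZM_le_YM hz, by rw [S.vmk_eq_zero.2 hz, smul_zero]⟩

theorem normalizer_Fh {g : ↥S.H} (h : ∀ f : S.V, S.τ • f = f → S.τ • g • f = g • f) :
    (g : G) ∈ normalizer (S.Fh : Set G) :=
  mem_normalizer_of_forall fun y ⟨hy, hf⟩ => ⟨S.conj_mem_YM g ⟨y, hy⟩, by rw [← S.smul_vmk g ⟨y, hy⟩, h _ hf]⟩

theorem final
    (hconcl : ∀ D : Data ↥S.H S.V S.A F, ∀ c ∈ D.C, (∀ f, D.p f = 0 → D.p (c • f) = 0) ∧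
      ∀ (e : ↥D.E) (v : S.V), D.p (c • (e : ↥S.H) • v) = D.p ((e : ↥S.H) • c • v)) :
    S.CC ≤ normalizer (S.E : Set G) := by
  obtain ⟨D, hC, hE, ht⟩ := S.exists_data
  have hfix : ∀ v : S.V, S.τ • v = v ↔ D.p v = 0 := fun v => ht ▸ D.t_fix_iff
  have hi : ∀ c : ↥S.H, (c : G) ∈ S.CC → ∀ f : S.V, S.τ • f = f → S.τ • c • f = c • f := fun c hc f hf =>
    (hfix _).2 ((hconcl D c (hC ▸ hc)).1 f ((hfix f).1 hf))
  have hii : ∀ c : ↥S.H, (c : G) ∈ S.CC → ∀ (e : ↥S.E) (v : S.V),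
      S.τ • (c • S.ofE e • v - S.ofE e • c • v) = c • S.ofE e • v - S.ofE e • c • v := fun c hc e v => by
    refine (hfix _).2 ?_
    rw [map_sub, sub_eq_zero]
    exact (hconcl D c (hC ▸ hc)).2 ⟨S.ofE e, hE ▸ e.2⟩ v
  obtain ⟨K, hK⟩ : ∃ K, K = S.CC ⊓ secKer S.M S.YM ⊓ secKer S.YM S.Fh ⊓ secKer S.Fh S.ZM ⊓ secKer S.ZM S.WE := ⟨_, rfl⟩
  have hmem : ∀ k, k ∈ K ↔ k ∈ S.CC ∧ k ∈ secKer S.M S.YM ∧ k ∈ secKer S.YM S.Fh ∧ k ∈ secKer S.Fh S.ZM ∧
      k ∈ secKer S.ZM S.WE := fun k => by simp only [hK, mem_inf, and_assoc]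
  have hKp : IsPGroup 3 K := fun ⟨x, hx⟩ => by
    obtain ⟨a, ha⟩ := CfsgLib.Transfer.exists_pow_prime_pow_coprime (p := 3) x
    obtain ⟨h1, h2, h3, h4, h5⟩ := (hmem _).1 (pow_mem hx (3 ^ a))
    refine ⟨a, Subtype.ext ?_⟩
    rw [SubgroupClass.coe_pow, OneMemClass.coe_one]
    have h6 := coprime_stab (C := S.Fh) S.M_pGroup S.YM_le_M
      (fun y hy => S.normalizer_Fh (g := ⟨y, S.NE_le_H (S.M_le_NE (S.YM_le_M hy))⟩) fun f hf => by
        rw [S.act_trivial_iff.2 (S.M_secKer (S.YM_le_M hy)) f, hf]) ha h2 h3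
    exact S.eq_one_of_coprime_stab ha h1 h5
      (coprime_stab S.M_pGroup (S.Fh_le_YM.trans S.YM_le_M) (S.top_le_normalizer_ZM _) ha h6 h4)
  have hEF : S.E ≤ normalizer (S.Fh : Set G) := fun e he =>
    S.normalizer_Fh (g := S.ofE ⟨e, he⟩) fun f hf => by rw [S.E_fix ⟨e, he⟩ hf, hf]
  have hconjK : ∀ g ∈ S.H, g ∈ normalizer (S.Fh : Set G) → g ∈ normalizer (K : Set G) := by
    intro g hg hgF
    refine mem_normalizer_of_forall fun k hk => ?_
    obtain ⟨h1, h2, h3, h4, h5⟩ := (hmem k).1 hk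
    exact (hmem _).2 ⟨(mem_normalizer_iff.1 (S.H_le_NCC hg) k).1 h1,
      conj_mem_secKer (S.le_normalizer_M ⊤ (mem_top g)) (S.H_le_NYM hg) h2,
      conj_mem_secKer (S.H_le_NYM hg) hgF h3,
      conj_mem_secKer hgF (S.H_le_NZM hg) h4,
      conj_mem_secKer (S.H_le_NZM hg) (S.H_le_NWE hg) h5⟩
  have hKN : K ≤ normalizer (S.E : Set G) := block_normalized S.T S.hE hKp
    (fun b hb => hconjK b (S.NE_le_H (S.B_le_NE hb)) (S.normalizer_Fh (g := ⟨b, S.NE_le_H (S.B_le_NE hb)⟩)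
      fun f hf => by rw [← S.NE_comm (g := ⟨b, S.NE_le_H (S.B_le_NE hb)⟩) (S.B_le_NE hb), hf]))
    (fun e he => hconjK e (S.E_le_H he) (hEF he))
  intro c hc
  have hcH := S.CC_le_H hc
  have hcF : c ∈ normalizer (S.Fh : Set G) := S.normalizer_Fh (g := ⟨c, hcH⟩) (hi ⟨c, hcH⟩ hc)
  have hesec : ∀ e ∈ S.E, e ∈ secKer S.Fh S.ZM := fun e he => mem_secKer.2 ⟨hEF he, S.top_le_normalizer_ZM _ he,
    fun y hy => by
      obtain ⟨hyY, hf⟩ := hy
      exact S.vmk_eq_iff.1 ((S.smul_vmk (S.ofE ⟨e, he⟩) ⟨y, hyY⟩).symm.trans (S.E_fix ⟨e, he⟩ hf))⟩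
  refine mem_normalizer_of_forall fun x hx => ?_
  have hle : S.E ≤ S.E.comap (MulAut.conj c).toMonoidHom := block_le_of_coprime S.hE fun e he hec => by
    show c * e * c⁻¹ ∈ S.E
    have hk : c * e * c⁻¹ * e⁻¹ ∈ K := by
      obtain ⟨h1, h2⟩ := S.comm_E_sections hc he
      refine (hmem _).2 ⟨S.comm_E_CC hc he, h1, ?_,
        mul_mem (conj_mem_secKer hcF (S.top_le_normalizer_ZM _ (mem_top c)) (hesec e he)) (inv_mem (hesec e he)), h2⟩
      obtain ⟨g, hg⟩ : ∃ g : ↥S.H, g = ⟨c, hcH⟩ * S.ofE ⟨e, he⟩ * (⟨c, hcH⟩ : ↥S.H)⁻¹ * (S.ofE ⟨e, he⟩)⁻¹ := ⟨_, rfl⟩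
      have hgG : (g : G) = c * e * c⁻¹ * e⁻¹ := by rw [hg]; rfl
      rw [← hgG]
      refine mem_secKer.2 ⟨S.H_le_NYM g.2, ?_, fun y hy => ?_⟩
      · rw [hgG]
        exact mul_mem (mul_mem (mul_mem hcF (hEF he)) (inv_mem hcF)) (inv_mem (hEF he))
      · refine ⟨mul_mem (S.conj_mem_YM g ⟨y, hy⟩) (inv_mem hy), ?_⟩
        have h3 := hii ⟨c, hcH⟩ hc ⟨e, he⟩ ((⟨c, hcH⟩ : ↥S.H)⁻¹ • (S.ofE ⟨e, he⟩)⁻¹ • S.vmk ⟨y, hy⟩)
        rw [smul_inv_smul, smul_inv_smul, ← mul_smul, ← mul_smul, ← mul_smul, ← hg, S.smul_vmk, sub_eq_add_neg,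
          ← S.vmk_inv, ← S.vmk_mul] at h3
        exact h3
    refine mem_of_coprime_sup hKp hKN ?_ ?_
    · rw [show c * e * c⁻¹ = (c * e * c⁻¹ * e⁻¹) * e by rw [inv_mul_cancel_right]]
      exact mul_mem (mem_sup_right hk) (mem_sup_left he)
    · rwa [show orderOf (c * e * c⁻¹) = orderOf e from
        orderOf_injective (MulAut.conj c).toMonoidHom (MulEquiv.injective _) e]
  exact hle hx

end Setting

/-- The easy case: the block centralises `O_p(G) / W_E`. -/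
theorem of_secKer {p : ℕ} [Fact p.Prime] (hG : centralizer (pCore p G : Set G) ≤ pCore p G) (T : Sylow p G)
    {E : Subgroup G} (hE : IsBaumannBlock p (T : Subgroup G) E) (h : E ≤ secKer (pCore p G) (bM p E)) :
    centralizer (bM p E : Set G) ≤ normalizer (E : Set G) := by
  haveI hMn : (pCore p G).Normal := CfsgLib.Core.normal_pCore p G
  have hMp := CfsgLib.Core.isPGroup_pCore p G
  have hNM : ∀ g : G, g ∈ normalizer (pCore p G : Set G) := fun g => by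
    rw [normalizer_eq_top_iff.2 hMn]; exact mem_top g
  have hBE : baumannSubgroupOf p (T : Subgroup G) ≤ normalizer (E : Set G) := by
    have := Subgroup.normalizer_commutator_ge_right E (baumannSubgroupOf p (T : Subgroup G))
    rwa [hE.2.1] at this
  have hWM : bM p E ≤ pCore p G := fun x hx =>
    (CfsgLib.PGroups.omegaOne_le _ ((block_location hG T E hE).2.1 hx)).1
  obtain ⟨K, hK⟩ : ∃ K, K = secKer (pCore p G) (bM p E) ⊓ centralizer (bM p E : Set G) := ⟨_, rfl⟩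
  have hKp : IsPGroup p K := fun ⟨x, hx⟩ => by
    obtain ⟨a, ha⟩ := CfsgLib.Transfer.exists_pow_prime_pow_coprime (p := p) x
    have hy : x ^ p ^ a ∈ secKer (pCore p G) (bM p E) ⊓ centralizer (bM p E : Set G) := hK ▸ pow_mem hx _
    have h2 := coprime_stab (C := ⊥) hMp hWM
      (fun z _ => mem_normalizer_iff.2 fun h => by simp [mem_bot, conj_eq_one_iff]) ha hy.1 (mem_secKer_bot hy.2)
    have hyM : x ^ p ^ a ∈ pCore p G := hG (secKer_bot_le_centralizer _ h2)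
    obtain ⟨k, hk⟩ := IsPGroup.iff_orderOf.1 hMp ⟨_, hyM⟩
    rw [Subgroup.orderOf_mk] at hk
    refine ⟨a, Subtype.ext ?_⟩
    rw [SubgroupClass.coe_pow, OneMemClass.coe_one, ← orderOf_eq_one_iff]
    exact Nat.eq_one_of_dvd_coprimes (ha.pow_right k) dvd_rfl hk.dvd
  have hconj : ∀ g ∈ normalizer (E : Set G), g ∈ normalizer (K : Set G) := fun g hg =>
    mem_normalizer_of_forall fun k hk => by
      rw [hK] at hk ⊢
      exact mem_inf.2 ⟨conj_mem_secKer (hNM g) (normalizer_le_bM E hg) hk.1,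
        (mem_normalizer_iff.1 (CfsgLib.Signalizer.normalizer_le_normalizer_centralizer_set _ (normalizer_le_bM E hg)) k).1 hk.2⟩
  have hKN : K ≤ normalizer (E : Set G) :=
    block_normalized T hE hKp (fun b hb => hconj b (hBE hb)) (fun e he => hconj e (le_normalizer he))
  intro c hc
  refine mem_normalizer_of_forall fun x hx => ?_
  have hle : E ≤ E.comap (MulAut.conj c).toMonoidHom := block_le_of_coprime hE fun e he hec => by
    show c * e * c⁻¹ ∈ E
    have hcW : c ∈ normalizer (bM p E : Set G) := centralizer_le_normalizer (bM p E : Set G) hc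
    have hk : c * e * c⁻¹ * e⁻¹ ∈ K := by
      rw [hK]
      refine mem_inf.2 ⟨mul_mem (conj_mem_secKer (hNM c) hcW (h he)) (inv_mem (h he)), ?_⟩
      rw [show c * e * c⁻¹ * e⁻¹ = c * (e * c⁻¹ * e⁻¹) by group]
      exact mul_mem hc ((mem_normalizer_iff.1 (CfsgLib.Signalizer.normalizer_le_normalizer_centralizer_set _
        (normalizer_le_bM E (le_normalizer he))) _).1 (inv_mem hc))
    refine mem_of_coprime_sup hKp hKN ?_ ?_
    · rw [show c * e * c⁻¹ = (c * e * c⁻¹ * e⁻¹) * e by rw [inv_mul_cancel_right]]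
      exact mul_mem (mem_sup_right hk) (mem_sup_left he)
    · rwa [show orderOf (c * e * c⁻¹) = orderOf e from
        orderOf_injective (MulAut.conj c).toMonoidHom (MulEquiv.injective _) e]
  exact hle hx

set_option synthInstance.maxHeartbeats 200000 in
set_option maxHeartbeats 1000000 in
/-- The centraliser of the commutator module normalises the block. -/
theorem centralizer_le_normalizer_block {p : ℕ} [hp : Fact p.Prime]
    (hG : centralizer (pCore p G : Set G) ≤ pCore p G) (T : Sylow p G) {E : Subgroup G}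
    (hE : IsBaumannBlock p (T : Subgroup G) E) :
    centralizer (bM p E : Set G) ≤ normalizer (E : Set G) := by
  haveI hMn : (pCore p G).Normal := CfsgLib.Core.normal_pCore p G
  have hMp := CfsgLib.Core.isPGroup_pCore p G
  have hNM : ∀ g : G, g ∈ normalizer (pCore p G : Set G) := fun g => by
    rw [normalizer_eq_top_iff.2 hMn]; exact mem_top g
  have hME : pCore p G ≤ normalizer (E : Set G) := block_normalized T hE hMp (fun g _ => hNM g) (fun g _ => hNM g)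
  have hcomm : ∀ e ∈ E, ∀ m ∈ pCore p G, e * m * e⁻¹ * m⁻¹ ∈ pCoreOf p E ⊓ pCore p G := by
    intro e he m hm
    have h1 : e * m * e⁻¹ * m⁻¹ ∈ pCore p G := mul_mem (hMn.conj_mem m hm e) (inv_mem hm)
    refine mem_inf.2 ⟨le_pCoreOf (A := pCore p G ⊓ E) inf_le_right (hMp.to_le inf_le_left)
      ((le_inf (fun g _ => hNM g) le_normalizer).trans inf_normalizer_le_normalizer_inf) (mem_inf.2 ⟨h1, ?_⟩), h1⟩
    rw [show e * m * e⁻¹ * m⁻¹ = e * (m * e⁻¹ * m⁻¹) by group]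
    exact mul_mem he ((mem_normalizer_iff.1 (hME hm) _).1 (inv_mem he))
  -- when the core meets `O_p(G)` inside `W`
  have hsmall : pCoreOf p E ⊓ pCore p G ≤ bW p E → E ≤ secKer (pCore p G) (bM p E) := by
    intro hle
    refine block_le_of_coprime hE fun e he hec => ?_
    have heW := normalizer_le_bW (p := p) E (le_normalizer he)
    have heM := normalizer_le_bM (p := p) E (le_normalizer he)
    refine coprime_stab (B := bW p E ⊓ pCore p G) hMp inf_le_right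
      (inf_le_left.trans ((bW_le E).trans ((pCoreOf_le E).trans (le_normalizer.trans (normalizer_le_bM E))))) hec ?_ ?_
    · exact mem_secKer.2 ⟨hNM e, inf_normalizer_le_normalizer_inf (mem_inf.2 ⟨heW, hNM e⟩),
        fun m hm => mem_inf.2 ⟨hle (hcomm e he m hm), (hcomm e he m hm).2⟩⟩
    · refine mem_secKer.2 ⟨inf_normalizer_le_normalizer_inf (mem_inf.2 ⟨heW, hNM e⟩), heM, fun w hw => ?_⟩
      have h := inv_mem (commutator_mem_commutator hw.1 he : ⁅w, e⁆ ∈ bM p E)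
      rwa [commutatorElement_inv, commutatorElement_def] at h
  rcases block_linear_or_exceptional hE with hlin | ⟨h3, -, -, hcom, hcE, hexc⟩
  · exact of_secKer hG T hE (hsmall (inf_le_left.trans hlin.le))
  by_cases hmeet : pCoreOf p E ⊓ pCore p G ≤ bW p E
  · exact of_secKer hG T hE (hsmall hmeet)
  subst h3
  rcases hE.2.2.2.2 with ⟨F, hF, hFt, n, hcard, hiso, hW, hlin | ⟨-, hQW, -, -, -, hc3, -⟩⟩ | ⟨h2, -⟩
  · exact absurd (inf_le_left.trans hlin.le) hmeet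
  · rw [hcE] at hc3
    haveI : CharP F 3 := by
      obtain ⟨r, hr⟩ := CharP.exists F
      haveI : Fact r.Prime := ⟨CharP.char_is_prime F r⟩
      obtain ⟨k, hk, hk'⟩ := FiniteField.card F r
      have : r = 3 := (Nat.prime_dvd_prime_iff_eq hk Nat.prime_three).1
        (hk.dvd_of_dvd_pow (show r ∣ 3 ^ n by rw [← hcard, hk']; exact dvd_pow_self r k.2.ne'))
      rwa [this] at hr
    rcases card_three_or (F := F) with h | h
    · obtain ⟨r⟩ : Nonempty (F ≃+* ZMod 3) := ⟨(ZMod.ringEquivOfPrime F Nat.prime_three h).symm⟩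
      obtain ⟨f⟩ := nonempty_mulEquiv_commutator_sl2 r
      haveI := CfsgLib.Core.normal_pCore 3 ↥E
      obtain ⟨g⟩ := hiso
      have hn : n = 1 := Nat.pow_right_injective (le_refl 2 |>.trans (by norm_num : 2 ≤ 3)) ((hcard.symm.trans h).trans (pow_one 3).symm)
      subst hn
      obtain ⟨S, rfl⟩ : ∃ S : Setting G (ZMod 3), S.E = E :=
        ⟨Setting.mk T E 1 hG hE (by rw [ZMod.card, pow_one]) inferInstance ⟨g.trans f⟩ (acts_transfer r hW)
          (acts_transfer r hQW) hcom hc3 hexc hmeet, rfl⟩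
      exact S.final fun D c hc => D.concl_three hc
    · obtain ⟨S, rfl⟩ : ∃ S : Setting G F, S.E = E :=
        ⟨Setting.mk T E n hG hE hcard inferInstance hiso hW hQW hcom hc3 hexc hmeet, rfl⟩
      exact S.final fun D c hc => D.concl_big h hc
  · exact absurd h2 (by norm_num)

end CfsgLib.LocalEven.BlockCent
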