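import Cfsg.Agent.Lib.LocalEven.BlockCent.Setting

/-!
# The conjugates of the core under the centraliser of the module

The subgroup generated by the conjugates of `Q` under `C_G(W_E)`, modulo `Z(M)`.
-/

set_option autoImplicit false
set_option linter.all false

namespace CfsgLib.LocalEven.BlockCent

open Subgroup Cfsg
open CfsgLib.LocalEvenB
open CfsgLib.LocalEvenB.SubBlocks
open scoped commutatorElement

variable {G : Type*} [Group G] [Finite G]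

namespace Setting

variable {F : Type} [Field F] [Fintype F] (S : Setting G F)

/-- `C_G(W_E)`. -/
abbrev CC : Subgroup G := centralizer (S.WE : Set G)

/-- The conjugates of `Q` under `C_G(W_E)`. -/
def Y : Subgroup G := ⨆ c : ↥S.CC, S.Q.map (MulAut.conj (c : G)).toMonoidHom

/-- The same with `Z(M)`. -/
def YM : Subgroup G := S.Y ⊔ S.ZM

/-- The normaliser of the data. -/
def H : Subgroup G := normalizer (S.YM : Set G) ⊓ normalizer (S.WE : Set G)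

theorem conj_mem_Y {c x : G} (hc : c ∈ S.CC) (hx : x ∈ S.Q) : c * x * c⁻¹ ∈ S.Y :=
  le_iSup (fun c : ↥S.CC => S.Q.map (MulAut.conj (c : G)).toMonoidHom) ⟨c, hc⟩ ⟨x, hx, rfl⟩

theorem Q_le_Y : S.Q ≤ S.Y := fun x hx => by simpa using S.conj_mem_Y (one_mem _) hx

theorem Y_induction {X : Subgroup G} (h : ∀ c ∈ S.CC, ∀ x ∈ S.Q, c * x * c⁻¹ ∈ X) : S.Y ≤ X :=
  iSup_le fun c => by
    rintro _ ⟨x, hx, rfl⟩
    exact h c c.2 x hx

theorem Y_le_M : S.Y ≤ S.M := S.Y_induction fun c _ x hx => S.M_normal.conj_mem x (S.Q_le_M hx) c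

theorem YM_le_M : S.YM ≤ S.M := sup_le S.Y_le_M inf_le_left

theorem ZM_le_YM : S.ZM ≤ S.YM := le_sup_right

theorem Q_le_YM : S.Q ≤ S.YM := S.Q_le_Y.trans le_sup_left

theorem mem_normalizer_YM {g : G} (h : ∀ c ∈ S.CC, ∀ x ∈ S.Q, g * (c * x * c⁻¹) * g⁻¹ ∈ S.Y) :
    g ∈ normalizer (S.YM : Set G) := by
  refine mem_normalizer_of_forall fun x hx => ?_
  have hle : S.YM ≤ S.YM.comap (MulAut.conj g).toMonoidHom := sup_le
    (S.Y_induction fun c hc x hx => mem_sup_left (h c hc x hx))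
    fun z hz => mem_sup_right ((mem_normalizer_iff.1 (S.top_le_normalizer_ZM ⊤ (mem_top g)) z).1 hz)
  exact hle hx

theorem CC_le_H : S.CC ≤ S.H := fun g hg => mem_inf.2 ⟨S.mem_normalizer_YM fun c hc x hx => by
  rw [show g * (c * x * c⁻¹) * g⁻¹ = g * c * x * (g * c)⁻¹ by group]
  exact S.conj_mem_Y (mul_mem hg hc) hx, centralizer_le_normalizer (S.WE : Set G) hg⟩

theorem NE_le_H : normalizer (S.E : Set G) ≤ S.H := fun g hg => mem_inf.2 ⟨S.mem_normalizer_YM fun c hc x hx => by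
  rw [show g * (c * x * c⁻¹) * g⁻¹ = g * c * g⁻¹ * (g * x * g⁻¹) * (g * c * g⁻¹)⁻¹ by group]
  exact S.conj_mem_Y ((mem_normalizer_iff.1 (CfsgLib.Signalizer.normalizer_le_normalizer_centralizer_set S.WE
    (S.NE_le_NWE hg)) c).1 hc) ((mem_normalizer_iff.1 (S.NE_le_NQ hg) x).1 hx), S.NE_le_NWE hg⟩

theorem E_le_H : S.E ≤ S.H := S.E_le_NE.trans S.NE_le_H

theorem H_le_NYM : S.H ≤ normalizer (S.YM : Set G) := inf_le_left

theorem H_le_NWE : S.H ≤ normalizer (S.WE : Set G) := inf_le_right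

theorem H_le_NZM : S.H ≤ normalizer (S.ZM : Set G) := S.top_le_normalizer_ZM _

theorem H_le_NCC : S.H ≤ normalizer (S.CC : Set G) :=
  S.H_le_NWE.trans (CfsgLib.Signalizer.normalizer_le_normalizer_centralizer_set S.WE)

theorem comm_M_YM {m y : G} (hm : m ∈ S.M) (hy : y ∈ S.YM) : m * y * m⁻¹ * y⁻¹ ∈ S.ZM := by
  have hle : S.YM ≤
      { carrier := {y | y ∈ S.M ∧ ∀ m ∈ S.M, m * y * m⁻¹ * y⁻¹ ∈ S.ZM}
        one_mem' := ⟨one_mem _, fun m _ => by simp⟩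
        mul_mem' := fun {a b} ha hb => ⟨mul_mem ha.1 hb.1, fun m hm => by
          rw [show m * (a * b) * m⁻¹ * (a * b)⁻¹ = (m * a * m⁻¹ * a⁻¹) * (a * (m * b * m⁻¹ * b⁻¹) * a⁻¹) by group]
          exact mul_mem (ha.2 m hm) ((mem_normalizer_iff.1 (S.top_le_normalizer_ZM ⊤ (mem_top a)) _).1 (hb.2 m hm))⟩
        inv_mem' := fun {a} ha => ⟨inv_mem ha.1, fun m hm => by
          rw [show m * a⁻¹ * m⁻¹ * a⁻¹⁻¹ = a⁻¹ * (m * a * m⁻¹ * a⁻¹)⁻¹ * a by group]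
          exact (mem_normalizer_iff''.1 (S.top_le_normalizer_ZM ⊤ (mem_top a)) _).1 (inv_mem (ha.2 m hm))⟩ } := by
    refine sup_le (S.Y_induction fun c hc x hx => ⟨S.M_normal.conj_mem x (S.Q_le_M hx) c, fun m hm => ?_⟩)
      fun z hz => ⟨hz.1, fun m hm => ?_⟩
    · have h1 := S.comm_M_Q_le_W (by simpa using S.M_normal.conj_mem m hm c⁻¹ : c⁻¹ * m * c ∈ S.M) hx
      have h2 := (mem_normalizer_iff.1 (S.top_le_normalizer_ZM ⊤ (mem_top c)) _).1 (S.W_le_ZM h1)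
      rwa [show c * (c⁻¹ * m * c * x * (c⁻¹ * m * c)⁻¹ * x⁻¹) * c⁻¹ =
        m * (c * x * c⁻¹) * m⁻¹ * (c * x * c⁻¹)⁻¹ by group] at h2
    · exact mul_mem ((mem_normalizer_iff.1 (S.top_le_normalizer_ZM ⊤ (mem_top m)) z).1 hz) (inv_mem hz)
  exact (hle hy).2 m hm

theorem YM_le_NWE : S.YM ≤ normalizer (S.WE : Set G) := S.YM_le_M.trans (S.M_le_NE.trans S.NE_le_NWE)

/-- `Y Z(M) / Z(M)`. -/
abbrev QuotV := ↥S.YM ⧸ S.ZM.subgroupOf S.YM

instance ZM_normal : (S.ZM.subgroupOf S.YM).Normal :=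
  (normal_subgroupOf_iff_le_normalizer S.ZM_le_YM).2 (S.top_le_normalizer_ZM _)

theorem quotV_comm (a b : S.QuotV) : a * b = b * a := by
  induction a using QuotientGroup.induction_on with | _ x =>
  induction b using QuotientGroup.induction_on with | _ y =>
  rw [← QuotientGroup.mk_mul, ← QuotientGroup.mk_mul, QuotientGroup.eq_iff_div_mem, mem_subgroupOf]
  have h1 := S.comm_M_YM (S.YM_le_M x.2) y.2
  simpa [div_eq_mul_inv, mul_assoc] using h1

noncomputable instance quotV_commGroup : CommGroup S.QuotV :=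
  { (inferInstance : Group S.QuotV) with mul_comm := S.quotV_comm }

/-- The module. -/
abbrev V := Additive S.QuotV

/-- The class of an element. -/
def vmk (y : ↥S.YM) : S.V := Additive.ofMul (y : S.QuotV)

theorem vmk_mul (a b : ↥S.YM) : S.vmk (a * b) = S.vmk a + S.vmk b := rfl

theorem vmk_inv (a : ↥S.YM) : S.vmk a⁻¹ = -S.vmk a := rfl

theorem vmk_surj (v : S.V) : ∃ y, S.vmk y = v := by
  obtain ⟨y, hy⟩ := QuotientGroup.mk_surjective v.toMul
  exact ⟨y, by rw [vmk, hy]; rfl⟩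

theorem vmk_eq_zero {y : ↥S.YM} : S.vmk y = 0 ↔ (y : G) ∈ S.ZM :=
  ofMul_eq_zero.trans ((QuotientGroup.eq_one_iff y).trans mem_subgroupOf)

theorem vmk_eq_iff {a b : ↥S.YM} : S.vmk a = S.vmk b ↔ (a : G) * (b : G)⁻¹ ∈ S.ZM := by
  rw [← sub_eq_zero, sub_eq_add_neg, ← S.vmk_inv, ← S.vmk_mul, S.vmk_eq_zero]
  rfl

/-- Conjugation on the module. -/
noncomputable def conjV (h : ↥S.H) : S.V →+ S.V :=
  MonoidHom.toAdditive (QuotientGroup.map (S.ZM.subgroupOf S.YM) (S.ZM.subgroupOf S.YM)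
    (S.YM.normalizerMonoidHom ⟨h, S.H_le_NYM h.2⟩).toMonoidHom
    (fun u hu => mem_comap.2 (mem_subgroupOf.2 ((mem_normalizer_iff.1 (S.H_le_NZM h.2) _).1 (mem_subgroupOf.1 hu)))))

theorem conj_mem_YM (h : ↥S.H) (y : ↥S.YM) : (h : G) * y * (h : G)⁻¹ ∈ S.YM :=
  (mem_normalizer_iff.1 (S.H_le_NYM h.2) _).1 y.2

theorem conjV_vmk (h : ↥S.H) (y : ↥S.YM) : S.conjV h (S.vmk y) = S.vmk ⟨_, S.conj_mem_YM h y⟩ := rfl

noncomputable instance distribAction : DistribMulAction ↥S.H S.V where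
  smul h v := S.conjV h v
  one_smul v := by
    obtain ⟨y, rfl⟩ := S.vmk_surj v
    show S.conjV 1 _ = _
    rw [S.conjV_vmk]
    congr 1
    exact Subtype.ext (by simp)
  mul_smul a b v := by
    obtain ⟨y, rfl⟩ := S.vmk_surj v
    show S.conjV (a * b) _ = S.conjV a (S.conjV b _)
    rw [S.conjV_vmk, S.conjV_vmk, S.conjV_vmk]
    congr 1
    exact Subtype.ext (by simp only [Subgroup.coe_mul]; group)
  smul_zero h := map_zero (S.conjV h)
  smul_add h := map_add (S.conjV h)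

theorem smul_vmk (h : ↥S.H) (y : ↥S.YM) : h • S.vmk y = S.vmk ⟨_, S.conj_mem_YM h y⟩ := rfl

theorem V_three (v : S.V) : v + v + v = 0 := by
  obtain ⟨y, rfl⟩ := S.vmk_surj v
  let X : Subgroup G :=
    { carrier := {y | ∃ h : y ∈ S.YM, S.vmk ⟨y, h⟩ + S.vmk ⟨y, h⟩ + S.vmk ⟨y, h⟩ = 0}
      one_mem' := ⟨one_mem _, by rw [S.vmk_eq_zero.2 (one_mem _), add_zero, add_zero]⟩
      mul_mem' := by
        rintro a b ⟨ha, ea⟩ ⟨hb, eb⟩
        refine ⟨mul_mem ha hb, ?_⟩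
        rw [show S.vmk ⟨a * b, mul_mem ha hb⟩ = S.vmk ⟨a, ha⟩ + S.vmk ⟨b, hb⟩ from rfl]
        calc _ = (S.vmk ⟨a, ha⟩ + S.vmk ⟨a, ha⟩ + S.vmk ⟨a, ha⟩) +
              (S.vmk ⟨b, hb⟩ + S.vmk ⟨b, hb⟩ + S.vmk ⟨b, hb⟩) := by abel
          _ = 0 := by rw [ea, eb, add_zero]
      inv_mem' := by
        rintro a ⟨ha, ea⟩
        refine ⟨inv_mem ha, ?_⟩
        rw [show S.vmk ⟨a⁻¹, inv_mem ha⟩ = -S.vmk ⟨a, ha⟩ from rfl, ← neg_add, ← neg_add, ea, neg_zero] }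
  have hle : S.YM ≤ X := by
    refine sup_le (S.Y_induction fun c hc x hx => ?_) fun z hz => ?_
    · have hm : c * x * c⁻¹ ∈ S.YM := mem_sup_left (S.conj_mem_Y hc hx)
      refine ⟨hm, ?_⟩
      rw [← S.vmk_mul, ← S.vmk_mul, S.vmk_eq_zero]
      show c * x * c⁻¹ * (c * x * c⁻¹) * (c * x * c⁻¹) ∈ S.ZM
      rw [show c * x * c⁻¹ * (c * x * c⁻¹) * (c * x * c⁻¹) = c * x ^ 3 * c⁻¹ by rw [pow_three']; group]
      exact (mem_normalizer_iff.1 (S.top_le_normalizer_ZM ⊤ (mem_top c)) _).1 (S.W_le_ZM (S.pow_three_Q hx))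
    · exact ⟨S.ZM_le_YM hz, by rw [S.vmk_eq_zero.2 hz, add_zero, add_zero]⟩
  exact (hle y.2).2

/-- `Z(M) / W_E`. -/
abbrev QuotA := ↥S.ZM ⧸ S.WE.subgroupOf S.ZM

instance WE_normal : (S.WE.subgroupOf S.ZM).Normal :=
  (normal_subgroupOf_iff_le_normalizer S.WE_le_ZM).2 S.ZM_le_NWE

theorem quotA_comm (a b : S.QuotA) : a * b = b * a := by
  induction a using QuotientGroup.induction_on with | _ x =>
  induction b using QuotientGroup.induction_on with | _ y =>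
  rw [← QuotientGroup.mk_mul, ← QuotientGroup.mk_mul]
  congr 1
  exact Subtype.ext (S.ZM_comm x.2 y.2)

noncomputable instance quotA_commGroup : CommGroup S.QuotA :=
  { (inferInstance : Group S.QuotA) with mul_comm := S.quotA_comm }

/-- The values of the form. -/
abbrev A := Additive S.QuotA

/-- The class of an element. -/
def amk (x : ↥S.ZM) : S.A := Additive.ofMul (x : S.QuotA)

theorem amk_mul (a b : ↥S.ZM) : S.amk (a * b) = S.amk a + S.amk b := rfl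

theorem amk_inv (a : ↥S.ZM) : S.amk a⁻¹ = -S.amk a := rfl

theorem amk_surj (v : S.A) : ∃ y, S.amk y = v := by
  obtain ⟨y, hy⟩ := QuotientGroup.mk_surjective v.toMul
  exact ⟨y, by rw [amk, hy]; rfl⟩

theorem amk_eq_zero {y : ↥S.ZM} : S.amk y = 0 ↔ (y : G) ∈ S.WE :=
  ofMul_eq_zero.trans ((QuotientGroup.eq_one_iff y).trans mem_subgroupOf)

theorem amk_eq_iff {a b : ↥S.ZM} : S.amk a = S.amk b ↔ (a : G) * (b : G)⁻¹ ∈ S.WE := by
  rw [← sub_eq_zero, sub_eq_add_neg, ← S.amk_inv, ← S.amk_mul, S.amk_eq_zero]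
  rfl

theorem amk_congr {a b : G} (ha : a ∈ S.ZM) (hb : b ∈ S.ZM) (h : a = b) : S.amk ⟨a, ha⟩ = S.amk ⟨b, hb⟩ := by
  subst h
  rfl

theorem comm_YM_mem (y y' : ↥S.YM) : ⁅(y : G), (y' : G)⁆ ∈ S.ZM := S.comm_M_YM (S.YM_le_M y.2) y'.2

theorem A_two (a : S.A) (h : a + a = 0) : a = 0 := by
  obtain ⟨⟨x, hx⟩, rfl⟩ := S.amk_surj a
  rw [← S.amk_mul, S.amk_eq_zero] at h
  rw [S.amk_eq_zero]
  obtain ⟨k, hk⟩ := S.M_pGroup ⟨x, hx.1⟩
  have hk' : x ^ 3 ^ k = 1 := congrArg Subtype.val hk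
  have hc : (3 ^ k).Coprime 2 := Nat.Coprime.pow_left k (by norm_num)
  obtain ⟨i, hi⟩ := exists_pow_eq_self_of_coprime (n := 2) (x := x)
    ((hc.coprime_dvd_left (orderOf_dvd_of_pow_eq_one hk')).symm)
  show x ∈ S.WE
  rw [← hi, pow_two]
  exact pow_mem h i

/-- The form, one entry at a time. -/
def beta0 (y y' : ↥S.YM) : S.A := S.amk ⟨⁅(y : G), (y' : G)⁆, S.comm_YM_mem y y'⟩

theorem beta0_add_right (y a b : ↥S.YM) : S.beta0 y (a * b) = S.beta0 y a + S.beta0 y b := by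
  rw [beta0, beta0, beta0, ← S.amk_mul]
  refine S.amk_congr _ _ ?_
  show ⁅(y : G), (a : G) * (b : G)⁆ = ⁅(y : G), (a : G)⁆ * ⁅(y : G), (b : G)⁆
  rw [commutatorElement_mul_right_eq_mul_conj, mul_assoc ⁅(y : G), (a : G)⁆ (a : G),
    mem_centralizer_iff.1 (S.comm_YM_mem y b).2 _ (S.YM_le_M a.2), ← mul_assoc, mul_inv_cancel_right]

theorem beta0_add_left (a b y : ↥S.YM) : S.beta0 (a * b) y = S.beta0 a y + S.beta0 b y := by
  rw [beta0, beta0, beta0, ← S.amk_mul]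
  refine S.amk_congr _ _ ?_
  show ⁅(a : G) * (b : G), (y : G)⁆ = ⁅(a : G), (y : G)⁆ * ⁅(b : G), (y : G)⁆
  rw [commutatorElement_mul_left_eq_conj_mul, mem_centralizer_iff.1 (S.comm_YM_mem b y).2 _ (S.YM_le_M a.2),
    mul_inv_cancel_right]
  exact S.ZM_comm (S.comm_YM_mem b y) (S.comm_YM_mem a y)

theorem beta0_ZM {y y' : ↥S.YM} (h : (y : G) ∈ S.ZM ∨ (y' : G) ∈ S.ZM) : S.beta0 y y' = 0 := by
  rw [beta0, S.amk_eq_zero]
  have h1 : ⁅(y : G), (y' : G)⁆ = 1 := by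
    rw [commutatorElement_eq_one_iff_mul_comm]
    rcases h with h | h
    · exact (mem_centralizer_iff.1 h.2 _ (S.YM_le_M y'.2)).symm
    · exact mem_centralizer_iff.1 h.2 _ (S.YM_le_M y.2)
  show ⁅(y : G), (y' : G)⁆ ∈ S.WE
  rw [h1]
  exact one_mem _

theorem beta0_congr {a a' b b' : ↥S.YM} (ha : S.vmk a = S.vmk a') (hb : S.vmk b = S.vmk b') :
    S.beta0 a b = S.beta0 a' b' := by
  calc S.beta0 a b = S.beta0 (a * a'⁻¹ * a') (b * b'⁻¹ * b') := by rw [inv_mul_cancel_right, inv_mul_cancel_right]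
    _ = S.beta0 (a * a'⁻¹) (b * b'⁻¹ * b') + (S.beta0 a' (b * b'⁻¹) + S.beta0 a' b') := by
      rw [S.beta0_add_left, S.beta0_add_right a']
    _ = S.beta0 a' b' := by
      rw [S.beta0_ZM (Or.inl (S.vmk_eq_iff.1 ha)), S.beta0_ZM (Or.inr (S.vmk_eq_iff.1 hb)), zero_add, zero_add]

/-- The form. -/
noncomputable def beta : S.V →+ S.V →+ S.A :=
  AddMonoidHom.mk' (fun v => AddMonoidHom.mk' (fun w => S.beta0 (S.vmk_surj v).choose (S.vmk_surj w).choose)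
    (fun w w' => by
      rw [← S.beta0_add_right]
      refine S.beta0_congr rfl ?_
      rw [(S.vmk_surj _).choose_spec, S.vmk_mul, (S.vmk_surj w).choose_spec, (S.vmk_surj w').choose_spec]))
    (fun v v' => by
      refine AddMonoidHom.ext fun w => ?_
      show S.beta0 _ _ = S.beta0 _ _ + S.beta0 _ _
      rw [← S.beta0_add_left]
      refine S.beta0_congr ?_ rfl
      rw [(S.vmk_surj _).choose_spec, S.vmk_mul, (S.vmk_surj v).choose_spec, (S.vmk_surj v').choose_spec])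

theorem beta_vmk (y y' : ↥S.YM) : S.beta (S.vmk y) (S.vmk y') = S.beta0 y y' :=
  S.beta0_congr (S.vmk_surj _).choose_spec (S.vmk_surj _).choose_spec

theorem conj_mem_ZM (h : ↥S.H) (x : ↥S.ZM) : (h : G) * x * (h : G)⁻¹ ∈ S.ZM :=
  (mem_normalizer_iff.1 (S.H_le_NZM h.2) _).1 x.2

/-- Conjugation on the values. -/
noncomputable def sigma (h : ↥S.H) : S.A →+ S.A :=
  MonoidHom.toAdditive (QuotientGroup.map (S.WE.subgroupOf S.ZM) (S.WE.subgroupOf S.ZM)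
    (S.ZM.normalizerMonoidHom ⟨h, S.H_le_NZM h.2⟩).toMonoidHom
    (fun u hu => mem_comap.2 (mem_subgroupOf.2 ((mem_normalizer_iff.1 (S.H_le_NWE h.2) _).1 (mem_subgroupOf.1 hu)))))

theorem sigma_amk (h : ↥S.H) (x : ↥S.ZM) : S.sigma h (S.amk x) = S.amk ⟨_, S.conj_mem_ZM h x⟩ := rfl

theorem sigma_injective (h : ↥S.H) : Function.Injective (S.sigma h) := by
  refine (injective_iff_map_eq_zero _).2 fun a ha => ?_
  obtain ⟨x, rfl⟩ := S.amk_surj a
  rw [S.sigma_amk, S.amk_eq_zero] at ha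
  exact S.amk_eq_zero.2 ((mem_normalizer_iff.1 (S.H_le_NWE h.2) _).2 ha)

theorem beta_smul (h : ↥S.H) (v w : S.V) : S.beta (h • v) (h • w) = S.sigma h (S.beta v w) := by
  obtain ⟨y, rfl⟩ := S.vmk_surj v
  obtain ⟨y', rfl⟩ := S.vmk_surj w
  rw [S.smul_vmk, S.smul_vmk, S.beta_vmk, S.beta_vmk, beta0, beta0, S.sigma_amk]
  exact S.amk_congr _ _ (conjugate_commutatorElement _ _ _).symm

theorem beta_self (v : S.V) : S.beta v v = 0 := by
  obtain ⟨y, rfl⟩ := S.vmk_surj v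
  rw [S.beta_vmk, beta0, S.amk_eq_zero]
  show ⁅(y : G), (y : G)⁆ ∈ S.WE
  rw [commutatorElement_self]
  exact one_mem _

end Setting

end CfsgLib.LocalEven.BlockCent
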