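import Cfsg.Agent.Lib.LocalEven.BlockCent.Pairing

/-!
# The fixed summand over the field of three elements
-/

set_option autoImplicit false
set_option linter.all false

namespace CfsgLib.LocalEven.BlockCent

open Matrix

theorem zmod3_ne {x : ZMod 3} : x ≠ 0 → x = 1 ∨ x = -1 := by revert x; decide

set_option synthInstance.maxSize 8192 in
set_option synthInstance.maxHeartbeats 400000 in
set_option maxHeartbeats 1000000 in
/-- A matrix whose translates along the quaternion group all have determinant one vanishes. -/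
theorem quat_translate : ∀ Y : Matrix (Fin 2) (Fin 2) (ZMod 3),
    (1 + Y).det = 1 → (1 - Y).det = 1 →
    (1 + Y * !![0, 1; -1, 0]).det = 1 → (1 - Y * !![0, 1; -1, 0]).det = 1 →
    (1 + Y * !![1, 1; 1, -1]).det = 1 → (1 - Y * !![1, 1; 1, -1]).det = 1 →
    (1 + Y * !![1, -1; -1, -1]).det = 1 → (1 - Y * !![1, -1; -1, -1]).det = 1 → Y = 0 := by
  simp only [det_fin_two]
  decide +kernel

set_option synthInstance.maxSize 8192 in
set_option synthInstance.maxHeartbeats 400000 in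
set_option maxHeartbeats 1000000 in
/-- The elements of the general linear group against the quaternion group. -/
theorem quat_normalizer : ∀ M : Matrix (Fin 2) (Fin 2) (ZMod 3), M.det ≠ 0 →
    (∀ A : Matrix (Fin 2) (Fin 2) (ZMod 3), A = 1 ∨ A = -1 ∨ A * A = -1 → M * A = A * M) ∨ M * M = -1 ∧ M.det = 1 ∨
    ∃ q q2 : Matrix (Fin 2) (Fin 2) (ZMod 3), q * q = -1 ∧ q2 * q2 = -1 ∧ M * q = q2 * q * M := by
  simp only [det_fin_two]
  decide +kernel

set_option synthInstance.maxSize 8192 in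
set_option synthInstance.maxHeartbeats 400000 in
set_option maxHeartbeats 1000000 in
/-- An element of order four is not central in the quaternion group. -/
theorem quat_not_central : ∀ M : Matrix (Fin 2) (Fin 2) (ZMod 3), M * M = -1 →
    ∃ A : Matrix (Fin 2) (Fin 2) (ZMod 3), A * A = -1 ∧ M * A ≠ A * M := by decide +kernel

universe u v w

namespace Data

variable {X : Type u} {V : Type v} {A : Type w} [Group X] [AddCommGroup V] [DistribMulAction X V]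
  [AddCommGroup A] (D : Data X V A (ZMod 3))
include D

theorem quat_mem (M : Matrix (Fin 2) (Fin 2) (ZMod 3)) (hM : M = 1 ∨ M = -1 ∨ M * M = -1) :
    ∃ e : ↥D.E, (D.ρ e : Matrix (Fin 2) (Fin 2) (ZMod 3)) = M := by
  have hd : ∀ A : Matrix (Fin 2) (Fin 2) (ZMod 3), A = 1 ∨ A = -1 ∨ A * A = -1 →
      ∃ g : Matrix.SpecialLinearGroup (Fin 2) (ZMod 3), g ^ 4 = 1 ∧ g.1 = A := by decide +kernel
  obtain ⟨g, hg, rfl⟩ := hd M hM
  have h1 := CfsgLib.LocalEvenB.SubBlocks.mem_commutator_sl23.2 hg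
  rw [← D.hρ] at h1
  obtain ⟨e, rfl⟩ := h1
  exact ⟨e, rfl⟩

theorem rho_quat (e : ↥D.E) : (D.ρ e : Matrix (Fin 2) (Fin 2) (ZMod 3)) = 1 ∨
    (D.ρ e : Matrix (Fin 2) (Fin 2) (ZMod 3)) = -1 ∨
    (D.ρ e : Matrix (Fin 2) (Fin 2) (ZMod 3)) * (D.ρ e : Matrix (Fin 2) (Fin 2) (ZMod 3)) = -1 := by
  have hd : ∀ g : Matrix.SpecialLinearGroup (Fin 2) (ZMod 3), g ^ 4 = 1 →
      g.1 = 1 ∨ g.1 = -1 ∨ g.1 * g.1 = -1 := by decide +kernel
  exact hd _ (CfsgLib.LocalEvenB.SubBlocks.mem_commutator_sl23.1 (D.hρ ▸ ⟨e, rfl⟩))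

/-- The matrix of the projected action. -/
noncomputable def N (c : X) : Matrix (Fin 2) (Fin 2) (ZMod 3) :=
  LinearMap.toMatrix' ((D.p.comp ((DistribSMul.toAddMonoidHom V c).comp D.φ)).toZModLinearMap 3)

theorem N_mulVec (c : X) (a : Fin 2 → ZMod 3) : D.N c *ᵥ a = D.p (c • D.φ a) := by
  rw [N, LinearMap.toMatrix'_mulVec]
  rfl

theorem smul_phi (c : X) (a : Fin 2 → ZMod 3) : c • D.φ a = D.φ (D.N c *ᵥ a) + D.θ (c • D.φ a) := by
  rw [D.N_mulVec, ← D.decomp]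

theorem key_three {c : X} (hc : c ∈ D.C) :
    (D.N c).det ≠ 0 ∧ (∀ x, D.σ c (D.μ x) = D.μ ((D.N c).det * x)) ∧ D.N c⁻¹ * D.N c = 1 ∧
      ∀ a b, D.β (D.θ (c • D.φ a)) (D.θ (c • D.φ b)) = 0 := by
  have hR : ∀ a b, D.μ (det2 (D.N c *ᵥ a) b) = D.σ c (D.μ (det2 a (D.N c⁻¹ *ᵥ b))) := fun a b => by
    rw [D.N_mulVec, D.N_mulVec, D.β_smul_phi hc]
  have hQ : ∀ a b, D.μ ((D.N c).det * det2 a b) = D.σ c (D.μ (det2 a ((D.N c⁻¹ * D.N c) *ᵥ b))) := fun a b => by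
    rw [← det2_mulVec, hR, mulVec_mulVec]
  have hδ : (D.N c).det ≠ 0 := by
    intro h0
    have hz : ∀ b, D.N c⁻¹ *ᵥ (D.N c *ᵥ b) = 0 := fun b => det2_nondeg fun a => D.μ_inj (D.hσ c (by
      rw [mulVec_mulVec, ← hQ, h0, zero_mul, map_zero, map_zero]))
    refine D.not_into_fixed (c := (D.t * c * D.t⁻¹) * c⁻¹ * (D.t * c * D.t⁻¹))
      (mul_mem (mul_mem (D.hCn.conj_mem c hc D.t) (inv_mem hc)) (D.hCn.conj_mem c hc D.t)) fun a => ?_
    obtain ⟨P, f, hf, hca⟩ : ∃ P f, D.p f = 0 ∧ c • D.φ a = D.φ P + f :=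
      ⟨_, _, D.p_θ _, D.smul_phi c a⟩
    have hP : P = D.N c *ᵥ a := by
      rw [D.N_mulVec, hca, map_add, p_phi, hf, add_zero]
    obtain ⟨g, hg⟩ : ∃ g, g = c⁻¹ • D.φ P := ⟨_, rfl⟩
    have hg0 : D.p g = 0 := by rw [hg, ← D.N_mulVec, hP, hz]
    have hcg : c • g = D.φ P := by rw [hg, smul_inv_smul]
    have hcf : c⁻¹ • f = D.φ a - g := by
      rw [inv_smul_eq_iff, smul_sub, hca, hcg, add_sub_cancel_left]
    simp only [mul_smul, D.tinv_phi, smul_neg, hca, neg_add_rev, smul_add, D.ht, D.t_fix_iff.2 hf,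
      ← hg, hcf, neg_sub, neg_neg, smul_sub, D.tinv_fixed hg0, hcg, map_add, map_neg, map_sub, p_phi, hf,
      D.p_t]
    have h3 := congrArg D.p (D.h3 (D.φ P))
    simp only [map_add, p_phi, map_zero] at h3
    linear_combination (norm := abel) -h3
  have h01 : det2 (![1, 0] : Fin 2 → ZMod 3) ![0, 1] = 1 := by simp [det2]
  obtain ⟨x, hx⟩ : ∃ x, x = det2 (![1, 0] : Fin 2 → ZMod 3) ((D.N c⁻¹ * D.N c) *ᵥ ![0, 1]) := ⟨_, rfl⟩
  have hQ0 := hQ ![1, 0] ![0, 1]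
  rw [← hx, h01, mul_one] at hQ0
  obtain ⟨s, hs0, hs⟩ : ∃ s : ZMod 3, s ≠ 0 ∧ D.σ c (D.μ 1) = D.μ s := by
    have hx0 : x ≠ 0 := by
      intro h
      rw [h, map_zero, map_zero] at hQ0
      exact hδ (D.μ_inj (hQ0.trans (map_zero D.μ).symm))
    rcases zmod3_ne hx0 with h | h
    · exact ⟨_, hδ, by rw [hQ0, h]⟩
    · refine ⟨-(D.N c).det, neg_ne_zero.2 hδ, ?_⟩
      rw [h, map_neg, map_neg] at hQ0
      rw [map_neg, hQ0, neg_neg]
  have hσμ : ∀ y, D.σ c (D.μ y) = D.μ (s * y) := by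
    intro y
    rcases eq_or_ne y 0 with rfl | hy
    · simp
    rcases zmod3_ne hy with rfl | rfl
    · rw [mul_one, hs]
    · rw [map_neg, map_neg, hs, mul_neg_one, map_neg]
  have hNN : s • (D.N c⁻¹ * D.N c) = (D.N c).det • (1 : Matrix (Fin 2) (Fin 2) (ZMod 3)) := by
    refine det2_matrix_ext fun a b => ?_
    have h1 := hQ a b
    rw [hσμ] at h1
    rw [smul_mulVec, smul_mulVec, one_mulVec]
    have := D.μ_inj h1
    simp only [det2, Pi.smul_apply, smul_eq_mul] at this ⊢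
    linear_combination -this
  have hθ : ∀ a b, D.β (D.θ (c • D.φ a)) (D.θ (c • D.φ b)) = D.μ ((s - (D.N c).det) * det2 a b) := by
    intro a b
    have h1 := D.hβ c hc (D.φ a) (D.φ b)
    rw [D.β_phi, hσμ, D.smul_phi c a, D.smul_phi c b] at h1
    simp only [map_add, AddMonoidHom.add_apply, D.β_phi, D.β_phi_fixed _ (D.p_θ _), det2_mulVec,
      D.β_skew (D.θ (c • D.φ a)) (D.φ _), neg_zero, add_zero, zero_add] at h1
    rw [sub_mul, map_sub, ← h1, add_sub_cancel_left]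
  have hsd : s = (D.N c).det := by
    by_contra hne
    have hs' : s = -(D.N c).det := by
      rcases zmod3_ne hs0 with h | h <;> rcases zmod3_ne hδ with h' | h' <;> rw [h, h'] at hne ⊢ <;>
        simp at hne ⊢
    have hNN' : D.N c⁻¹ * D.N c = -1 := by
      have h1 := hNN
      rw [hs', neg_smul, ← smul_neg] at h1
      exact neg_eq_iff_eq_neg.1 (smul_right_injective _ hδ h1)
    refine D.not_into_fixed (c := c * (D.t * c⁻¹ * D.t⁻¹))
      (mul_mem hc (D.hCn.conj_mem _ (inv_mem hc) D.t)) fun b => ?_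
    obtain ⟨a, rfl⟩ : ∃ a, D.N c *ᵥ a = b :=
      ⟨(D.N c)⁻¹ *ᵥ b, by rw [mulVec_mulVec, mul_nonsing_inv _ (isUnit_iff_ne_zero.2 hδ), one_mulVec]⟩
    obtain ⟨g, hg⟩ : ∃ g, g = c⁻¹ • D.φ (D.N c *ᵥ a) + D.φ a := ⟨_, rfl⟩
    have hg0 : D.p g = 0 := by
      rw [hg, map_add, p_phi, ← D.N_mulVec, mulVec_mulVec, hNN', neg_mulVec, one_mulVec, neg_add_cancel]
    have hcg : c • g = D.φ (D.N c *ᵥ a) + c • D.φ a := by rw [hg, smul_add, smul_inv_smul]
    have hci : c⁻¹ • D.φ (D.N c *ᵥ a) = g - D.φ a := by rw [hg, add_sub_cancel_right]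
    have hpa : D.p (c • D.φ a) = D.N c *ᵥ a := (D.N_mulVec c a).symm
    simp only [mul_smul, D.tinv_phi, smul_neg, hci, smul_sub, D.t_fix_iff.2 hg0, D.ht, hcg, sub_neg_eq_add,
      smul_add, map_neg, map_add, p_phi, hpa]
    have h3 := congrArg D.p (D.h3 (D.φ (D.N c *ᵥ a)))
    simp only [map_add, p_phi, map_zero] at h3
    linear_combination (norm := abel) -h3
  refine ⟨hδ, fun y => by rw [hσμ, hsd], ?_, fun a b => by rw [hθ, hsd, sub_self, zero_mul, map_zero]⟩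
  have h1 := hNN
  rw [hsd] at h1
  exact smul_right_injective _ hδ h1

theorem det_mul_three {c d : X} (hc : c ∈ D.C) (hd : d ∈ D.C) :
    (D.N (c * d)).det = (D.N c).det * (D.N d).det := by
  apply D.μ_inj
  have h01 : D.β (D.φ ![1, 0]) (D.φ ![0, 1]) = D.μ 1 := rfl
  have h1 := D.hβ (c * d) (mul_mem hc hd) (D.φ ![1, 0]) (D.φ ![0, 1])
  rw [mul_smul, mul_smul, D.hβ c hc, D.hβ d hd, h01, (D.key_three hd).2.1, (D.key_three hc).2.1,
    (D.key_three (mul_mem hc hd)).2.1, mul_one, mul_one] at h1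
  exact h1.symm

/-- Fixed parts are isotropic. -/
theorem iso_three {c : X} (hc : c ∈ D.C) {d : X} (hd : d ∈ D.C) (a b : Fin 2 → ZMod 3) :
    D.β (D.θ (c • D.φ a)) (D.θ (d • D.φ b)) = 0 := by
  obtain ⟨hcd, hcs, -, -⟩ := D.key_three hc
  -- the value is given by a matrix
  have hval : ∀ d ∈ D.C, ∀ a b, D.β (D.θ (c • D.φ a)) (D.θ (d • D.φ b)) =
      D.μ (det2 (D.N c *ᵥ a) ((D.N c * D.N (c⁻¹ * d) - D.N d) *ᵥ b)) := by
    intro d hd a b
    have h1 : D.β (c • D.φ a) (d • D.φ b) = D.μ (det2 (D.N c *ᵥ a) ((D.N c * D.N (c⁻¹ * d)) *ᵥ b)) := by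
      rw [← mulVec_mulVec, det2_mulVec, ← hcs, D.N_mulVec (c⁻¹ * d), ← D.β_phi_left, ← D.hβ c hc, ← mul_smul,
        mul_inv_cancel_left]
    rw [D.smul_phi c a, D.smul_phi d b] at h1
    simp only [map_add, AddMonoidHom.add_apply, D.β_phi, D.β_phi_fixed _ (D.p_θ _),
      D.β_skew (D.θ (c • D.φ a)) (D.φ _), neg_zero, add_zero, zero_add] at h1
    rw [sub_mulVec, show det2 (D.N c *ᵥ a) ((D.N c * D.N (c⁻¹ * d)) *ᵥ b - D.N d *ᵥ b) =
      det2 (D.N c *ᵥ a) ((D.N c * D.N (c⁻¹ * d)) *ᵥ b) - det2 (D.N c *ᵥ a) (D.N d *ᵥ b) by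
      simp [det2]; ring, map_sub, ← h1, add_sub_cancel_left]
  suffices h0 : D.N c * D.N (c⁻¹ * d) - D.N d = 0 by
    rw [hval d hd, h0, zero_mulVec]
    simp [det2]
  have hdd := (D.key_three hd).1
  obtain ⟨Y, hY⟩ : ∃ Y, Y = (D.N c * D.N (c⁻¹ * d) - D.N d) * (D.N d)⁻¹ := ⟨_, rfl⟩
  suffices h0 : Y = 0 by
    have h1 := congrArg (· * D.N d) h0
    simpa [hY, mul_assoc, nonsing_inv_mul _ (isUnit_iff_ne_zero.2 hdd)] using h1
  have hdet : ∀ q : Matrix (Fin 2) (Fin 2) (ZMod 3), q = 1 ∨ q = -1 ∨ q * q = -1 → (1 + Y * q).det = 1 := by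
    intro q hq
    obtain ⟨e, he⟩ := D.quat_mem q hq
    -- conjugate `d` by the inverse
    obtain ⟨d', hd'⟩ : ∃ d', d' = ((e⁻¹ : ↥D.E) : X) * d * (((e⁻¹ : ↥D.E) : X))⁻¹ := ⟨_, rfl⟩
    have hd'C : d' ∈ D.C := hd' ▸ D.hCn.conj_mem d hd _
    have hsm : ∀ b, d' • D.φ ((D.ρ e⁻¹ : Matrix (Fin 2) (Fin 2) (ZMod 3)) *ᵥ b) =
        ((e⁻¹ : ↥D.E) : X) • d • D.φ b := fun b => by
      rw [hd', ← D.hact, mul_smul, mul_smul, inv_smul_smul]
    have hN : D.N d' * (D.ρ e⁻¹ : Matrix (Fin 2) (Fin 2) (ZMod 3)) =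
        (D.ρ e⁻¹ : Matrix (Fin 2) (Fin 2) (ZMod 3)) * D.N d := Matrix.ext_iff_mulVec.2 fun b => by
      rw [← mulVec_mulVec, ← mulVec_mulVec, D.N_mulVec, D.N_mulVec, hsm, D.p_E]
    have hX : (D.N c * D.N (c⁻¹ * d') - D.N d') * (D.ρ e⁻¹ : Matrix (Fin 2) (Fin 2) (ZMod 3)) =
        D.N c * D.N (c⁻¹ * d) - D.N d := by
      refine det2_matrix_ext fun a' b => ?_
      obtain ⟨a, rfl⟩ : ∃ a, D.N c *ᵥ a = a' :=
        ⟨(D.N c)⁻¹ *ᵥ a', by rw [mulVec_mulVec, mul_nonsing_inv _ (isUnit_iff_ne_zero.2 hcd), one_mulVec]⟩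
      apply D.μ_inj
      rw [← mulVec_mulVec, ← hval d' hd'C, ← hval d hd, hsm, D.θ_E]
    have hinv : q * (D.ρ e⁻¹ : Matrix (Fin 2) (Fin 2) (ZMod 3)) = 1 := by
      rw [← he, ← Matrix.SpecialLinearGroup.coe_mul, ← map_mul, mul_inv_cancel, map_one,
        Matrix.SpecialLinearGroup.coe_one]
    have hinv' : (D.ρ e⁻¹ : Matrix (Fin 2) (Fin 2) (ZMod 3)) * q = 1 := mul_eq_one_comm.1 hinv
    have key : (1 + Y * q) * D.N d' = D.N c * D.N (c⁻¹ * d') := by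
      calc (1 + Y * q) * D.N d' = D.N d' + Y * (q * (D.N d' * ((D.ρ e⁻¹ : Matrix (Fin 2) (Fin 2) (ZMod 3)) * q))) := by
            rw [hinv', mul_one, add_mul, one_mul, mul_assoc]
        _ = D.N d' + Y * ((q * (D.ρ e⁻¹ : Matrix (Fin 2) (Fin 2) (ZMod 3))) * (D.N d * q)) := by
            rw [← mul_assoc (D.N d'), hN, mul_assoc, mul_assoc]
        _ = D.N d' + (D.N c * D.N (c⁻¹ * d) - D.N d) * q := by
            rw [hinv, one_mul, hY, mul_assoc (_ - _), ← mul_assoc (D.N d)⁻¹,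
              nonsing_inv_mul _ (isUnit_iff_ne_zero.2 hdd), one_mul]
        _ = D.N c * D.N (c⁻¹ * d') := by
            rw [← hX, mul_assoc, hinv', mul_one, add_sub_cancel]
    have h1 := congrArg Matrix.det key
    rw [det_mul, det_mul, ← D.det_mul_three hc (mul_mem (inv_mem hc) hd'C), mul_inv_cancel_left] at h1
    exact mul_eq_right₀ ((D.key_three hd'C).1) |>.1 h1
  have hneg : ∀ q : Matrix (Fin 2) (Fin 2) (ZMod 3), -q = 1 ∨ -q = -1 ∨ -q * -q = -1 → (1 - Y * q).det = 1 := by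
    intro q hq
    have := hdet _ hq
    rwa [mul_neg, ← sub_eq_add_neg] at this
  exact quat_translate Y (by simpa using hdet 1 (Or.inl rfl)) (by simpa using hneg 1 (Or.inr (Or.inl rfl)))
    (hdet _ (Or.inr (Or.inr (by decide)))) (hneg _ (Or.inr (Or.inr (by decide))))
    (hdet _ (Or.inr (Or.inr (by decide)))) (hneg _ (Or.inr (Or.inr (by decide))))
    (hdet _ (Or.inr (Or.inr (by decide)))) (hneg _ (Or.inr (Or.inr (by decide))))

/-- The fixed summand is invariant and `C` commutes with `E` modulo it. -/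
theorem concl_three {c : X} (hc : c ∈ D.C) :
    (∀ f, D.p f = 0 → D.p (c • f) = 0) ∧
      ∀ (e : ↥D.E) (v : V), D.p (c • (e : X) • v) = D.p ((e : X) • c • v) := by
  have hiso := D.iso_of_gen fun c hc d hd a b => D.iso_three hc hd a b
  have hinvF : ∀ c ∈ D.C, ∀ f, D.p f = 0 → D.p (c • f) = 0 := fun c hc f hf => D.inv_of_iso hiso hc hf
  refine ⟨hinvF c hc, fun e v => ?_⟩
  have hp : ∀ c ∈ D.C, ∀ v, D.p (c • v) = D.N c *ᵥ D.p v := fun c hc v => by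
    rw [D.p_smul_of_inv (hinvF c hc), D.N_mulVec]
  obtain ⟨hdet, -, -, -⟩ := D.key_three hc
  suffices h : D.N c * (D.ρ e : Matrix (Fin 2) (Fin 2) (ZMod 3)) = (D.ρ e : Matrix (Fin 2) (Fin 2) (ZMod 3)) * D.N c by
    rw [hp c hc, D.p_E, D.p_E, hp c hc, mulVec_mulVec, mulVec_mulVec, h]
  -- replace `c` by an element commuting with the involution
  have hci := inv_mem hc
  have htcC : D.t * c * D.t⁻¹ ∈ D.C := D.hCn.conj_mem c hc D.t
  obtain ⟨d, hd⟩ : ∃ d, d = D.t * c * D.t⁻¹ * c⁻¹ := ⟨_, rfl⟩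
  have hdC : d ∈ D.C := hd ▸ mul_mem htcC hci
  have hdp : ∀ v, D.p (d • v) = D.p v := fun v => by
    rw [hd, mul_smul, mul_smul, mul_smul, D.p_t, hp c hc, D.p_tinv, mulVec_neg, neg_neg, ← hp c hc,
      smul_inv_smul]
  have hdfix : ∀ f, D.p f = 0 → d • f = f := fun f hf => by
    rw [hd, mul_smul, mul_smul, mul_smul, D.tinv_fixed (hinvF _ hci f hf), smul_inv_smul, D.t_fix_iff.2 hf]
  obtain ⟨ν, hν, hνf⟩ : ∃ ν : V → V, (∀ w, d • w = w + ν w) ∧ ∀ w, D.p (ν w) = 0 :=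
    ⟨fun w : V => d • w - w, fun w => (add_sub_cancel w _).symm, fun w => by rw [map_sub, hdp, sub_self]⟩
  have hν2 : ∀ w, ν (D.t⁻¹ • w) = -ν w := by
    intro w
    have e1 : D.t⁻¹ • w = -D.φ (D.p w) + D.θ w := by
      conv_lhs => rw [D.decomp w]
      rw [smul_add, D.tinv_phi, D.tinv_fixed (D.p_θ w)]
    have e2 : ∀ w, ν w = d • D.φ (D.p w) - D.φ (D.p w) := fun w => by
      have := hν w
      conv at this => lhs; rw [D.decomp w, smul_add, hdfix _ (D.p_θ w)]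
      rw [D.θ_def] at this
      linear_combination (norm := abel) -this
    rw [e2, e2 w, D.p_tinv, map_neg, smul_neg]
    abel
  have hdi : ∀ w : V, d⁻¹ • w = w - ν w := fun w => by
    rw [inv_smul_eq_iff, smul_sub, hν, hdfix _ (hνf w), add_sub_cancel_right]
  obtain ⟨c', hc'⟩ : ∃ c', c' = d⁻¹ * c := ⟨_, rfl⟩
  have hc'C : c' ∈ D.C := hc' ▸ mul_mem (inv_mem hdC) hc
  have hc't : ∀ v : V, c' • D.t • v = D.t • c' • v := by
    intro v
    have h1 : c • D.t • v = d⁻¹ • D.t • c • v := by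
      rw [hd, _root_.mul_inv_rev, inv_inv, mul_smul, _root_.mul_inv_rev, _root_.mul_inv_rev, inv_inv, mul_smul, mul_smul,
        inv_smul_smul, inv_smul_smul]
    have hdifix : ∀ f : V, D.p f = 0 → d⁻¹ • f = f := fun f hf => by rw [inv_smul_eq_iff, hdfix f hf]
    rw [hc', mul_smul, mul_smul, h1, hdi (D.t • c • v), smul_sub, hdifix _ (hνf _), hdi, hdi (c • v), smul_sub,
      D.t_fix_iff.2 (hνf _)]
    have h2 := hν2 (D.t • (c • v))
    rw [inv_smul_smul] at h2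
    rw [h2]
    have h3 := D.h3 (ν (D.t • c • v))
    linear_combination (norm := abel) -h3
  have hact : ∀ a, c' • D.φ a = D.φ (D.N c *ᵥ a) := by
    intro a
    have h1 : D.t • c' • D.φ a = -(c' • D.φ a) := by rw [← hc't, D.ht, smul_neg]
    have h2 := D.phi_p (c' • D.φ a)
    have h3 : D.p (c' • D.φ a) = D.N c *ᵥ a := by
      rw [hc', mul_smul, hdi, map_sub, hνf, sub_zero, hp c hc, p_phi]
    rw [← h3, h2, h1, sub_eq_add_neg, D.two_add, neg_neg]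
  rcases quat_normalizer _ hdet with hcen | ⟨hM, -⟩ | ⟨q, q2, hq, hq2, hMq⟩
  · exact hcen _ (D.rho_quat e)
  · exfalso
    obtain ⟨e0, he0⟩ := D.quat_mem _ (Or.inr (Or.inr hM))
    obtain ⟨A, hA, hne⟩ := quat_not_central _ hM
    obtain ⟨e1, he1⟩ := D.quat_mem A (Or.inr (Or.inr hA))
    refine hne ?_
    rw [← he0, ← he1]
    exact congrArg Subtype.val (D.hT c' hc'C hc't e0 (fun a => by rw [hact, D.hact, he0]) e1).eq
  · exfalso
    obtain ⟨eq', heq⟩ := D.quat_mem q (Or.inr (Or.inr hq))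
    obtain ⟨e2, he2⟩ := D.quat_mem q2 (Or.inr (Or.inr hq2))
    obtain ⟨A, hA, hne⟩ := quat_not_central _ hq2
    obtain ⟨e1, he1⟩ := D.quat_mem A (Or.inr (Or.inr hA))
    obtain ⟨c2, hc2⟩ : ∃ c2, c2 = c' * (eq' : X) * c'⁻¹ * (eq' : X)⁻¹ := ⟨_, rfl⟩
    have hc2C : c2 ∈ D.C := by
      rw [hc2, mul_assoc c', mul_assoc c']
      exact mul_mem hc'C (D.hCn.conj_mem _ (inv_mem hc'C) _)
    have hc'i : ∀ v : V, c'⁻¹ • D.t • v = D.t • c'⁻¹ • v := fun v => by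
      rw [inv_smul_eq_iff, hc't, smul_inv_smul]
    have heti : ∀ v : V, (eq' : X)⁻¹ • D.t • v = D.t • (eq' : X)⁻¹ • v := fun v => by
      rw [inv_smul_eq_iff, D.hcomm, smul_inv_smul]
    refine hne ?_
    rw [← he2, ← he1]
    refine congrArg Subtype.val (D.hT c2 hc2C (fun v => ?_) e2 (fun a => ?_) e1).eq
    · simp only [hc2, mul_smul, heti, hc'i, D.hcomm, hc't]
    · obtain ⟨b, rfl⟩ : ∃ b, q *ᵥ (D.N c *ᵥ b) = a := ⟨(q * D.N c)⁻¹ *ᵥ a, by
        have hu : IsUnit (q * D.N c).det := by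
          rw [det_mul, ← heq, Matrix.SpecialLinearGroup.det_coe, one_mul]
          exact isUnit_iff_ne_zero.2 hdet
        rw [mulVec_mulVec, mulVec_mulVec, mul_nonsing_inv _ hu, one_mulVec]⟩
      have h1 : (eq' : X)⁻¹ • D.φ (q *ᵥ (D.N c *ᵥ b)) = c' • D.φ b := by
        rw [inv_smul_eq_iff, hact, D.hact, heq]
      rw [hc2, mul_smul, mul_smul, mul_smul, D.hact e2, he2, h1, inv_smul_smul, D.hact, heq, hact, mulVec_mulVec,
        hMq, ← mulVec_mulVec, ← mulVec_mulVec]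

end Data

end CfsgLib.LocalEven.BlockCent
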